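import Groth.Agent.Lib.Hensel.Pair
import Mathlib.Dynamics.Newton

/-!
# Permanence properties of henselian pairs
-/

namespace GrothLib.Hensel

open Polynomial

universe u v

variable {A : Type u} [CommRing A]

/-- The henselian property passes to integral algebras. -/
theorem henselianRing_of_isIntegral (I : Ideal A) [HenselianRing A I] (B : Type v) [CommRing B]
    [Algebra A B] [Algebra.IsIntegral A B] :
    HenselianRing B (I.map (algebraMap A B)) := by
  refine henselianRing_of_idempotents_bijOn fun C _ _ _ ↦ ?_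
  let _ : Algebra A C := ((algebraMap B C).comp (algebraMap A B)).toAlgebra
  have : IsScalarTower A B C := .of_algebraMap_eq' rfl
  have : Algebra.IsIntegral A C := Algebra.IsIntegral.trans B
  rw [show (I.map (algebraMap A B)).map (algebraMap B C) = I.map (algebraMap A C) by
    rw [Ideal.map_map]; rfl]
  exact idempotent_bijOn

theorem henselianRing_quotient (I J : Ideal A) [HenselianRing A J] :
    HenselianRing (A ⧸ I) (J.map (Ideal.Quotient.mk I)) :=
  henselianRing_of_isIntegral J (A ⧸ I)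

/-- Transitivity along a quotient. -/
theorem henselianRing_of_le_of_quotient {I J : Ideal A} (hIJ : I ≤ J) [HenselianRing A I]
    [HenselianRing (A ⧸ I) (J.map (Ideal.Quotient.mk I))] : HenselianRing A J := by
  refine EtaleLift.henselianRing fun A' _ _ _ σ ↦ ?_
  let e : ((A ⧸ I) ⧸ (J.map (Ideal.Quotient.mk I) : Ideal (A ⧸ I))) ≃ₐ[A] A ⧸ J :=
    DoubleQuot.quotQuotEquivQuotOfLEₐ A hIJ
  obtain ⟨τ₁, hτ₁⟩ := exists_algHom_lift (R := A) (I := J.map (Ideal.Quotient.mk I))
    (e.symm.toAlgHom.comp σ)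
  obtain ⟨τ, hτ⟩ := exists_algHom_lift (R := A) (I := I) τ₁
  refine ⟨τ, ?_⟩
  ext x
  have h := AlgHom.congr_fun hτ₁ x
  rw [← hτ] at h
  have h2 := congrArg e h
  simp only [AlgHom.comp_apply, AlgEquiv.coe_toAlgHom, AlgEquiv.apply_symm_apply] at h2
  rw [← h2]
  rfl

theorem henselianRing_of_le {I J : Ideal A} (hIJ : I ≤ J) [HenselianRing A J] :
    HenselianRing A I := by
  refine henselianRing_of_rootCond (hIJ.trans HenselianRing.jac) fun n hn p hp hpI ↦ ?_
  obtain ⟨α, hα, hroot⟩ := rootCond_of_henselianRing J n hn p hp fun i ↦ hIJ (hpI i)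
  refine ⟨α, ?_, hroot⟩
  have hu : IsUnit α := isUnit_of_sub_one_mem (HenselianRing.jac) hα
  have h0 : α ^ n * (α - 1) = -(p.eval α) := by
    rw [eq_neg_iff_add_eq_zero]
    simpa [IsRoot] using hroot
  have hp' : p.eval α ∈ I := by
    rw [eval_eq_sum_range]
    exact Ideal.sum_mem _ fun i _ ↦ I.mul_mem_right _ (hpI i)
  exact (I.unit_mul_mem_iff_mem (hu.pow n)).mp (by rw [h0]; exact I.neg_mem hp')

theorem henselianRing_iff_of_le {I J : Ideal A} (hIJ : I ≤ J) :
    HenselianRing A J ↔
      (HenselianRing A I ∧ HenselianRing (A ⧸ I) (J.map (Ideal.Quotient.mk I))) :=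
  ⟨fun _ ↦ ⟨henselianRing_of_le hIJ, henselianRing_quotient I J⟩,
    fun ⟨_, _⟩ ↦ henselianRing_of_le_of_quotient hIJ⟩

/-- Locally nilpotent ideals are henselian. -/
theorem henselianRing_of_isNilpotent (I : Ideal A) (hI : ∀ x ∈ I, IsNilpotent x) :
    HenselianRing A I := by
  have hjac : I ≤ Ideal.jacobson ⊥ :=
    le_jacobson_of_forall_isUnit_one_add fun a ha ↦ (hI a ha).isUnit_one_add
  refine ⟨hjac, fun f _ a₀ h₁ h₂ ↦ ?_⟩
  obtain ⟨r, ⟨hr, hr0⟩, -⟩ := existsUnique_nilpotent_sub_and_aeval_eq_zero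
    (P := f) (x := a₀) (by simpa using hI _ h₁) (by simpa using isUnit_of_isUnit_mk hjac h₂)
  rw [coe_aeval_eq_eval] at hr0
  refine ⟨r, hr0, ?_⟩
  obtain ⟨s, hs⟩ := X_sub_C_dvd_sub_C_eval (p := f) (a := a₀)
  have he : -(f.eval a₀) = (r - a₀) * s.eval r := by simpa [hr0] using congrArg (eval r) hs
  have hs0 : s.eval a₀ = f.derivative.eval a₀ := by
    simpa using (congrArg (fun q ↦ q.derivative.eval a₀) hs).symm
  have hsu : IsUnit (s.eval r) := by
    obtain ⟨t, ht⟩ := X_sub_C_dvd_sub_C_eval (p := s) (a := a₀)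
    have h3 : s.eval r - s.eval a₀ = (r - a₀) * t.eval r := by
      simpa using congrArg (eval r) ht
    have hnil : IsNilpotent ((r - a₀) * t.eval r) := by
      refine Commute.isNilpotent_mul_right (Commute.all _ _) ?_
      simpa using hr.neg
    rw [show s.eval r = s.eval a₀ + (r - a₀) * t.eval r by rw [← h3]; ring]
    rw [hs0]
    exact hnil.isUnit_add_left_of_commute (isUnit_of_isUnit_mk hjac h₂) (Commute.all _ _)
  exact (I.mul_unit_mem_iff_mem hsu).mp (he ▸ I.neg_mem h₁)

/-- The henselian property only depends on the closed set. -/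
theorem henselianRing_iff_of_radical_eq {I J : Ideal A} (h : I.radical = J.radical) :
    HenselianRing A I ↔ HenselianRing A J := by
  suffices H : ∀ K : Ideal A, HenselianRing A K → HenselianRing A K.radical by
    constructor
    · intro hI
      have := H I hI
      rw [h] at this
      exact henselianRing_of_le (Ideal.le_radical)
    · intro hJ
      have := H J hJ
      rw [← h] at this
      exact henselianRing_of_le (Ideal.le_radical)
  intro K _
  have : HenselianRing (A ⧸ K) (K.radical.map (Ideal.Quotient.mk K)) := by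
    refine henselianRing_of_isNilpotent _ fun x hx ↦ ?_
    obtain ⟨y, ⟨n, hn⟩, rfl⟩ := (Ideal.mem_map_iff_of_surjective _ Ideal.Quotient.mk_surjective).mp hx
    exact ⟨n, by rw [← map_pow]; exact Ideal.Quotient.eq_zero_iff_mem.mpr hn⟩
  exact henselianRing_of_le_of_quotient (Ideal.le_radical)

theorem henselianRing_sup {I J : Ideal A} [HenselianRing A I] [HenselianRing A J] :
    HenselianRing A (I ⊔ J) := by
  have := henselianRing_quotient I J
  have : HenselianRing (A ⧸ I) ((I ⊔ J).map (Ideal.Quotient.mk I)) := by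
    simpa [Ideal.map_sup, Ideal.map_quotient_self] using this
  exact henselianRing_of_le_of_quotient le_sup_left

/-- Henselian ideals are stable under directed suprema. -/
theorem henselianRing_sSup {s : Set (Ideal A)} (hne : s.Nonempty) (hd : DirectedOn (· ≤ ·) s)
    (hs : ∀ I ∈ s, HenselianRing A I) : HenselianRing A (sSup s) := by
  have hjac : sSup s ≤ Ideal.jacobson ⊥ := sSup_le fun I hI ↦ (hs I hI).jac
  refine ⟨hjac, fun f hf a₀ h₁ h₂ ↦ ?_⟩
  obtain ⟨I, hI, hmem⟩ := (Submodule.mem_sSup_of_directed hne hd).mp h₁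
  have := hs I hI
  obtain ⟨a, ha, ha'⟩ := HenselianRing.is_henselian (I := I) f hf a₀ hmem
    ((isUnit_of_isUnit_mk hjac h₂).map _)
  exact ⟨a, ha, le_sSup hI ha'⟩

theorem exists_largest_henselian (A : Type u) [CommRing A] :
    ∃ I : Ideal A, HenselianRing A I ∧ ∀ J : Ideal A, HenselianRing A J → J ≤ I := by
  refine ⟨sSup {J | HenselianRing A J}, henselianRing_sSup
    ⟨⊥, henselianRing_of_isNilpotent ⊥ fun x hx ↦ ⟨1, by simpa using hx⟩⟩
    (fun I hI J hJ ↦ ?_) (fun _ h ↦ h), fun J hJ ↦ le_sSup hJ⟩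
  have hI' : HenselianRing A I := hI
  have hJ' : HenselianRing A J := hJ
  exact ⟨I ⊔ J, henselianRing_sup, le_sup_left, le_sup_right⟩

end GrothLib.Hensel
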