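import Groth.Agent.Lib.Hensel.LocalHull
import Mathlib.RingTheory.Flat.FaithfullyFlat.Algebra

/-!
# Existence and properties of (strict) henselizations of local rings

Every `Hensel.IsHenselization R S` is `Hull R (ResidueField R)`; every
`Hensel.IsStrictHenselization R S` is `Hull R (SeparableClosure (ResidueField R))`.
-/

namespace GrothLib.Hensel

open IsLocalRing

universe u

variable (R : Type u) [CommRing R] [IsLocalRing R]

/-- The henselization of a local ring. -/
abbrev Hens : Type u := Hull R (ResidueField R)

/-- The strict henselization of a local ring. -/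
abbrev StrictHens : Type u := Hull R (SeparableClosure (ResidueField R))

theorem Hens.isPairHenselization :
    Hens2.IsPairHenselization R (maximalIdeal R) (Hens R) :=
  PairHull.isPairHenselization R (maximalIdeal R)

theorem map_le_maximalIdeal_of_isLocalHom {R T : Type u} [CommRing R] [IsLocalRing R] [CommRing T]
    [IsLocalRing T] {f : R →+* T} (hf : IsLocalHom f) :
    (maximalIdeal R).map f ≤ maximalIdeal T :=
  ((local_hom_TFAE f).out 0 2 rfl rfl).mp hf

instance Hens.isHenselization : _root_.Hensel.IsHenselization R (Hens R) where
  henselian := inferInstance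
  universal T _ _ f hf :=
    (Hens.isPairHenselization R).2 T (maximalIdeal T) f inferInstance
      (map_le_maximalIdeal_of_isLocalHom hf)

instance StrictHens.isStrictHenselization :
    _root_.Hensel.IsStrictHenselization R (StrictHens R) where
  henselian := inferInstance
  isSepClosure := isSepClosure_of_algEquiv
    (FieldHull.residueEquiv (R := R) (C := SeparableClosure (ResidueField R))).symm
  universal T _ _ f hf τ hτ := by
    let _ : Algebra R T := f.toAlgebra
    have : IsLocalHom (algebraMap R T) := hf
    let e := FieldHull.residueEquiv (R := R) (C := SeparableClosure (ResidueField R))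
    let γ : SeparableClosure (ResidueField R) →ₐ[R] T ⧸ maximalIdeal T :=
      { τ.comp e.symm.toRingEquiv.toRingHom with
        commutes' := fun r ↦ by
          show τ (e.symm (algebraMap R _ r)) = residue T (f r)
          rw [IsScalarTower.algebraMap_apply R (ResidueField R), AlgEquiv.commutes]
          exact RingHom.congr_fun hτ (residue R r) }
    obtain ⟨g, hg, huniq⟩ := Hull.existsUnique_lift (maximalIdeal T) γ
    have hγ : ∀ x, γ (Hull.proj x) = τ (residue (StrictHens R) x) := fun x ↦ by
      show τ (e.symm _) = _
      rw [← FieldHull.residueEquiv_residue, e.symm_apply_apply]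
    refine ⟨g.toRingHom, ⟨g.comp_algebraMap, fun x ↦ (AlgHom.congr_fun hg x).trans (hγ x)⟩, ?_⟩
    rintro g' ⟨hg'1, hg'2⟩
    let g₁ : StrictHens R →ₐ[R] T := { g' with commutes' := RingHom.congr_fun hg'1 }
    exact congrArg AlgHom.toRingHom
      (huniq g₁ (AlgHom.ext fun x ↦ (hg'2 x).trans (hγ x).symm))

variable {R} {S S' : Type u} [CommRing S] [IsLocalRing S] [Algebra R S]
  [IsLocalHom (algebraMap R S)] [CommRing S'] [IsLocalRing S'] [Algebra R S']
  [IsLocalHom (algebraMap R S')]

theorem IsHenselization.subsingleton_algHom [hS : _root_.Hensel.IsHenselization R S] (T : Type u)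
    [CommRing T] [HenselianLocalRing T] [Algebra R T] [IsLocalHom (algebraMap R T)] :
    Subsingleton (S →ₐ[R] T) :=
  ⟨fun f g ↦ AlgHom.coe_ringHom_injective
    ((hS.universal T (algebraMap R T) inferInstance).unique f.comp_algebraMap g.comp_algebraMap)⟩

/-- Henselizations are unique. -/
theorem IsHenselization.nonempty_algEquiv [hS : _root_.Hensel.IsHenselization R S]
    [hS' : _root_.Hensel.IsHenselization R S'] : Nonempty (S ≃ₐ[R] S') := by
  have := hS.henselian
  have := hS'.henselian
  obtain ⟨g, hg, -⟩ := hS.universal S' (algebraMap R S') inferInstance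
  obtain ⟨g', hg', -⟩ := hS'.universal S (algebraMap R S) inferInstance
  have := IsHenselization.subsingleton_algHom (R := R) (S := S) S
  have := IsHenselization.subsingleton_algHom (R := R) (S := S') S'
  let G : S →ₐ[R] S' := { g with commutes' := RingHom.congr_fun hg }
  let G' : S' →ₐ[R] S := { g' with commutes' := RingHom.congr_fun hg' }
  exact ⟨AlgEquiv.ofAlgHom G G' (Subsingleton.elim _ _) (Subsingleton.elim _ _)⟩

/-- Any henselization is the colimit of étale neighbourhoods. -/
theorem IsHenselization.nonempty_hens_algEquiv [_root_.Hensel.IsHenselization R S] :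
    Nonempty (Hens R ≃ₐ[R] S) :=
  IsHenselization.nonempty_algEquiv

theorem IsHenselization.isPairHenselization [_root_.Hensel.IsHenselization R S] :
    Hens2.IsPairHenselization R (maximalIdeal R) S :=
  IsPairHenselization.of_algEquiv (Hens.isPairHenselization R)
    IsHenselization.nonempty_hens_algEquiv.some

theorem IsStrictHenselization.algHom_eq_id [hS : _root_.Hensel.IsStrictHenselization R S]
    (f : S →ₐ[R] S) (hf : ∀ x, residue S (f x) = residue S x) : f = AlgHom.id R S := by
  have := hS.henselian
  obtain ⟨g, -, huniq⟩ := hS.universal S (algebraMap R S) (RingHom.id _) (RingHom.id_comp _)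
  exact AlgHom.coe_ringHom_injective
    ((huniq f.toRingHom ⟨f.comp_algebraMap, hf⟩).trans
      (huniq (RingHom.id S) ⟨RingHom.id_comp _, fun _ ↦ rfl⟩).symm)

theorem IsStrictHenselization.exists_algHom [hS : _root_.Hensel.IsStrictHenselization R S]
    (T : Type u) [CommRing T] [HenselianLocalRing T] [Algebra R T] [IsLocalHom (algebraMap R T)]
    (τ : ResidueField S →ₐ[ResidueField R] ResidueField T) :
    ∃ g : S →ₐ[R] T, ∀ x, residue T (g x) = τ (residue S x) := by
  obtain ⟨g, ⟨h1, h2⟩, -⟩ := hS.universal T (algebraMap R T) τ.toRingHom τ.comp_algebraMap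
  exact ⟨{ g with commutes' := RingHom.congr_fun h1 }, h2⟩

/-- Strict henselizations are unique. -/
theorem IsStrictHenselization.nonempty_algEquiv [hS : _root_.Hensel.IsStrictHenselization R S]
    [hS' : _root_.Hensel.IsStrictHenselization R S'] : Nonempty (S ≃ₐ[R] S') := by
  have := hS.henselian
  have := hS'.henselian
  have := hS.isSepClosure
  have := hS'.isSepClosure
  let τ := IsSepClosure.equiv (ResidueField R) (ResidueField S) (ResidueField S')
  obtain ⟨G, hG⟩ := IsStrictHenselization.exists_algHom (S := S) S' τ.toAlgHom
  obtain ⟨G', hG'⟩ := IsStrictHenselization.exists_algHom (S := S') S τ.symm.toAlgHom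
  refine ⟨AlgEquiv.ofAlgHom G G' ?_ ?_⟩
  · exact IsStrictHenselization.algHom_eq_id _ fun x ↦ by simp [hG, hG']
  · exact IsStrictHenselization.algHom_eq_id _ fun x ↦ by simp [hG, hG']

/-- Any strict henselization is the colimit of étale algebras with a geometric point. -/
theorem IsStrictHenselization.nonempty_strictHens_algEquiv
    [_root_.Hensel.IsStrictHenselization R S] : Nonempty (StrictHens R ≃ₐ[R] S) :=
  IsStrictHenselization.nonempty_algEquiv

theorem map_maximalIdeal_of_algEquiv {S T : Type u} [CommRing S] [IsLocalRing S] [CommRing T]
    [IsLocalRing T] [Algebra R S] [Algebra R T] (e : S ≃ₐ[R] T)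
    (h : (maximalIdeal R).map (algebraMap R S) = maximalIdeal S) :
    (maximalIdeal R).map (algebraMap R T) = maximalIdeal T := by
  rw [← e.toAlgHom.comp_algebraMap, ← Ideal.map_map, h]
  exact eq_maximalIdeal (Ideal.map_isMaximal_of_equiv e.toRingEquiv)

theorem IsHenselization.map_maximalIdeal [_root_.Hensel.IsHenselization R S] :
    (maximalIdeal R).map (algebraMap R S) = maximalIdeal S :=
  map_maximalIdeal_of_algEquiv IsHenselization.nonempty_hens_algEquiv.some
    FieldHull.map_maximalIdeal

theorem IsStrictHenselization.map_maximalIdeal [_root_.Hensel.IsStrictHenselization R S] :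
    (maximalIdeal R).map (algebraMap R S) = maximalIdeal S :=
  map_maximalIdeal_of_algEquiv IsStrictHenselization.nonempty_strictHens_algEquiv.some
    FieldHull.map_maximalIdeal

theorem IsHenselization.flat [_root_.Hensel.IsHenselization R S] : Module.Flat R S :=
  Module.Flat.of_linearEquiv IsHenselization.nonempty_hens_algEquiv.some.symm.toLinearEquiv

theorem IsStrictHenselization.flat [_root_.Hensel.IsStrictHenselization R S] : Module.Flat R S :=
  Module.Flat.of_linearEquiv
    IsStrictHenselization.nonempty_strictHens_algEquiv.some.symm.toLinearEquiv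

theorem IsHenselization.faithfullyFlat [_root_.Hensel.IsHenselization R S] :
    Module.FaithfullyFlat R S :=
  have := IsHenselization.flat (R := R) (S := S)
  .of_flat_of_isLocalHom

theorem IsStrictHenselization.faithfullyFlat [_root_.Hensel.IsStrictHenselization R S] :
    Module.FaithfullyFlat R S :=
  have := IsStrictHenselization.flat (R := R) (S := S)
  .of_flat_of_isLocalHom

theorem IsHenselization.exists_sub_mem [_root_.Hensel.IsHenselization R S] (x : S) :
    ∃ a, x - algebraMap R S a ∈ maximalIdeal S := by
  rw [← IsHenselization.map_maximalIdeal (R := R) (S := S)]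
  exact IsPairHenselization.exists_sub_mem IsHenselization.isPairHenselization x

theorem IsHenselization.residueField_map_bijective [_root_.Hensel.IsHenselization R S] :
    Function.Bijective (ResidueField.map (algebraMap R S)) := by
  refine ⟨RingHom.injective _, fun y ↦ ?_⟩
  obtain ⟨y, rfl⟩ := residue_surjective y
  obtain ⟨a, ha⟩ := IsHenselization.exists_sub_mem (R := R) y
  exact ⟨residue R a, by
    rw [ResidueField.map_residue]; exact (Ideal.Quotient.eq.mpr ha).symm⟩

theorem IsHenselization.formallyEtale [_root_.Hensel.IsHenselization R S] :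
    Algebra.FormallyEtale R S :=
  have := Hull.formallyEtale R (ResidueField R)
  .of_equiv IsHenselization.nonempty_hens_algEquiv.some

theorem IsStrictHenselization.formallyEtale [_root_.Hensel.IsStrictHenselization R S] :
    Algebra.FormallyEtale R S :=
  have := Hull.formallyEtale R (SeparableClosure (ResidueField R))
  .of_equiv IsStrictHenselization.nonempty_strictHens_algEquiv.some

theorem IsHenselization.isIndEtale [_root_.Hensel.IsHenselization R S] :
    EtPBC.IsIndEtale R S :=
  isIndEtale_of_algEquiv (Hull.isIndEtale R (ResidueField R))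
    IsHenselization.nonempty_hens_algEquiv.some

theorem IsStrictHenselization.isIndEtale [_root_.Hensel.IsStrictHenselization R S] :
    EtPBC.IsIndEtale R S :=
  isIndEtale_of_algEquiv (Hull.isIndEtale R (SeparableClosure (ResidueField R)))
    IsStrictHenselization.nonempty_strictHens_algEquiv.some

/-- For a local ring, henselization and henselization of the pair `(A, m)` agree. -/
theorem isPairHenselization_iff :
    Hens2.IsPairHenselization R (maximalIdeal R) S ↔ _root_.Hensel.IsHenselization R S := by
  refine ⟨fun h ↦ ?_, fun _ ↦ IsHenselization.isPairHenselization⟩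
  have hmax := map_maximalIdeal_of_algEquiv
    (IsPairHenselization.nonempty_algEquiv (Hens.isPairHenselization R) h).some
    FieldHull.map_maximalIdeal
  exact
    { henselian := henselianLocalRing_of_henselianRing (hmax ▸ h.1)
      universal := fun T _ _ f hf ↦
        h.2 T (maximalIdeal T) f inferInstance (map_le_maximalIdeal_of_isLocalHom hf) }

end GrothLib.Hensel
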