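import Groth.Agent.Lib.Hensel.Hull
import Groth.Prelude.Def_Hens2

/-!
# Henselization of pairs

`Hull A (A ⧸ I)` is the henselization of the pair `(A, I)`; properties of arbitrary henselizations.
-/

namespace GrothLib.Hensel

universe u v

/-- The henselian property transports along ring isomorphisms. -/
theorem henselianRing_of_ringEquiv {A : Type u} {B : Type v} [CommRing A] [CommRing B]
    (e : A ≃+* B) (I : Ideal A) [HenselianRing A I] : HenselianRing B (I.map e.toRingHom) := by
  let _ : Algebra A B := e.toRingHom.toAlgebra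
  have : Algebra.IsIntegral A B := ⟨fun b ↦ by
    obtain ⟨a, rfl⟩ := e.surjective b
    exact isIntegral_algebraMap (R := A) (A := B) (x := a)⟩
  exact henselianRing_of_isIntegral I B

/-- Density modulo an ideal gives density modulo its powers. -/
theorem exists_sub_mem_map_pow {A : Type u} {B : Type v} [CommRing A] [CommRing B] [Algebra A B]
    (I : Ideal A) (h : ∀ x : B, ∃ a, x - algebraMap A B a ∈ I.map (algebraMap A B)) (n : ℕ)
    (x : B) : ∃ a, x - algebraMap A B a ∈ (I ^ n).map (algebraMap A B) := by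
  induction n generalizing x with
  | zero => exact ⟨0, by simp [Ideal.map_top]⟩
  | succ n ih =>
    have key : ∀ y ∈ I.map (algebraMap A B),
        ∃ a ∈ I, y - algebraMap A B a ∈ (I ^ (n + 1)).map (algebraMap A B) := by
      intro y hy
      induction hy using Submodule.span_induction with
      | mem y hy =>
        obtain ⟨i, hi, rfl⟩ := hy
        exact ⟨i, hi, by simp⟩
      | zero => exact ⟨0, I.zero_mem, by simp⟩
      | add y z _ _ hy hz =>
        obtain ⟨a, ha, hya⟩ := hy
        obtain ⟨b, hb, hzb⟩ := hz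
        exact ⟨a + b, I.add_mem ha hb, by
          rw [map_add, add_sub_add_comm]; exact Ideal.add_mem _ hya hzb⟩
      | smul r y _ hy =>
        obtain ⟨a, ha, hya⟩ := hy
        obtain ⟨b, hb⟩ := ih r
        refine ⟨b * a, I.mul_mem_left _ ha, ?_⟩
        rw [show r • y - algebraMap A B (b * a) =
          r * (y - algebraMap A B a) + (r - algebraMap A B b) * algebraMap A B a by
            rw [map_mul, smul_eq_mul]; ring]
        refine Ideal.add_mem _ (Ideal.mul_mem_left _ _ hya) ?_
        rw [pow_succ, Ideal.map_mul]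
        exact Ideal.mul_mem_mul hb (Ideal.mem_map_of_mem _ ha)
    obtain ⟨a, ha⟩ := h x
    obtain ⟨b, -, hb⟩ := key _ ha
    exact ⟨a + b, by rw [map_add, ← sub_sub]; exact hb⟩

theorem quotientMap_bijective_of {A : Type u} {B : Type v} [CommRing A] [CommRing B] [Algebra A B]
    (J : Ideal A) (h₁ : ∀ x : B, ∃ a, x - algebraMap A B a ∈ J.map (algebraMap A B))
    (h₂ : ∀ a, algebraMap A B a ∈ J.map (algebraMap A B) → a ∈ J) :
    Function.Bijective
      (Ideal.quotientMap (J.map (algebraMap A B)) (algebraMap A B) Ideal.le_comap_map) := by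
  refine ⟨Ideal.quotientMap_injective' fun a ha ↦ h₂ a ha, fun x ↦ ?_⟩
  obtain ⟨x, rfl⟩ := Ideal.Quotient.mk_surjective x
  obtain ⟨a, ha⟩ := h₁ x
  refine ⟨Ideal.Quotient.mk J a, ?_⟩
  rw [Ideal.quotientMap_mk]
  exact (Ideal.Quotient.eq.mpr ha).symm

namespace PairHull

variable {A : Type u} [CommRing A] {I : Ideal A}

theorem exists_nbhd (c : A ⧸ I) : ∃ (N : Nbhd A (A ⧸ I)) (a : N.Ring), N.pt a = c := by
  obtain ⟨c, rfl⟩ := Ideal.Quotient.mk_surjective c
  exact ⟨Classical.arbitrary _, algebraMap A _ c, AlgHom.commutes _ c⟩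

theorem proj_surjective : Function.Surjective (Hull.proj : Hull A (A ⧸ I) →ₐ[A] A ⧸ I) :=
  Hull.proj_surjective exists_nbhd

theorem ker_proj : RingHom.ker (Hull.proj : Hull A (A ⧸ I) →ₐ[A] A ⧸ I).toRingHom =
    I.map (algebraMap A (Hull A (A ⧸ I))) := by
  refine le_antisymm (fun x hx ↦ ?_) ?_
  · obtain ⟨N, a, rfl⟩ := Hull.exists_ι x
    obtain ⟨ε, hε1, hε⟩ := exists_sectionElem N.pt
    have h := Ideal.mem_map_of_mem (Hull.ι N).toRingHom (hε a ((Hull.proj_ι N a).symm.trans hx))
    rw [Ideal.map_map, show (Hull.ι N).toRingHom.comp (algebraMap A N.Ring) =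
      algebraMap A (Hull A (A ⧸ I)) from (Hull.ι N).comp_algebraMap] at h
    have h' : Hull.ι N ε * Hull.ι N a ∈ I.map (algebraMap A (Hull A (A ⧸ I))) := by
      rw [← map_mul]; exact h
    refine (Ideal.unit_mul_mem_iff_mem _ ?_).mp h'
    exact Hull.isUnit_of_isUnit_proj (by rw [Hull.proj_ι, hε1]; exact isUnit_one)
  · rw [Ideal.map_le_iff_le_comap]
    intro a ha
    show Hull.proj (algebraMap A (Hull A (A ⧸ I)) a) = 0
    rw [AlgHom.commutes]
    exact Ideal.Quotient.eq_zero_iff_mem.mpr ha

theorem exists_sub_mem (x : Hull A (A ⧸ I)) :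
    ∃ a, x - algebraMap A (Hull A (A ⧸ I)) a ∈ I.map (algebraMap A (Hull A (A ⧸ I))) := by
  obtain ⟨a, ha⟩ := Ideal.Quotient.mk_surjective (Hull.proj x)
  refine ⟨a, ?_⟩
  rw [← ker_proj]
  show Hull.proj (x - algebraMap A _ a) = 0
  rw [map_sub, AlgHom.commutes, ← ha]
  exact sub_self _

variable (A I)

theorem henselianRing :
    HenselianRing (Hull A (A ⧸ I)) (I.map (algebraMap A (Hull A (A ⧸ I)))) := by
  rw [← ker_proj]
  exact Hull.henselianRing

/-- The hull is a henselization of the pair. -/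
theorem isPairHenselization : Hens2.IsPairHenselization A I (Hull A (A ⧸ I)) := by
  refine ⟨henselianRing A I, fun C _ J f hJ hf ↦ ?_⟩
  let _ : Algebra A C := f.toAlgebra
  let γ : A ⧸ I →ₐ[A] C ⧸ J := Ideal.Quotient.liftₐ I (Algebra.ofId A (C ⧸ J)) fun a ha ↦
    Ideal.Quotient.eq_zero_iff_mem.mpr (hf (Ideal.mem_map_of_mem f ha))
  obtain ⟨g, -, huniq⟩ := Hull.existsUnique_lift J γ
  refine ⟨g.toRingHom, g.comp_algebraMap, fun g' hg' ↦ ?_⟩
  let g₁ : Hull A (A ⧸ I) →ₐ[A] C := { g' with commutes' := RingHom.congr_fun hg' }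
  have h1 : g₁ = g := by
    refine huniq g₁ (AlgHom.ext fun x ↦ ?_)
    obtain ⟨a, ha⟩ := exists_sub_mem x
    have h2 : g₁ (x - algebraMap A _ a) ∈ J := by
      have : (I.map (algebraMap A (Hull A (A ⧸ I)))).map g₁.toRingHom ≤ J := by
        rw [Ideal.map_map, show g₁.toRingHom.comp (algebraMap A (Hull A (A ⧸ I))) = f from hg']
        exact hf
      exact this (Ideal.mem_map_of_mem _ ha)
    have h3 : Hull.proj (x - algebraMap A _ a) = 0 := by
      rw [← ker_proj] at ha; exact ha
    rw [map_sub, AlgHom.commutes, sub_eq_zero] at h3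
    rw [map_sub, AlgHom.commutes] at h2
    show Ideal.Quotient.mk J (g₁ x) = γ (Hull.proj x)
    rw [h3, AlgHom.commutes]
    exact Ideal.Quotient.eq.mpr h2
  exact congrArg AlgHom.toRingHom h1

end PairHull

namespace IsPairHenselization

variable {A : Type u} [CommRing A] {I : Ideal A} {B B' : Type u} [CommRing B] [Algebra A B]
  [CommRing B'] [Algebra A B']

/-- The map out of a henselization of a pair, as an algebra map. -/
theorem existsUnique_algHom (hB : Hens2.IsPairHenselization A I B) (C : Type u) [CommRing C]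
    [Algebra A C] (J : Ideal C) [HenselianRing C J] (hJ : I.map (algebraMap A C) ≤ J) :
    Nonempty (Unique (B →ₐ[A] C)) := by
  obtain ⟨g, hg, huniq⟩ := hB.2 C J (algebraMap A C) inferInstance hJ
  exact ⟨⟨⟨{ g with commutes' := RingHom.congr_fun hg }⟩,
    fun f ↦ AlgHom.coe_ringHom_injective (huniq f.toRingHom f.comp_algebraMap)⟩⟩

theorem subsingleton_algHom (hB : Hens2.IsPairHenselization A I B) (C : Type u) [CommRing C]
    [Algebra A C] (J : Ideal C) [HenselianRing C J] (hJ : I.map (algebraMap A C) ≤ J) :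
    Subsingleton (B →ₐ[A] C) := by
  obtain ⟨h⟩ := existsUnique_algHom hB C J hJ
  infer_instance

/-- Henselizations of a pair are isomorphic. -/
theorem nonempty_algEquiv (hB : Hens2.IsPairHenselization A I B)
    (hB' : Hens2.IsPairHenselization A I B') : Nonempty (B ≃ₐ[A] B') := by
  have := hB.1
  have := hB'.1
  obtain ⟨h₁⟩ := existsUnique_algHom hB B' _ le_rfl
  obtain ⟨h₂⟩ := existsUnique_algHom hB' B _ le_rfl
  have := subsingleton_algHom hB B _ le_rfl
  have := subsingleton_algHom hB' B' _ le_rfl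
  exact ⟨AlgEquiv.ofAlgHom h₁.default h₂.default (Subsingleton.elim _ _) (Subsingleton.elim _ _)⟩

theorem of_algEquiv (hB : Hens2.IsPairHenselization A I B) (e : B ≃ₐ[A] B') :
    Hens2.IsPairHenselization A I B' := by
  refine ⟨?_, fun C _ J f hJ hf ↦ ?_⟩
  · have := hB.1
    have h := henselianRing_of_ringEquiv e.toRingEquiv (I.map (algebraMap A B))
    rwa [Ideal.map_map, show e.toRingEquiv.toRingHom.comp (algebraMap A B) = algebraMap A B' from
      e.toAlgHom.comp_algebraMap] at h
  · obtain ⟨g, hg, huniq⟩ := hB.2 C J f hJ hf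
    refine ⟨g.comp e.symm.toAlgHom.toRingHom, ?_, fun g' hg' ↦ ?_⟩
    · show (g.comp e.symm.toAlgHom.toRingHom).comp (algebraMap A B') = f
      rw [RingHom.comp_assoc,
        show e.symm.toAlgHom.toRingHom.comp (algebraMap A B') = algebraMap A B from
          e.symm.toAlgHom.comp_algebraMap, hg]
    · ext x
      have h : g'.comp e.toAlgHom.toRingHom = g := huniq _ (by
        show (g'.comp e.toAlgHom.toRingHom).comp (algebraMap A B) = f
        rw [RingHom.comp_assoc, show e.toAlgHom.toRingHom.comp (algebraMap A B) = algebraMap A B' from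
          e.toAlgHom.comp_algebraMap]
        exact hg')
      simpa using RingHom.congr_fun h (e.symm x)

/-- Any henselization of a pair is the colimit `Hull`. -/
theorem nonempty_hull_algEquiv (hB : Hens2.IsPairHenselization A I B) :
    Nonempty (Hull A (A ⧸ I) ≃ₐ[A] B) :=
  nonempty_algEquiv (PairHull.isPairHenselization A I) hB

theorem flat (hB : Hens2.IsPairHenselization A I B) : Module.Flat A B :=
  Module.Flat.of_linearEquiv (nonempty_hull_algEquiv hB).some.symm.toLinearEquiv

theorem exists_sub_mem (hB : Hens2.IsPairHenselization A I B) (x : B) :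
    ∃ a, x - algebraMap A B a ∈ I.map (algebraMap A B) := by
  let e := (nonempty_hull_algEquiv hB).some
  obtain ⟨a, ha⟩ := PairHull.exists_sub_mem (e.symm x)
  refine ⟨a, ?_⟩
  have h := Ideal.mem_map_of_mem e.toAlgHom.toRingHom ha
  rw [Ideal.map_map, show e.toAlgHom.toRingHom.comp (algebraMap A (Hull A (A ⧸ I))) =
    algebraMap A B from e.toAlgHom.comp_algebraMap] at h
  simpa using h

theorem mem_pow_of_algebraMap_mem (hB : Hens2.IsPairHenselization A I B) {n : ℕ} {a : A}
    (ha : algebraMap A B a ∈ (I ^ n).map (algebraMap A B)) : a ∈ I ^ n := by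
  have : HenselianRing (A ⧸ I ^ n) (I.map (Ideal.Quotient.mk (I ^ n))) := by
    refine henselianRing_of_isNilpotent _ fun x hx ↦ ?_
    obtain ⟨y, hy, rfl⟩ := (Ideal.mem_map_iff_of_surjective _ Ideal.Quotient.mk_surjective).mp hx
    exact ⟨n, by rw [← map_pow]; exact Ideal.Quotient.eq_zero_iff_mem.mpr (Ideal.pow_mem_pow hy n)⟩
  obtain ⟨g, hg, -⟩ := hB.2 (A ⧸ I ^ n) _ (Ideal.Quotient.mk (I ^ n)) this le_rfl
  have h := Ideal.mem_map_of_mem g ha
  rw [Ideal.map_map, hg, Ideal.map_quotient_self, Ideal.mem_bot] at h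
  rw [show g (algebraMap A B a) = Ideal.Quotient.mk (I ^ n) a from RingHom.congr_fun hg a] at h
  exact Ideal.Quotient.eq_zero_iff_mem.mp h

theorem quotientMap_pow_bijective (hB : Hens2.IsPairHenselization A I B) (n : ℕ) :
    Function.Bijective
      (Ideal.quotientMap ((I ^ n).map (algebraMap A B)) (algebraMap A B) Ideal.le_comap_map) :=
  quotientMap_bijective_of _ (exists_sub_mem_map_pow I (exists_sub_mem hB) n) fun _ ↦
    mem_pow_of_algebraMap_mem hB

theorem quotientMap_bijective (hB : Hens2.IsPairHenselization A I B) :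
    Function.Bijective
      (Ideal.quotientMap (I.map (algebraMap A B)) (algebraMap A B) Ideal.le_comap_map) :=
  quotientMap_bijective_of _ (exists_sub_mem hB) fun a ha ↦ by
    simpa using mem_pow_of_algebraMap_mem hB (n := 1) (a := a) (by simpa using ha)

end IsPairHenselization

end GrothLib.Hensel
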