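import Groth.Agent.Lib.Hensel.Pair
import Mathlib.RingTheory.Smooth.StandardSmoothCotangent

/-!
# Multivariate Hensel lemma and uniqueness of lifts

For square systems with invertible Jacobian, and for formally unramified algebras.
-/

namespace GrothLib.Hensel

open scoped TensorProduct

universe u v

variable {A : Type u} [CommRing A] {I : Ideal A}

/-- Two maps out of an unramified algebra agreeing modulo the Jacobson radical are equal. -/
theorem algHom_eq_of_sub_mem {R : Type v} [CommRing R] {S : Type*} [CommRing S] [Algebra R S]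
    [Algebra.FormallyUnramified R S] [Algebra.EssFiniteType R S] [Algebra R A]
    (hI : I ≤ Ideal.jacobson ⊥) {f g : S →ₐ[R] A} (h : ∀ x, f x - g x ∈ I) : f = g := by
  let Φ : S ⊗[R] S →ₐ[R] A := Algebra.TensorProduct.productMap f g
  have hu : IsUnit (Φ (Algebra.FormallyUnramified.elem R S)) := by
    refine isUnit_of_isUnit_mk hI ?_
    have : (Ideal.Quotient.mkₐ R I).comp Φ =
        ((Ideal.Quotient.mkₐ R I).comp f).comp (Algebra.TensorProduct.lmul' R) := by
      refine Algebra.TensorProduct.ext' fun a b ↦ ?_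
      have hb : Ideal.Quotient.mk I (g b) = Ideal.Quotient.mk I (f b) :=
        (Ideal.Quotient.eq.mpr (h b)).symm
      simp [Φ, hb]
    have := AlgHom.congr_fun this (Algebra.FormallyUnramified.elem R S)
    simp only [AlgHom.comp_apply, Algebra.FormallyUnramified.lmul_elem, map_one,
      Ideal.Quotient.mkₐ_eq_mk] at this
    rw [this]
    exact isUnit_one
  ext x
  have := congrArg Φ (Algebra.FormallyUnramified.one_tmul_mul_elem (R := R) x)
  rw [map_mul, map_mul] at this
  have h1 : g x * Φ (Algebra.FormallyUnramified.elem R S) =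
      f x * Φ (Algebra.FormallyUnramified.elem R S) := by
    simpa [Φ] using this
  exact (hu.mul_left_inj.mp h1).symm

/-- Lifts of sections of étale algebras are unique. -/
theorem existsUnique_algHom_lift {R : Type v} [CommRing R] [Algebra R A] [HenselianRing A I]
    {S : Type*} [CommRing S] [Algebra R S] [Algebra.Etale R S] (σ : S →ₐ[R] A ⧸ I) :
    ∃! τ : S →ₐ[R] A, (Ideal.Quotient.mkₐ R I).comp τ = σ := by
  obtain ⟨τ, hτ⟩ := exists_algHom_lift σ
  refine ⟨τ, hτ, fun τ' hτ' ↦ algHom_eq_of_sub_mem (HenselianRing.jac (I := I)) fun x ↦ ?_⟩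
  rw [← Ideal.Quotient.eq]
  exact (AlgHom.congr_fun hτ' x).trans (AlgHom.congr_fun hτ x).symm

open MvPolynomial in
/-- Hensel's lemma for a square system with invertible Jacobian. -/
theorem exists_multivariate_root [HenselianRing A I] {ι : Type*} [Fintype ι] [DecidableEq ι]
    (F : ι → MvPolynomial ι A) (a₀ : ι → A) (h₀ : ∀ i, eval a₀ (F i) ∈ I)
    (hJ : IsUnit (Ideal.Quotient.mk I
      (Matrix.of fun i j ↦ eval a₀ (pderiv j (F i))).det)) :
    ∃ a : ι → A, (∀ i, eval a (F i) = 0) ∧ ∀ j, a j - a₀ j ∈ I := by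
  let B := MvPolynomial ι A ⧸ Ideal.span (Set.range F)
  let P : Algebra.PreSubmersivePresentation A B ι ι :=
    Algebra.PreSubmersivePresentation.naive id Function.injective_id
  let Δ : B := P.jacobian
  have hΔ : IsUnit (algebraMap B (Localization.Away Δ) Δ) :=
    IsLocalization.Away.algebraMap_isUnit _
  let S : Algebra.SubmersivePresentation A (Localization.Away Δ) _ _ :=
    { toPreSubmersivePresentation := .comp (.localizationAway (Localization.Away Δ) Δ) P
      jacobian_isUnit := by simpa [Algebra.smul_def, -isUnit_map_iff, Δ] using hΔ }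
  have : Algebra.IsStandardSmoothOfRelativeDimension 0 A (Localization.Away Δ) :=
    S.isStandardSmoothOfRelativeDimension (by simp [Algebra.Presentation.dimension])
  let σ₀ : B →ₐ[A] A ⧸ I := Ideal.Quotient.liftₐ _
    ((Ideal.Quotient.mkₐ A I).comp (aeval a₀)) (by
      show Ideal.span (Set.range F) ≤ RingHom.ker _
      rw [Ideal.span_le]
      rintro _ ⟨i, rfl⟩
      simpa [SetLike.mem_coe, RingHom.mem_ker, Ideal.Quotient.eq_zero_iff_mem] using h₀ i)
  have hΔ' : σ₀ Δ = Ideal.Quotient.mk I
      (Matrix.of fun i j ↦ eval a₀ (pderiv j (F i))).det := by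
    have hjac : Δ = Ideal.Quotient.mk _ P.jacobiMatrix.det :=
      (Algebra.PreSubmersivePresentation.jacobian_eq_jacobiMatrix_det P).trans
        (Algebra.Generators.algebraMap_apply _ _ |>.trans (by
          refine AlgHom.congr_fun (φ₂ := Ideal.Quotient.mkₐ A _) ?_ _
          ext i; simp [P, Algebra.PreSubmersivePresentation.naive]; rfl))
    rw [hjac]
    show Ideal.Quotient.mk I (aeval a₀ P.jacobiMatrix.det) = _
    congr 1
    rw [aeval_eq_eval, RingHom.map_det, ← Matrix.det_transpose]
    congr 1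
    ext i j
    simp only [Matrix.transpose_apply, RingHom.mapMatrix_apply, Matrix.map_apply, Matrix.of_apply]
    exact congrArg _ (Algebra.PreSubmersivePresentation.jacobiMatrix_apply _ _ _)
  let σ : Localization.Away Δ →ₐ[A] A ⧸ I :=
    IsLocalization.Away.liftAlgHom Δ (f := σ₀) (by rw [hΔ']; exact hJ)
  obtain ⟨τ, hτ⟩ := exists_lift_of_etale (HenselianRing.jac) (rootCond_of_henselianRing I) σ
  let ρ : MvPolynomial ι A →ₐ[A] A :=
    (τ.comp (IsScalarTower.toAlgHom A B _)).comp (Ideal.Quotient.mkₐ A _)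
  refine ⟨fun j ↦ ρ (X j), fun i ↦ ?_, fun j ↦ ?_⟩
  · have : ρ = aeval fun j ↦ ρ (X j) := MvPolynomial.algHom_ext fun j ↦ by simp
    have hz : ρ (F i) = 0 := by
      have : Ideal.Quotient.mkₐ A (Ideal.span (Set.range F)) (F i) = 0 :=
        Ideal.Quotient.eq_zero_iff_mem.mpr (Ideal.subset_span ⟨i, rfl⟩)
      simp only [ρ, AlgHom.comp_apply, this, map_zero]
    rwa [this, aeval_eq_eval] at hz
  · rw [← Ideal.Quotient.eq]
    have := AlgHom.congr_fun hτ (algebraMap B _ (Ideal.Quotient.mk _ (X j)))
    simp only [AlgHom.comp_apply, Ideal.Quotient.mkₐ_eq_mk] at this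
    refine Eq.trans ?_ (this.trans ?_)
    · rfl
    · refine (IsLocalization.lift_eq _ _).trans ?_
      exact congrArg (Ideal.Quotient.mk I) (MvPolynomial.eval_X j)

end GrothLib.Hensel
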