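import Groth.Agent.Lib.Hensel.IdemMatrix
import Groth.Agent.Lib.Hensel.MultivarRoot
import Mathlib.RingTheory.Smooth.Basic

/-!
# Sections of smooth algebras lift along henselian pairs
-/

namespace GrothLib.Hensel

open MvPolynomial

universe u v w

/-- First order Taylor expansion modulo the square of an ideal. -/
theorem aeval_sub_sub_mem {R : Type*} [CommRing R] {σ : Type*} [Fintype σ] [DecidableEq σ]
    (J : Ideal (MvPolynomial σ R)) (h : σ → MvPolynomial σ R) (hh : ∀ j, h j - X j ∈ J)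
    (f : MvPolynomial σ R) :
    aeval h f - f - ∑ j, pderiv j f * (h j - X j) ∈ J ^ 2 := by
  induction f using MvPolynomial.induction_on with
  | C a => simp
  | add p q hp hq =>
    convert add_mem hp hq using 1
    simp only [map_add, add_mul, Finset.sum_add_distrib]
    ring
  | mul_X p i hp =>
    have key : aeval h (p * X i) - p * X i - ∑ j, pderiv j (p * X i) * (h j - X j) =
        (aeval h p - p - ∑ j, pderiv j p * (h j - X j)) * h i +
          (∑ j, pderiv j p * (h j - X j)) * (h i - X i) := by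
      have hd : ∑ j, pderiv j (p * X i) * (h j - X j) =
          (∑ j, pderiv j p * (h j - X j)) * X i + p * (h i - X i) := by
        simp only [pderiv_mul, pderiv_X, add_mul, Finset.sum_add_distrib, Finset.sum_mul]
        congr 1
        · exact Finset.sum_congr rfl fun j _ ↦ mul_right_comm _ _ _
        · rw [Finset.sum_eq_single i (fun j _ hj ↦ by simp [hj]) (by simp)]
          simp
      rw [hd, map_mul, aeval_X]
      ring
    rw [key]
    refine add_mem (Ideal.mul_mem_right _ _ hp) ?_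
    rw [pow_two]
    exact Ideal.mul_mem_mul (sum_mem fun j _ ↦ Ideal.mul_mem_left _ _ (hh j)) (hh i)

/-- Chain rule for partial derivatives. -/
theorem pderiv_aeval_eq_sum {R A : Type*} [CommRing R] [CommRing A] [Algebra R A]
    {σ τ : Type*} [Fintype σ] [DecidableEq σ] (F : σ → MvPolynomial τ A) (l : τ)
    (f : MvPolynomial σ R) :
    pderiv l (aeval F f) = ∑ j, aeval F (pderiv j f) * pderiv l (F j) := by
  induction f using MvPolynomial.induction_on with
  | C a =>
    simp [IsScalarTower.algebraMap_apply R A (MvPolynomial τ A)]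
  | add p q hp hq => simp [hp, hq, add_mul, Finset.sum_add_distrib]
  | mul_X p i hp =>
    simp only [map_mul, aeval_X, pderiv_mul, hp, map_add, pderiv_X, add_mul,
      Finset.sum_add_distrib, Finset.sum_mul]
    congr 1
    · exact Finset.sum_congr rfl fun j _ ↦ mul_right_comm _ _ _
    · rw [Finset.sum_eq_single i (fun j _ hj ↦ by simp [hj]) (by simp)]
      simp

theorem pderiv_mem_of_mem_sq {R : Type*} [CommRing R] {σ : Type*}
    (J : Ideal (MvPolynomial σ R)) {x : MvPolynomial σ R} (hx : x ∈ J ^ 2) (l : σ) :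
    pderiv l x ∈ J := by
  rw [pow_two] at hx
  refine Submodule.mul_induction_on hx (fun a ha b hb ↦ ?_) (fun a b ha hb ↦ ?_)
  · rw [pderiv_mul]
    exact add_mem (J.mul_mem_left _ hb) (J.mul_mem_right _ ha)
  · rw [map_add]
    exact add_mem ha hb

variable {R : Type u} [CommRing R] {A : Type w} [CommRing A] [Algebra R A] {I : Ideal A}
  [HenselianRing A I]

/-- Zeros modulo `I` of a system of equations cutting out a smooth algebra lift. -/
theorem exists_aeval_eq_zero_of_taylor {n m : ℕ} (g : Fin m → MvPolynomial (Fin n) R)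
    (q : Fin n → Fin m → MvPolynomial (Fin n) R)
    (hq : ∀ i, g i - ∑ k, (∑ j, pderiv j (g i) * q j k) * g k ∈ Ideal.span (Set.range g) ^ 2)
    (a₀ : Fin n → A) (h₀ : ∀ i, aeval a₀ (g i) ∈ I) :
    ∃ a : Fin n → A, (∀ i, aeval a (g i) = 0) ∧ ∀ j, a j - a₀ j ∈ I := by
  set J := Ideal.span (Set.range g)
  let π := Ideal.Quotient.mk I
  let ev : MvPolynomial (Fin n) R →+* A ⧸ I := π.comp (aeval a₀).toRingHom
  have hevJ : ∀ x ∈ J, ev x = 0 := by
    intro x hx
    refine RingHom.mem_ker.mp ((Ideal.span_le.mpr ?_ : J ≤ RingHom.ker ev) hx)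
    rintro _ ⟨i, rfl⟩
    exact Ideal.Quotient.eq_zero_iff_mem.mpr (h₀ i)
  let Dg : Matrix (Fin m) (Fin n) (MvPolynomial (Fin n) R) := .of fun i j ↦ pderiv j (g i)
  let Q : Matrix (Fin n) (Fin m) (MvPolynomial (Fin n) R) := .of q
  let N := Dg * Q
  have hN : ∀ i, g i - ∑ k, N i k * g k ∈ J ^ 2 := hq
  let D₀ := Dg.map ev
  let Q₀ := Q.map ev
  let N₀ := N.map ev
  have hN₀ : N₀ = D₀ * Q₀ := Matrix.map_mul
  have hND : N₀ * D₀ = D₀ := by
    ext i l
    have h1 := hevJ _ (pderiv_mem_of_mem_sq J (hN i) l)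
    simp only [map_sub, map_sum, pderiv_mul, map_add, map_mul, sub_eq_zero,
      fun k ↦ hevJ (g k) (Ideal.subset_span ⟨k, rfl⟩), mul_zero, zero_add] at h1
    rw [Matrix.mul_apply]
    exact h1.symm
  have hidem : IsIdempotentElem N₀ := by
    show N₀ * N₀ = N₀
    nth_rw 2 [hN₀]
    rw [← Matrix.mul_assoc, hND, ← hN₀]
  obtain ⟨E, hE, hEN⟩ := exists_idempotent_matrix_lift I N₀ hidem
  let Q₁ : Matrix (Fin n) (Fin m) A := Q.map (aeval a₀)
  have hQ₁ : Q₁.map π = Q₀ := rfl
  -- the square system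
  let F : Fin n → MvPolynomial (Fin m) A := fun j ↦ C (a₀ j) + ∑ l, C (Q₁ j l) * X l
  let G : Fin m → MvPolynomial (Fin m) A := fun i ↦
    (∑ k, C (E i k) * aeval F (g k)) + ∑ k, C ((1 - E) i k) * X k
  have hF : ∀ (y : Fin m → A) (f : MvPolynomial (Fin n) R),
      eval y (aeval F f) = aeval (fun j ↦ a₀ j + ∑ l, Q₁ j l * y l) f := by
    intro y f
    induction f using MvPolynomial.induction_on with
    | C a => simp [IsScalarTower.algebraMap_apply R A (MvPolynomial (Fin m) A)]
    | add p q hp hq => simp [hp, hq]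
    | mul_X p i hp => simp [hp, F]
  have hF₀ : ∀ f : MvPolynomial (Fin n) R, eval 0 (aeval F f) = aeval a₀ f := by
    intro f
    rw [hF]
    congr 2
    funext j
    simp
  have hG₀ : ∀ i, eval 0 (G i) ∈ I := by
    intro i
    simp only [G, map_add, map_sum, map_mul, eval_C, eval_X, hF₀, Pi.zero_apply, mul_zero,
      Finset.sum_const_zero, add_zero]
    exact sum_mem fun k _ ↦ I.mul_mem_left _ (h₀ k)
  have hJac : (Matrix.of fun i j ↦ eval 0 (pderiv j (G i))) =
      E * (Dg.map (aeval a₀) * Q₁) + (1 - E) := by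
    ext i l
    simp only [G, Matrix.of_apply, map_add, map_sum, pderiv_C_mul, Matrix.add_apply,
      Matrix.mul_apply, map_mul, eval_C, pderiv_aeval_eq_sum, hF₀]
    congr 1
    · refine Finset.sum_congr rfl fun k _ ↦ congrArg _ (Finset.sum_congr rfl fun j _ ↦ ?_)
      congr 1
      simp [F, pderiv_X, Pi.single_apply]
    · simp [pderiv_X, Pi.single_apply]
  have hdet : IsUnit (π (Matrix.of fun i j ↦ eval 0 (pderiv j (G i))).det) := by
    rw [hJac, RingHom.map_det, map_add, map_mul, map_sub, map_one]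
    have h1 : π.mapMatrix (Dg.map (aeval a₀) * Q₁) = N₀ := by
      rw [RingHom.mapMatrix_apply, Matrix.map_mul, hN₀, hQ₁]
      rfl
    have h2 : π.mapMatrix E = N₀ := hEN
    rw [h1, h2, hidem.eq, add_sub_cancel, Matrix.det_one]
    exact isUnit_one
  obtain ⟨y, hy, hy₀⟩ := exists_multivariate_root G 0 hG₀ hdet
  let a : Fin n → A := fun j ↦ a₀ j + ∑ l, Q₁ j l * y l
  have ha : ∀ j, a j - a₀ j ∈ I := fun j ↦ by
    simpa [a] using sum_mem (t := Finset.univ)
      fun l _ ↦ I.mul_mem_left (Q₁ j l) (by simpa using hy₀ l)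
  refine ⟨a, ?_, ha⟩
  let γ : Fin m → A := fun i ↦ aeval a (g i)
  have hy' : E.mulVec γ + (1 - E).mulVec y = 0 := by
    funext i
    have := hy i
    simp only [G, map_add, map_sum, map_mul, eval_C, eval_X, hF] at this
    exact this
  have hEγ : E.mulVec γ = 0 := by
    have := congrArg E.mulVec hy'
    rwa [Matrix.mulVec_add, Matrix.mulVec_mulVec, Matrix.mulVec_mulVec, mul_sub, mul_one, hE.eq,
      sub_self, Matrix.zero_mulVec, add_zero, Matrix.mulVec_zero] at this
  have hc : ∀ i, ∃ c : Fin m → MvPolynomial (Fin n) R,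
      (∀ k, c k ∈ J) ∧ g i - ∑ k, N i k * g k = ∑ k, c k * g k := by
    intro i
    have h1 : g i - ∑ k, N i k * g k ∈ J • Submodule.span (MvPolynomial (Fin n) R) (Set.range g) := by
      show _ ∈ J * J
      rw [← pow_two]
      exact hN i
    obtain ⟨c, hcJ, hc⟩ := (Submodule.mem_ideal_smul_span_iff_exists_sum J g _).mp h1
    refine ⟨c, hcJ, hc.symm.trans ?_⟩
    exact Finsupp.sum_fintype _ _ fun _ ↦ zero_smul _ _
  choose c hcJ hc using hc
  let ev' : MvPolynomial (Fin n) R →+* A ⧸ I := π.comp (aeval a).toRingHom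
  have hev : ev' = ev := by
    refine MvPolynomial.ringHom_ext (fun r ↦ ?_) fun j ↦ ?_
    · simp [ev', ev]
    · simpa [ev', ev, π] using (Ideal.Quotient.eq.mpr (ha j))
  let Δ : Matrix (Fin m) (Fin m) A := .of fun i k ↦ aeval a (N i k + c i k)
  have hΔ : Δ.mulVec γ = γ := by
    funext i
    have := congrArg (aeval a) (hc i)
    simp only [map_sub, map_sum, map_mul] at this
    simp only [Matrix.mulVec, dotProduct, Δ, Matrix.of_apply, γ, map_add, add_mul,
      Finset.sum_add_distrib, ← this]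
    abel
  have hΔ₀ : Δ.map π = N₀ := by
    ext i k
    show ev' (N i k + c i k) = _
    rw [hev, map_add, hevJ _ (hcJ i k), add_zero]
    rfl
  have hu : IsUnit (1 - (Δ - E)).det := by
    refine isUnit_of_isUnit_mk (HenselianRing.jac (I := I)) ?_
    show IsUnit (π _)
    rw [RingHom.map_det, map_sub, map_sub, map_one]
    have h2 : π.mapMatrix E = N₀ := hEN
    have h3 : π.mapMatrix Δ = N₀ := hΔ₀
    rw [h2, h3, sub_self, sub_zero, Matrix.det_one]
    exact isUnit_one
  have hz : (1 - (Δ - E)).mulVec γ = 0 := by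
    rw [Matrix.sub_mulVec, Matrix.sub_mulVec, hΔ, hEγ, Matrix.one_mulVec, sub_zero, sub_self]
  exact congrFun (Matrix.mulVec_injective_of_isUnit ((Matrix.isUnit_iff_isUnit_det _).mpr hu)
    (hz.trans (Matrix.mulVec_zero _).symm))

/-- Maps from a smooth algebra to `A ⧸ I` lift to `A` for a henselian pair `(A, I)`. -/
theorem exists_algHom_lift_of_smooth {S : Type v} [CommRing S] [Algebra R S] [Algebra.Smooth R S]
    (σ : S →ₐ[R] A ⧸ I) : ∃ τ : S →ₐ[R] A, (Ideal.Quotient.mkₐ R I).comp τ = σ := by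
  obtain ⟨n, φ, hφ, hfg⟩ := (inferInstance : Algebra.FinitePresentation R S).out
  obtain ⟨m, g, hg⟩ := Submodule.fg_iff_exists_fin_generating_family.mp hfg
  set J := RingHom.ker φ.toRingHom
  obtain ⟨s, hs⟩ := (Algebra.FormallySmooth.iff_split_surjection φ hφ).mp inferInstance
  choose h hh using fun j ↦ Ideal.Quotient.mk_surjective (s (φ (X j)))
  have hφh : ∀ j, φ (h j) = φ (X j) := fun j ↦ by
    have := AlgHom.congr_fun hs (φ (X j))
    rw [AlgHom.comp_apply, ← hh j] at this
    exact this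
  have hθ : (Ideal.Quotient.mkₐ R (J ^ 2)).comp (aeval h) = s.comp φ :=
    MvPolynomial.algHom_ext fun j ↦ by
      rw [AlgHom.comp_apply, AlgHom.comp_apply, aeval_X]
      exact hh j
  have hq : ∀ j, ∃ q : Fin m → MvPolynomial (Fin n) R, ∑ k, q k • g k = X j - h j := by
    intro j
    refine (Submodule.mem_span_range_iff_exists_fun _).mp ?_
    rw [hg]
    exact RingHom.mem_ker.mpr (show φ (X j - h j) = 0 by rw [map_sub, hφh, sub_self])
  choose q hq using hq
  have hgJ : ∀ i, g i ∈ J := fun i ↦ hg ▸ Submodule.subset_span ⟨i, rfl⟩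
  choose a₀ ha₀ using fun j ↦ Ideal.Quotient.mk_surjective (σ (φ (X j)))
  have hσ : (Ideal.Quotient.mkₐ R I).comp (aeval a₀) = σ.comp φ :=
    MvPolynomial.algHom_ext fun j ↦ by simpa using ha₀ j
  obtain ⟨a, ha, haI⟩ := exists_aeval_eq_zero_of_taylor (I := I) g q (fun i ↦ by
    have hspan : Ideal.span (Set.range g) = J := hg
    rw [hspan]
    have h1 := aeval_sub_sub_mem J h (fun j ↦ RingHom.mem_ker.mpr
      (show φ (h j - X j) = 0 by rw [map_sub, hφh, sub_self])) (g i)
    have h2 : aeval h (g i) ∈ J ^ 2 := by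
      rw [← Ideal.Quotient.eq_zero_iff_mem]
      have := AlgHom.congr_fun hθ (g i)
      simp only [AlgHom.comp_apply, Ideal.Quotient.mkₐ_eq_mk] at this
      rw [this, show φ (g i) = 0 from RingHom.mem_ker.mp (hgJ i), map_zero]
    have h3 := neg_mem (sub_mem h1 h2)
    convert h3 using 1
    have h4 : ∑ k, (∑ j, pderiv j (g i) * q j k) * g k =
        -∑ j, pderiv j (g i) * (h j - X j) := by
      simp only [Finset.sum_mul, mul_assoc]
      rw [Finset.sum_comm, ← Finset.sum_neg_distrib]
      refine Finset.sum_congr rfl fun j _ ↦ ?_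
      rw [← Finset.mul_sum, ← neg_sub, mul_neg, neg_neg]
      congr 1
      exact hq j
    rw [h4]
    ring) a₀ (fun i ↦ by
    rw [← Ideal.Quotient.eq_zero_iff_mem]
    have := AlgHom.congr_fun hσ (g i)
    simp only [AlgHom.comp_apply, Ideal.Quotient.mkₐ_eq_mk] at this
    rw [this, show φ (g i) = 0 from RingHom.mem_ker.mp (hgJ i), map_zero])
  have hker : ∀ x ∈ RingHom.ker φ, aeval a x = 0 := by
    intro x hx
    have : J ≤ RingHom.ker (aeval a : MvPolynomial (Fin n) R →ₐ[R] A).toRingHom := by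
      rw [← hg, Submodule.span_le]
      rintro _ ⟨i, rfl⟩
      exact ha i
    exact this hx
  let τ : S →ₐ[R] A := (Ideal.Quotient.liftₐ (RingHom.ker φ) (aeval a) hker).comp
    (Ideal.quotientKerAlgEquivOfSurjective hφ).symm.toAlgHom
  have hτ : ∀ p, τ (φ p) = aeval a p := by
    intro p
    have : (Ideal.quotientKerAlgEquivOfSurjective hφ).symm (φ p) = Ideal.Quotient.mk _ p := by
      rw [AlgEquiv.symm_apply_eq]; rfl
    simp only [τ, AlgHom.comp_apply]
    erw [this]
    rfl
  refine ⟨τ, AlgHom.ext fun x ↦ ?_⟩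
  obtain ⟨p, rfl⟩ := hφ x
  have : (Ideal.Quotient.mkₐ R I).comp (aeval a) = σ.comp φ := by
    rw [← hσ]
    exact MvPolynomial.algHom_ext fun j ↦ by simpa using Ideal.Quotient.eq.mpr (haI j)
  simpa [hτ] using AlgHom.congr_fun this p

end GrothLib.Hensel
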