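import Groth.Agent.Lib.Hensel.Pair
import Mathlib.AlgebraicGeometry.Morphisms.Finite
import Mathlib.AlgebraicGeometry.PullbackCarrier

/-!
# Lifting open-closed subsets and henselian pairs
-/

namespace GrothLib.Hensel

open AlgebraicGeometry CategoryTheory CategoryTheory.Limits PrimeSpectrum

universe u v

/-- Unique lifting of clopens from `V(J)` is unique lifting of idempotents from `B ⧸ J`. -/
theorem existsUnique_clopen_iff {B : Type u} [CommRing B] (J : Ideal B) {W : Type v}
    [TopologicalSpace W] {i : W → PrimeSpectrum B} (hi : Topology.IsClosedEmbedding i)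
    (hr : Set.range i = zeroLocus (J : Set B)) :
    (∀ V : Set W, IsClopen V → ∃! U : Set (PrimeSpectrum B), IsClopen U ∧ i ⁻¹' U = V) ↔
      Set.BijOn (Ideal.Quotient.mk J) {e : B | IsIdempotentElem e} {e | IsIdempotentElem e} := by
  set π := Ideal.Quotient.mk J
  set c := comap π
  have hc : Topology.IsClosedEmbedding c :=
    isClosedEmbedding_comap_of_surjective _ π Ideal.Quotient.mk_surjective
  have hcr : Set.range c = Set.range i := by
    rw [hr, range_comap_of_surjective _ _ Ideal.Quotient.mk_surjective, Ideal.mk_ker]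
  have key : ∀ (U : Set (PrimeSpectrum B)) (V : Set W),
      i ⁻¹' U = V ↔ c ⁻¹' U = c ⁻¹' (i '' V) := fun U V ↦ by
    constructor
    · rintro rfl
      ext w
      refine ⟨fun hw ↦ ?_, ?_⟩
      · obtain ⟨w', hw'⟩ := hcr.le ⟨w, rfl⟩
        exact ⟨w', show i w' ∈ U by rwa [hw'], hw'⟩
      · rintro ⟨w', hw', he⟩
        show c w ∈ U
        rw [← he]
        exact hw'
    · intro h
      ext w
      obtain ⟨z, hz⟩ := hcr.ge ⟨w, rfl⟩
      have := Set.ext_iff.mp h z
      simp only [Set.mem_preimage, hz, hi.injective.mem_set_image] at this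
      exact this
  have hclop : ∀ V : Set W, IsClopen V → IsClopen (c ⁻¹' (i '' V)) := fun V hV ↦ by
    refine ⟨(hi.isClosedMap _ hV.1).preimage hc.continuous, ?_⟩
    rw [← isClosed_compl_iff]
    have : (c ⁻¹' (i '' V))ᶜ = c ⁻¹' (i '' Vᶜ) := by
      ext z
      obtain ⟨w, hw⟩ := hcr.le ⟨z, rfl⟩
      simp only [Set.mem_compl_iff, Set.mem_preimage, ← hw, hi.injective.mem_set_image]
    rw [this]
    exact (hi.isClosedMap _ hV.compl.1).preimage hc.continuous
  have hD : ∀ e : B, c ⁻¹' basicOpen e = (basicOpen (π e) : Set (PrimeSpectrum (B ⧸ J))) :=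
    fun e ↦ congrArg SetLike.coe (comap_basicOpen π e)
  have hclopen : ∀ {R : Type u} [CommRing R] {e : R}, IsIdempotentElem e →
      IsClopen (basicOpen e : Set (PrimeSpectrum R)) := fun {R _ e} he ↦
    isClopen_basicOpen_of_mul_add e (1 - e) (by rw [mul_sub, mul_one, he.eq, sub_self]) (by ring)
  constructor
  · intro h
    refine ⟨fun e he ↦ he.map π, fun e he f hf hef ↦ ?_, fun e' he' ↦ ?_⟩
    · refine basicOpen_injOn_isIdempotentElem he hf (SetLike.coe_injective ?_)
      refine (h (i ⁻¹' basicOpen e) ((hclopen he).preimage hi.continuous)).unique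
        ⟨hclopen he, rfl⟩ ⟨hclopen hf, ?_⟩
      rw [key, ← (key (basicOpen e) _).mp rfl, hD, hD, hef]
    · obtain ⟨U, ⟨hU, hUV⟩, -⟩ := h (i ⁻¹' (c '' (basicOpen e'))) (by
        have : (i ⁻¹' (c '' (basicOpen e' : Set _)))ᶜ = i ⁻¹' (c '' (basicOpen e' : Set _)ᶜ) := by
          ext w
          obtain ⟨z, hz⟩ := hcr.ge ⟨w, rfl⟩
          simp only [Set.mem_compl_iff, Set.mem_preimage, ← hz, hc.injective.mem_set_image]
        refine ⟨(hc.isClosedMap _ (hclopen he').1).preimage hi.continuous, ?_⟩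
        rw [← isClosed_compl_iff, this]
        exact (hc.isClosedMap _ (hclopen he').compl.1).preimage hi.continuous)
      obtain ⟨e, he, rfl⟩ := exists_idempotent_basicOpen_eq_of_isClopen hU
      refine ⟨e, he, basicOpen_injOn_isIdempotentElem (he.map π) he' (SetLike.coe_injective ?_)⟩
      rw [← hD, (key _ _).mp hUV]
      ext z
      obtain ⟨w, hw⟩ := hcr.le ⟨z, rfl⟩
      simp only [Set.mem_preimage, ← hw, hi.injective.mem_set_image]
      rw [hw, hc.injective.mem_set_image]
  · intro h V hV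
    obtain ⟨e', he', hV'⟩ := exists_idempotent_basicOpen_eq_of_isClopen (hclop V hV)
    obtain ⟨e, he, rfl⟩ := h.surjOn he'
    refine ⟨basicOpen e, ⟨hclopen he, ?_⟩, ?_⟩
    · rw [key, hD, hV']
    · rintro U ⟨hU, hUV⟩
      obtain ⟨f, hf, rfl⟩ := exists_idempotent_basicOpen_eq_of_isClopen hU
      rw [h.injOn hf he (basicOpen_injOn_isIdempotentElem (hf.map π) (he.map π)
        (SetLike.coe_injective ?_))]
      rw [← hD, (key _ _).mp hUV, hV']

theorem range_toSpec_fst {A B : Type u} [CommRing A] [CommRing B] [Algebra A B] (I : Ideal A)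
    {Y : Scheme.{u}} (g : Y ⟶ Spec (CommRingCat.of A)) (e : Y ≅ Spec (CommRingCat.of B))
    (he : e.hom ≫ Spec.map (CommRingCat.ofHom (algebraMap A B)) = g) :
    Set.range (pullback.fst g (Spec.map (CommRingCat.ofHom (Ideal.Quotient.mk I))) ≫ e.hom) =
      zeroLocus (I.map (algebraMap A B) : Set B) := by
  rw [Scheme.Hom.comp_base, TopCat.coe_comp, Set.range_comp, Scheme.Pullback.range_fst]
  have hq : Set.range (Spec.map (CommRingCat.ofHom (Ideal.Quotient.mk I))) =
      zeroLocus (I : Set A) := by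
    refine (range_comap_of_surjective _ _ Ideal.Quotient.mk_surjective).trans ?_
    rw [Ideal.mk_ker]
  rw [hq, ← he, Scheme.Hom.comp_base, TopCat.coe_comp, Set.preimage_comp,
    Set.image_preimage_eq]
  · rw [← zeroLocus_span, Ideal.span_eq]
    refine (preimage_comap_zeroLocus _ _).trans ?_
    rw [← zeroLocus_span, ← Ideal.map_span, Ideal.span_eq]
    rfl
  · exact e.hom.homeomorph.surjective

theorem henselianRing_iff_clopen_lift (A : Type u) [CommRing A] (I : Ideal A) :
    HenselianRing A I ↔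
    ∀ (Y : Scheme.{u}) (g : Y ⟶ Spec (CommRingCat.of A)), IsFinite g →
      ∀ V : Set ↥(pullback g (Spec.map (CommRingCat.ofHom (Ideal.Quotient.mk I)))), IsClopen V →
        ∃! U : Set ↥Y, IsClopen U ∧
          (pullback.fst g (Spec.map (CommRingCat.ofHom (Ideal.Quotient.mk I)))) ⁻¹' U = V := by
  have : IsClosedImmersion (Spec.map (CommRingCat.ofHom (Ideal.Quotient.mk I))) :=
    IsClosedImmersion.spec_of_surjective _ Ideal.Quotient.mk_surjective
  constructor
  · intro _ Y g hg V hV
    have : IsAffine Y := isAffine_of_isAffineHom g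
    obtain ⟨φ, hφ⟩ := Spec.map_surjective (Y.isoSpec.inv ≫ g)
    let _ : Algebra A Γ(Y, ⊤) := φ.hom.toAlgebra
    have hfin : φ.hom.Finite := IsFinite.SpecMap_iff φ |>.mp (hφ ▸ inferInstance)
    have : Module.Finite A Γ(Y, ⊤) := hfin
    have he : Y.isoSpec.hom ≫ Spec.map (CommRingCat.ofHom (algebraMap A Γ(Y, ⊤))) = g := by
      show Y.isoSpec.hom ≫ Spec.map φ = g
      rw [hφ, Iso.hom_inv_id_assoc]
    have hi : Topology.IsClosedEmbedding
        (pullback.fst g (Spec.map (CommRingCat.ofHom (Ideal.Quotient.mk I))) ≫ Y.isoSpec.hom) :=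
      Scheme.Hom.isClosedEmbedding _
    obtain ⟨U, ⟨hU, hUV⟩, huniq⟩ := (existsUnique_clopen_iff _ hi
      (range_toSpec_fst (B := Γ(Y, ⊤)) I g Y.isoSpec he)).mpr idempotent_bijOn V hV
    refine ⟨Y.isoSpec.hom ⁻¹' U, ⟨hU.preimage Y.isoSpec.hom.continuous, ?_⟩, fun U' hU' ↦ ?_⟩
    · rw [← hUV]; rfl
    · rw [← huniq (Y.isoSpec.inv ⁻¹' U') ⟨hU'.1.preimage Y.isoSpec.inv.continuous, ?_⟩]
      · ext y
        show y ∈ U' ↔ Y.isoSpec.inv (Y.isoSpec.hom y) ∈ U'
        rw [← Scheme.Hom.comp_apply, Iso.hom_inv_id]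
        rfl
      · rw [← hU'.2]
        ext z
        show Y.isoSpec.inv ((pullback.fst g _ ≫ Y.isoSpec.hom) z) ∈ U' ↔ _
        rw [← Scheme.Hom.comp_apply, Category.assoc, Iso.hom_inv_id, Category.comp_id]
        rfl
  · intro h
    refine henselianRing_of_idempotents_bijOn fun B _ _ hB ↦ ?_
    have hfin : IsFinite (Spec.map (CommRingCat.ofHom (algebraMap A B))) :=
      (IsFinite.SpecMap_iff _).mpr (RingHom.finite_algebraMap.mpr hB)
    have hr := range_toSpec_fst I (Spec.map (CommRingCat.ofHom (algebraMap A B))) (Iso.refl _)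
      (Category.id_comp _)
    rw [Iso.refl_hom, Category.comp_id] at hr
    exact (existsUnique_clopen_iff _ (Scheme.Hom.isClosedEmbedding _) hr).mp (h _ _ hfin)

end GrothLib.Hensel
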