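import Groth.Agent.Lib.Hensel.Pair
import Groth.Agent.Lib.Hensel.Properties
import Mathlib.RingTheory.ZariskisMainTheorem
import Mathlib.RingTheory.Smooth.StandardSmoothOfFree
import Mathlib.RingTheory.Extension.Presentation.Core
import Mathlib.RingTheory.RingHom.Etale
import Mathlib.RingTheory.Ideal.GoingUp

/-!
# Finite étale algebras lift along henselian pairs
-/

namespace GrothLib.Hensel

open TensorProduct

universe u v

variable {A : Type u} [CommRing A]

/-- An étale algebra over `A` which is finite modulo `I` contains a finite étale direct factor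
with the same reduction, for a henselian pair `(A, I)`. -/
theorem exists_finite_etale_factor (I : Ideal A) [HenselianRing A I] {T : Type u} [CommRing T]
    [Algebra A T] [Algebra.Etale A T] {C : Type u} [CommRing C] [Algebra A C] [Module.Finite A C]
    (f : T →ₐ[A] C) (hf : Function.Surjective f)
    (hker : RingHom.ker f = I.map (algebraMap A T)) :
    ∃ (B : Type u) (_ : CommRing B) (_ : Algebra A B) (g : B →ₐ[A] C), Module.Finite A B ∧
      Algebra.Etale A B ∧ Function.Surjective g ∧ RingHom.ker g = I.map (algebraMap A B) := by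
  classical
  -- good elements from Zariski's main theorem
  set IT := I.map (algebraMap A T)
  let G : Set T := {r | IsIntegral A r ∧ ∀ x, ∃ m : ℕ, IsIntegral A (r ^ m * x)}
  have htop : Ideal.span G ⊔ IT = ⊤ := by
    by_contra h
    obtain ⟨q, hq, hle⟩ := Ideal.exists_le_maximal _ h
    have : Algebra.QuasiFiniteAt A q := inferInstance
    obtain ⟨r, hrq, hr, hr'⟩ := Algebra.zariskisMainProperty_iff.mp
      (Algebra.ZariskisMainProperty.of_finiteType (R := A) q)
    exact hrq (hle (Ideal.mem_sup_left (Ideal.subset_span ⟨hr, hr'⟩)))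
  obtain ⟨a₀, ha₀, i₀, hi₀, h01⟩ := Submodule.mem_sup.mp ((Ideal.eq_top_iff_one _).mp htop)
  obtain ⟨t, htG, hta⟩ := Submodule.mem_span_finite_of_mem_span ha₀
  obtain ⟨gens, hgens⟩ := (inferInstance : Algebra.FiniteType A T).out
  have hG : ∀ r : t, IsIntegral A (r : T) := fun r ↦ (htG r.2).1
  choose m hm using fun (r : t) (x : T) ↦ (htG r.2).2 x
  let S := Algebra.adjoin A ((t : Set T) ∪
    Set.range fun p : t × gens ↦ (p.1 : T) ^ m p.1 p.2 * (p.2 : T))
  have hSfin : Module.Finite A S := ⟨(Submodule.fg_top _).mpr (fg_adjoin_of_finite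
    ((t.finite_toSet).union (Set.finite_range _)) (by
      rintro x (hx | ⟨p, rfl⟩)
      exacts [hG ⟨x, hx⟩, hm _ _]))⟩
  let r : t → S := fun k ↦ ⟨k, Algebra.subset_adjoin (Set.mem_union_left _ k.2)⟩
  have hsurj : ∀ (k : t) (x : T), ∃ (n : ℕ) (s : S), (s : T) = (k : T) ^ n * x := by
    intro k x
    have hx : x ∈ Algebra.adjoin A (gens : Set T) := by rw [hgens]; exact trivial
    induction hx using Algebra.adjoin_induction with
    | mem x hx =>
      exact ⟨m k x, ⟨_, Algebra.subset_adjoin (Set.mem_union_right _ ⟨(k, ⟨x, hx⟩), rfl⟩)⟩, rfl⟩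
    | algebraMap a => exact ⟨0, algebraMap A S a, by simp⟩
    | add x y _ _ hx hy =>
      obtain ⟨n, s, hs⟩ := hx
      obtain ⟨n', s', hs'⟩ := hy
      refine ⟨n + n', r k ^ n' * s + r k ^ n * s', ?_⟩
      simp [r, hs, hs', pow_add]
      ring
    | mul x y _ _ hx hy =>
      obtain ⟨n, s, hs⟩ := hx
      obtain ⟨n', s', hs'⟩ := hy
      refine ⟨n + n', s * s', ?_⟩
      simp [hs, hs', pow_add]
      ring
  set IS := I.map (algebraMap A S)
  let K := IT.comap S.val
  have hISK : IS ≤ K := by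
    rw [Ideal.map_le_iff_le_comap]
    intro a ha
    exact Ideal.mem_map_of_mem (algebraMap A T) ha
  have hkill : ∀ k s, s ∈ K → ∃ n : ℕ, r k ^ n * s ∈ IS := by
    intro k s hs
    have : ∀ z ∈ IT, ∃ (n : ℕ) (s' : S), (s' : T) = (k : T) ^ n * z ∧ s' ∈ IS := by
      intro z hz
      refine Submodule.span_induction (p := fun z _ ↦ ∃ (n : ℕ) (s' : S),
        (s' : T) = (k : T) ^ n * z ∧ s' ∈ IS) ?_ ⟨0, 0, by simp, IS.zero_mem⟩ ?_ ?_ hz
      · rintro _ ⟨a, ha, rfl⟩
        exact ⟨0, algebraMap A S a, by simp, Ideal.mem_map_of_mem _ ha⟩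
      · rintro x y - - ⟨n, s₁, h₁, h₁'⟩ ⟨n', s₂, h₂, h₂'⟩
        refine ⟨n + n', r k ^ n' * s₁ + r k ^ n * s₂, ?_,
          add_mem (IS.mul_mem_left _ h₁') (IS.mul_mem_left _ h₂')⟩
        simp [r, h₁, h₂, pow_add]
        ring
      · rintro c x - ⟨n, s₁, h₁, h₁'⟩
        obtain ⟨n', s₂, h₂⟩ := hsurj k c
        refine ⟨n + n', s₂ * s₁, ?_, IS.mul_mem_left _ h₁'⟩
        simp [h₁, h₂, pow_add]
        ring
    obtain ⟨n, s', h', hs'⟩ := this _ hs
    refine ⟨n, ?_⟩
    convert hs'
    exact Subtype.ext (by simp [r, h'])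
  set 𝔞 := Ideal.span (Set.range r)
  let φ : S →ₐ[A] C := f.comp S.val
  have hφK : ∀ s, φ s = 0 ↔ s ∈ K := fun s ↦ by
    show f (s : T) = 0 ↔ (s : T) ∈ IT
    rw [← hker, RingHom.mem_ker]
  have h𝔞K : 𝔞 ⊔ K = ⊤ := by
    by_contra h
    obtain ⟨q, hq, hle⟩ := Ideal.exists_le_maximal _ h
    let _ : Algebra S C := φ.toRingHom.toAlgebra
    have : IsScalarTower A S C := IsScalarTower.of_algebraMap_eq' φ.comp_algebraMap.symm
    have : Algebra.IsIntegral S C := Algebra.IsIntegral.tower_top A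
    obtain ⟨Q, -, hQ, hQc⟩ := Ideal.exists_ideal_over_prime_of_isIntegral (S := C) q ⊥ (by
      intro s hs
      exact hle (Ideal.mem_sup_right ((hφK s).mp hs)))
    have h1 : a₀ ∈ Q.comap f := by
      refine Submodule.span_induction (fun z hz ↦ ?_) (Ideal.zero_mem _)
        (fun x y _ _ hx hy ↦ add_mem hx hy) (fun c x _ hx ↦ Ideal.mul_mem_left _ _ hx) hta
      have : r ⟨z, hz⟩ ∈ q := hle (Ideal.mem_sup_left (Ideal.subset_span ⟨_, rfl⟩))
      rw [← hQc] at this
      exact this
    have h2 : f i₀ = 0 := by rwa [← RingHom.mem_ker, hker]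
    refine hQ.ne_top ((Ideal.eq_top_iff_one Q).mpr ?_)
    rw [← map_one f, ← h01, map_add, h2, add_zero]
    exact h1
  obtain ⟨a, ha, κ, hκ, h1⟩ := Submodule.mem_sup.mp ((Ideal.eq_top_iff_one _).mp h𝔞K)
  have hpow : ∀ s ∈ K, ∃ n : ℕ, a ^ n * s ∈ IS := by
    intro s hs
    have : 𝔞 ≤ (IS.colon {s}).radical := by
      rw [Ideal.span_le]
      rintro _ ⟨k, rfl⟩
      obtain ⟨n, hn⟩ := hkill k s hs
      exact ⟨n, by simpa [Submodule.mem_colon_singleton] using hn⟩
    obtain ⟨n, hn⟩ := this ha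
    exact ⟨n, by simpa [Submodule.mem_colon_singleton] using hn⟩
  obtain ⟨N, hN⟩ := hpow κ hκ
  set b := a ^ (N + 1)
  have hb1 : 1 - b ∈ K := by
    obtain ⟨c, hc⟩ : (1 - a) ∣ 1 ^ (N + 1) - a ^ (N + 1) := sub_dvd_pow_sub_pow _ _ _
    rw [one_pow, show 1 - a = κ by rw [← h1]; ring] at hc
    show 1 - a ^ (N + 1) ∈ K
    rw [hc]
    exact K.mul_mem_right _ hκ
  have hb : b * b - b ∈ IS := by
    obtain ⟨c, hc⟩ : (1 - a) ∣ 1 ^ (N + 1) - a ^ (N + 1) := sub_dvd_pow_sub_pow _ _ _
    rw [one_pow, show 1 - a = κ by rw [← h1]; ring] at hc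
    have : b * b - b = -(a * c) * (a ^ N * κ) := by
      linear_combination -(a ^ (N + 1)) * hc
    rw [this]
    exact IS.mul_mem_left _ hN
  obtain ⟨e, he, heb⟩ := exists_isIdempotentElem_lift (A := A) (I := I) hb
  have he1 : 1 - e ∈ K := by
    rw [show 1 - e = (1 - b) - (e - b) by ring]
    exact sub_mem hb1 (hISK heb)
  set J := Ideal.span {1 - e}
  let g : (S ⧸ J) →ₐ[A] C := Ideal.Quotient.liftₐ J φ (fun x hx ↦ by
    obtain ⟨c, rfl⟩ := Ideal.mem_span_singleton'.mp hx
    exact (hφK _).mpr (K.mul_mem_left c he1))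
  have hg : Function.Surjective g := by
    intro c
    obtain ⟨x, rfl⟩ := hf c
    let L : Ideal S :=
      { carrier := {s | ∃ s' : S, f ((s : T) * x) = φ s'}
        add_mem' := by
          rintro s₁ s₂ ⟨u₁, h₁⟩ ⟨u₂, h₂⟩
          refine ⟨u₁ + u₂, ?_⟩
          rw [S.coe_add, add_mul, map_add, h₁, h₂, map_add]
        zero_mem' := ⟨0, by simp⟩
        smul_mem' := by
          rintro c s ⟨u, h⟩
          refine ⟨c * u, ?_⟩
          rw [smul_eq_mul, S.coe_mul, mul_assoc, map_mul f, h, map_mul φ]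
          rfl }
    have hx : 𝔞 ≤ L.radical := by
      rw [Ideal.span_le]
      rintro _ ⟨k, rfl⟩
      obtain ⟨n, s, hs⟩ := hsurj k x
      exact ⟨n, s, by simp [φ, r, hs]⟩
    obtain ⟨n, s, hs⟩ := hx ha
    refine ⟨Ideal.Quotient.mk J s, ?_⟩
    have ha1 : f (a : T) = 1 := by
      have := congrArg φ h1
      rwa [map_add, (hφK κ).mpr hκ, add_zero, map_one] at this
    show φ s = f x
    rw [← hs]
    simp [ha1]
  have hgker : RingHom.ker g = I.map (algebraMap A (S ⧸ J)) := by
    apply le_antisymm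
    · intro x hx
      obtain ⟨s, rfl⟩ := Ideal.Quotient.mk_surjective x
      obtain ⟨n, hn⟩ := hpow s ((hφK s).mp hx)
      have heJ : Ideal.Quotient.mk J e = 1 :=
        (Ideal.Quotient.eq.mpr (Ideal.mem_span_singleton_self _)).symm
      have hmap : IS.map (Ideal.Quotient.mk J) = I.map (algebraMap A (S ⧸ J)) := by
        rw [Ideal.map_map]; rfl
      rw [← hmap]
      set q := Ideal.Quotient.mk (IS.map (Ideal.Quotient.mk J))
      let h : S →+* (S ⧸ J) ⧸ IS.map (Ideal.Quotient.mk J) := q.comp (Ideal.Quotient.mk J)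
      have hIS : ∀ z ∈ IS, h z = 0 := fun z hz ↦
        Ideal.Quotient.eq_zero_iff_mem.mpr (Ideal.mem_map_of_mem _ hz)
      have hb' : h a ^ (N + 1) = 1 := by
        have := hIS _ heb
        rw [map_sub, sub_eq_zero] at this
        rw [← map_pow, ← this]
        show q (Ideal.Quotient.mk J e) = 1
        rw [heJ, map_one]
      have hu : IsUnit (h a) := (isUnit_pow_iff N.succ_ne_zero).mp (hb' ▸ isUnit_one)
      have := hIS _ hn
      rw [map_mul, map_pow, (hu.pow n).mul_right_eq_zero] at this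
      exact Ideal.Quotient.eq_zero_iff_mem.mp this
    · rw [Ideal.map_le_iff_le_comap]
      intro i hi
      show g (algebraMap A (S ⧸ J) i) = 0
      rw [g.commutes, ← f.commutes]
      exact RingHom.mem_ker.mp (hker.ge (Ideal.mem_map_of_mem (algebraMap A T) hi))
  have hfinB : Module.Finite A (S ⧸ J) :=
    Module.Finite.of_surjective (Ideal.Quotient.mkₐ A J).toLinearMap Ideal.Quotient.mk_surjective
  refine ⟨S ⧸ J, inferInstance, inferInstance, g, hfinB, ?_, hg, hgker⟩
  -- étaleness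
  have hspan : Ideal.span (Set.range fun k ↦ Ideal.Quotient.mk J (r k)) = ⊤ := by
    have hIB : I.map (algebraMap A (S ⧸ J)) ≤ Ideal.jacobson ⊥ :=
      (henselianRing_of_isIntegral I (S ⧸ J)).jac
    have hb𝔞 : Ideal.Quotient.mk J b ∈ Ideal.span (Set.range fun k ↦ Ideal.Quotient.mk J (r k)) := by
      rw [Set.range_comp' (Ideal.Quotient.mk J) r, ← Ideal.map_span]
      exact Ideal.mem_map_of_mem _ (𝔞.pow_mem_of_mem ha _ (Nat.succ_pos N))
    have hu : IsUnit (Ideal.Quotient.mk J b) := by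
      refine isUnit_of_isUnit_mk hIB ?_
      have heJ : Ideal.Quotient.mk J e = 1 :=
        (Ideal.Quotient.eq.mpr (Ideal.mem_span_singleton_self _)).symm
      have : Ideal.Quotient.mk J e - Ideal.Quotient.mk J b ∈ I.map (algebraMap A (S ⧸ J)) := by
        rw [← map_sub]
        have := Ideal.mem_map_of_mem (Ideal.Quotient.mk J) heb
        rwa [Ideal.map_map] at this
      rw [← Ideal.Quotient.eq.mpr this, heJ, map_one]
      exact isUnit_one
    exact Ideal.eq_top_of_isUnit_mem _ hb𝔞 hu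
  refine RingHom.etale_algebraMap.mp (RingHom.Etale.ofLocalizationSpanTarget
    (algebraMap A (S ⧸ J)) _ hspan ?_)
  rintro ⟨_, k, rfl⟩
  set d : T := (k : T) * (e : T)
  let T' := Localization.Away d
  have hd : IsUnit (algebraMap T T' d) := IsLocalization.Away.algebraMap_isUnit d
  rw [map_mul] at hd
  have he' : algebraMap T T' (e : T) = 1 := by
    refine (isUnit_of_mul_isUnit_right hd).mul_left_cancel ?_
    rw [← map_mul, mul_one, ← S.coe_mul, he.eq]
  let ψ : (S ⧸ J) →ₐ[A] T' := Ideal.Quotient.liftₐ J ((IsScalarTower.toAlgHom A T T').comp S.val)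
    (fun x hx ↦ by
      obtain ⟨c, rfl⟩ := Ideal.mem_span_singleton'.mp hx
      simp [he'])
  let _ : Algebra (S ⧸ J) T' := ψ.toRingHom.toAlgebra
  have : IsScalarTower A (S ⧸ J) T' := IsScalarTower.of_algebraMap_eq' ψ.comp_algebraMap.symm
  have : IsLocalization.Away (Ideal.Quotient.mk J (r k)) T' := by
    constructor
    constructor
    · rintro ⟨_, n, rfl⟩
      show IsUnit (ψ (Ideal.Quotient.mk J (r k) ^ n))
      rw [map_pow]
      exact (isUnit_of_mul_isUnit_left hd).pow n
    · intro z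
      obtain ⟨⟨x, _, n, rfl⟩, hx⟩ := IsLocalization.surj (Submonoid.powers d) z
      obtain ⟨n', s, hs⟩ := hsurj k x
      refine ⟨⟨Ideal.Quotient.mk J s, ⟨_, n + n', rfl⟩⟩, ?_⟩
      show z * ψ (Ideal.Quotient.mk J (r k) ^ (n + n')) = algebraMap T T' (s : T)
      rw [map_pow, hs, map_mul, map_pow, ← hx]
      simp only [d, map_mul, map_pow, mul_pow, he', one_pow, mul_one]
      show z * algebraMap T T' (k : T) ^ (n + n') = _
      ring
    · intro x y hxy
      obtain ⟨s₁, rfl⟩ := Ideal.Quotient.mk_surjective x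
      obtain ⟨s₂, rfl⟩ := Ideal.Quotient.mk_surjective y
      obtain ⟨⟨_, n, rfl⟩, hn⟩ := (IsLocalization.eq_iff_exists (Submonoid.powers d) T').mp
        (show algebraMap T T' (s₁ : T) = algebraMap T T' (s₂ : T) from hxy)
      refine ⟨⟨_, n, rfl⟩, ?_⟩
      have h2 : (r k * e) ^ n * s₁ = (r k * e) ^ n * s₂ := Subtype.ext (by simpa [r, d] using hn)
      have heJ : Ideal.Quotient.mk J e = 1 :=
        (Ideal.Quotient.eq.mpr (Ideal.mem_span_singleton_self _)).symm
      simpa [heJ] using congrArg (Ideal.Quotient.mk J) h2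
  have : Algebra.Etale A T' := Algebra.Etale.comp A T T'
  have : Algebra.Etale A (Localization.Away (Ideal.Quotient.mk J (r k))) := Algebra.Etale.of_equiv
    ((Localization.algEquiv (Submonoid.powers (Ideal.Quotient.mk J (r k))) T').symm.restrictScalars A)
  rw [← IsScalarTower.algebraMap_eq]
  exact RingHom.etale_algebraMap.mpr this

theorem ker_eq_of_tensor_equiv (I : Ideal A) {M : Type u} [CommRing M] [Algebra A M]
    {C : Type u} [CommRing C] [Algebra (A ⧸ I) C] [Algebra A C] [IsScalarTower A (A ⧸ I) C]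
    (φ : M →ₐ[A] C) (e : (A ⧸ I) ⊗[A] M ≃ₐ[A ⧸ I] C) (h : ∀ x, e (1 ⊗ₜ x) = φ x) :
    Function.Surjective φ ∧ RingHom.ker φ = I.map (algebraMap A M) := by
  have hs : ∀ y : (A ⧸ I) ⊗[A] M, ∃ x, y = 1 ⊗ₜ x := by
    intro y
    induction y using TensorProduct.induction_on with
    | zero => exact ⟨0, by simp⟩
    | tmul q x =>
      obtain ⟨a, rfl⟩ := Ideal.Quotient.mk_surjective q
      exact ⟨a • x, by rw [TensorProduct.tmul_smul, TensorProduct.smul_tmul']; simp [Algebra.smul_def]⟩
    | add y z hy hz =>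
      obtain ⟨x, rfl⟩ := hy
      obtain ⟨x', rfl⟩ := hz
      exact ⟨x + x', by simp [TensorProduct.tmul_add]⟩
  constructor
  · intro c
    obtain ⟨x, hx⟩ := hs (e.symm c)
    exact ⟨x, by rw [← h, ← hx, AlgEquiv.apply_symm_apply]⟩
  · ext x
    rw [RingHom.mem_ker, ← h, map_eq_zero_iff _ e.injective,
      ← (TensorProduct.quotTensorEquivQuotSMul M I).map_eq_zero_iff]
    rw [← map_one (Ideal.Quotient.mk I), TensorProduct.quotTensorEquivQuotSMul_mk_tmul, one_smul,
      Submodule.Quotient.mk_eq_zero, Ideal.smul_top_eq_map, Submodule.restrictScalars_mem]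

/-- Étale algebras lift along any surjection. -/
theorem exists_etale_lift (I : Ideal A) (C : Type u) [CommRing C] [Algebra (A ⧸ I) C]
    [Algebra A C] [IsScalarTower A (A ⧸ I) C] [Algebra.Etale (A ⧸ I) C] :
    ∃ (T : Type u) (_ : CommRing T) (_ : Algebra A T) (f : T →ₐ[A] C), Algebra.Etale A T ∧
      Function.Surjective f ∧ RingHom.ker f = I.map (algebraMap A T) := by
  have : Algebra.IsStandardSmoothOfRelativeDimension 0 (A ⧸ I) C :=
    Algebra.Etale.iff_isStandardSmoothOfRelativeDimension_zero.mp inferInstance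
  obtain ⟨ι, σ, _, _, P, hP⟩ :=
    Algebra.IsStandardSmoothOfRelativeDimension.out (n := 0) (R := A ⧸ I) (S := C)
  have : P.toPresentation.HasCoeffs A := ⟨fun x _ ↦ Ideal.Quotient.mk_surjective x⟩
  let P' := P.toPreSubmersivePresentation.ofHasCoeffs A
  let M := P.toPresentation.ModelOfHasCoeffs A
  let Φ : M →ₐ[A] C := (P.toPresentation.tensorModelOfHasCoeffsEquiv A).toAlgHom.restrictScalars A
    |>.comp Algebra.TensorProduct.includeRight
  obtain ⟨hΦs, hΦk⟩ := ker_eq_of_tensor_equiv I Φ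
    (P.toPresentation.tensorModelOfHasCoeffsEquiv A) fun _ ↦ rfl
  let Δ : M := P'.jacobian
  have hΔ : IsUnit (Φ Δ) := by
    have : Φ Δ = P.jacobian := by
      classical
      let : Fintype σ := Fintype.ofFinite _
      rw [show Δ = Ideal.Quotient.mk _ P'.jacobiMatrix.det from
        (Algebra.PreSubmersivePresentation.jacobian_eq_jacobiMatrix_det P').trans rfl]
      show P.toPresentation.tensorModelOfHasCoeffsEquiv A (1 ⊗ₜ Ideal.Quotient.mk _ _) = _
      erw [Algebra.Presentation.tensorModelOfHasCoeffsEquiv_tmul]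
      rw [map_one, one_mul, P.jacobian_eq_jacobiMatrix_det, Algebra.Generators.algebraMap_apply,
        ← MvPolynomial.aeval_map_algebraMap (A ⧸ I)]
      congr 1
      rw [RingHom.map_det]
      congr 1
      ext1 i j
      simp [P', ← MvPolynomial.pderiv_map, Algebra.PreSubmersivePresentation.jacobiMatrix_apply]
      congr 1
      exact P.toPresentation.map_relationOfHasCoeffs A j
    rw [this]
    exact P.jacobian_isUnit
  let S : Algebra.SubmersivePresentation A (Localization.Away Δ) _ _ :=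
    { toPreSubmersivePresentation := .comp (.localizationAway (Localization.Away Δ) Δ) P'
      jacobian_isUnit := by
        have := IsLocalization.Away.algebraMap_isUnit (S := Localization.Away Δ) Δ
        simpa [Algebra.smul_def, -isUnit_map_iff, Δ] using this }
  have : Algebra.IsStandardSmoothOfRelativeDimension 0 A (Localization.Away Δ) :=
    S.isStandardSmoothOfRelativeDimension (by
      simp [Algebra.Presentation.dimension] at hP ⊢
      omega)
  have hu : ∀ y : Submonoid.powers Δ, IsUnit (Φ y) := by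
    rintro ⟨_, n, rfl⟩; simpa using hΔ.pow n
  let f : Localization.Away Δ →ₐ[A] C := IsLocalization.liftAlgHom hu
  have hf : ∀ x, f (algebraMap M _ x) = Φ x := fun x ↦ IsLocalization.lift_eq _ x
  refine ⟨_, inferInstance, inferInstance, f,
    Algebra.Etale.iff_isStandardSmoothOfRelativeDimension_zero.mpr inferInstance,
    fun c ↦ ?_, ?_⟩
  · obtain ⟨x, rfl⟩ := hΦs c
    exact ⟨_, hf x⟩
  · apply le_antisymm
    · intro z hz
      obtain ⟨⟨x, s⟩, hx⟩ := IsLocalization.surj (Submonoid.powers Δ) z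
      have : x ∈ I.map (algebraMap A M) := by
        rw [← hΦk, RingHom.mem_ker, ← hf, ← hx, map_mul, RingHom.mem_ker.mp hz, zero_mul]
      have h2 := Ideal.mem_map_of_mem (algebraMap M (Localization.Away Δ)) this
      rw [Ideal.map_map, ← IsScalarTower.algebraMap_eq, ← hx] at h2
      exact (Ideal.mul_unit_mem_iff_mem _ (IsLocalization.map_units _ s)).mp h2
    · rw [Ideal.map_le_iff_le_comap]
      intro i hi
      show f (algebraMap A _ i) = 0
      rw [f.commutes, IsScalarTower.algebraMap_apply A (A ⧸ I) C]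
      simp [Ideal.Quotient.algebraMap_eq, Ideal.Quotient.eq_zero_iff_mem.mpr hi]

/-- Finite étale algebras lift along henselian pairs. -/
theorem exists_finite_etale_lift (I : Ideal A) [HenselianRing A I] (C : Type u) [CommRing C]
    [Algebra (A ⧸ I) C] [Module.Finite (A ⧸ I) C] [Algebra.Etale (A ⧸ I) C] :
    ∃ (B : Type u) (_ : CommRing B) (_ : Algebra A B), Module.Finite A B ∧ Algebra.Etale A B ∧
      Nonempty ((A ⧸ I) ⊗[A] B ≃ₐ[A ⧸ I] C) := by
  let _ : Algebra A C := ((algebraMap (A ⧸ I) C).comp (Ideal.Quotient.mk I)).toAlgebra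
  have : IsScalarTower A (A ⧸ I) C := IsScalarTower.of_algebraMap_eq' rfl
  have : Module.Finite A C := Module.Finite.trans (A ⧸ I) C
  obtain ⟨T, _, _, f, hT, hf, hfk⟩ := exists_etale_lift I C
  obtain ⟨B, _, _, g, hB, hBe, hg, hgk⟩ := exists_finite_etale_factor I f hf hfk
  refine ⟨B, inferInstance, inferInstance, hB, hBe, ⟨AlgEquiv.ofBijective
    (Algebra.TensorProduct.lift (Algebra.ofId _ _) g fun _ _ ↦ .all _ _) ⟨?_, ?_⟩⟩⟩
  · rw [injective_iff_map_eq_zero]
    intro y hy
    obtain ⟨x, rfl⟩ : ∃ x, y = 1 ⊗ₜ x := by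
      obtain ⟨x, hx⟩ := TensorProduct.mk_surjective A B (A ⧸ I) Ideal.Quotient.mk_surjective y
      exact ⟨x, hx.symm⟩
    rw [Algebra.TensorProduct.lift_tmul, map_one, one_mul, ← RingHom.mem_ker, hgk] at hy
    rw [← (TensorProduct.quotTensorEquivQuotSMul B I).map_eq_zero_iff,
      ← map_one (Ideal.Quotient.mk I), TensorProduct.quotTensorEquivQuotSMul_mk_tmul, one_smul,
      Submodule.Quotient.mk_eq_zero, Ideal.smul_top_eq_map, Submodule.restrictScalars_mem]
    exact hy
  · intro c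
    obtain ⟨x, rfl⟩ := hg c
    exact ⟨1 ⊗ₜ x, by simp⟩

end GrothLib.Hensel
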