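import Groth.Agent.Lib.Hensel.Local

/-!
# Decomposing a finite algebra over a local ring into local rings
-/

namespace GrothLib.Hensel

open IsLocalRing

universe u v

theorem eq_of_one_sub_mem {S : Type v} [CommRing S] {e : S} (i : MaximalSpectrum S)
    (h : ∀ j : MaximalSpectrum S, e ∉ j.asIdeal → j = i) (M : Ideal S) (hM : M.IsMaximal)
    (hmem : 1 - e ∈ M) : M = i.asIdeal := by
  refine congrArg MaximalSpectrum.asIdeal (h ⟨M, hM⟩ fun he ↦ hM.ne_top ?_)
  rw [Ideal.eq_top_iff_one, ← sub_add_cancel 1 e]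
  exact M.add_mem hmem he

theorem isLocalRing_quotient_one_sub {S : Type v} [CommRing S] {e : S} (he : IsIdempotentElem e)
    (i : MaximalSpectrum S) (hei : e ∉ i.asIdeal)
    (h : ∀ j : MaximalSpectrum S, e ∉ j.asIdeal → j = i) :
    IsLocalRing (S ⧸ Ideal.span {1 - e}) := by
  have hJi : 1 - e ∈ i.asIdeal := by
    refine (i.isMaximal.isPrime.mem_or_mem (x := e) (y := 1 - e) ?_).resolve_left hei
    rw [he.mul_one_sub_self]; exact Ideal.zero_mem _
  have hnt : Nontrivial (S ⧸ Ideal.span {1 - e}) :=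
    Ideal.Quotient.nontrivial_iff.mpr
      (ne_top_of_le_ne_top i.isMaximal.ne_top (Ideal.span_le.mpr (by simpa using hJi)))
  refine IsLocalRing.of_unique_max_ideal ?_
  obtain ⟨M, hM⟩ := Ideal.exists_maximal (S ⧸ Ideal.span {1 - e})
  have key : ∀ M : Ideal (S ⧸ Ideal.span {1 - e}), M.IsMaximal →
      M.comap (Ideal.Quotient.mk _) = i.asIdeal := fun M hM ↦
    eq_of_one_sub_mem i h _ (Ideal.comap_isMaximal_of_surjective _ Ideal.Quotient.mk_surjective) (by
      rw [Ideal.mem_comap, Ideal.Quotient.eq_zero_iff_mem.mpr (Ideal.mem_span_singleton_self _)]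
      exact M.zero_mem)
  exact ⟨M, hM, fun N hN ↦ Ideal.comap_injective_of_surjective _ Ideal.Quotient.mk_surjective
    ((key N hN).trans (key M hM).symm)⟩

theorem exists_completeOrthogonalIdempotents_of_surjOn {R : Type u} [CommRing R] [IsLocalRing R]
    {S : Type v} [CommRing S] [Algebra R S] [Module.Finite R S]
    (hsurj : Set.SurjOn (Ideal.Quotient.mk ((maximalIdeal R).map (algebraMap R S)))
        {e : S | IsIdempotentElem e} {e | IsIdempotentElem e}) :
    ∃ (_ : Fintype (MaximalSpectrum S)) (e : MaximalSpectrum S → S),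
      CompleteOrthogonalIdempotents e ∧ (∀ i, e i ∉ i.asIdeal) ∧
      (∀ i j : MaximalSpectrum S, e i ∉ j.asIdeal → j = i) ∧
      ∀ i, IsLocalRing (S ⧸ Ideal.span {1 - e i}) := by
  set mS := (maximalIdeal R).map (algebraMap R S)
  let f : ResidueField R →+* S ⧸ mS :=
    Ideal.quotientMap ((maximalIdeal R).map (algebraMap R S)) (algebraMap R S) Ideal.le_comap_map
  let _ : Algebra (ResidueField R) (S ⧸ mS) := f.toAlgebra
  have : IsScalarTower R (ResidueField R) (S ⧸ mS) := .of_algebraMap_eq fun _ ↦ rfl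
  have : Module.Finite (ResidueField R) (S ⧸ mS) := .of_restrictScalars_finite R _ _
  obtain ⟨_, ē, hē, hēi, hu, -⟩ :=
    exists_completeOrthogonalIdempotents_isLocalRing (R := ResidueField R) (S := S ⧸ mS)
  have hjac : mS ≤ Ideal.jacobson ⊥ :=
    map_le_jacobson_of_isIntegral (IsLocalRing.maximalIdeal_le_jacobson ⊥)
  have hle : ∀ i : MaximalSpectrum S, mS ≤ i.asIdeal := fun i ↦
    hjac.trans (sInf_le ⟨bot_le, i.isMaximal⟩)
  let bar : MaximalSpectrum S → MaximalSpectrum (S ⧸ mS) := fun i ↦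
    ⟨i.asIdeal.map (Ideal.Quotient.mk mS),
      (Ideal.map_eq_top_or_isMaximal_of_surjective _ Ideal.Quotient.mk_surjective
        i.isMaximal).resolve_left fun h ↦ i.isMaximal.ne_top (by
          have := congrArg (Ideal.comap (Ideal.Quotient.mk mS)) h
          rwa [Ideal.comap_map_of_surjective' _ Ideal.Quotient.mk_surjective, Ideal.mk_ker,
            Ideal.comap_top, sup_eq_left.mpr (hle i)] at this)⟩
  have hbar : ∀ i x, Ideal.Quotient.mk mS x ∈ (bar i).asIdeal ↔ x ∈ i.asIdeal := fun i x ↦ by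
    show Ideal.Quotient.mk mS x ∈ i.asIdeal.map (Ideal.Quotient.mk mS) ↔ _
    rw [← Ideal.mem_comap, Ideal.comap_map_of_surjective' _ Ideal.Quotient.mk_surjective,
      Ideal.mk_ker, sup_eq_left.mpr (hle i)]
  have hbinj : Function.Injective bar := fun i j h ↦
    MaximalSpectrum.ext (Ideal.ext fun x ↦ by rw [← hbar i x, ← hbar j x, h])
  have : Finite (MaximalSpectrum S) := Finite.of_injective bar hbinj
  choose e he hee using fun i ↦ hsurj (hē.idem (bar i))
  have hmk : ∀ i, Ideal.Quotient.mk mS (e i) = ē (bar i) := hee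
  have horth : Pairwise fun i j ↦ e i * e j = 0 := fun i j hij ↦
    eq_of_isIdempotentElem_of_sub_mem hjac ((he i).mul (he j)) .zero (by
      rw [sub_zero, ← Ideal.Quotient.eq_zero_iff_mem, map_mul, hmk, hmk]
      exact hē.ortho (hbinj.ne hij))
  have hnot : ∀ i, e i ∉ i.asIdeal := fun i h ↦ hēi (bar i) (hmk i ▸ (hbar i _).mpr h)
  have huniq : ∀ i j : MaximalSpectrum S, e i ∉ j.asIdeal → j = i := fun i j h ↦
    hbinj (hu _ _ fun h' ↦ h ((hbar j _).mp (by rw [hmk]; exact h')))
  let _ : Fintype (MaximalSpectrum S) := Fintype.ofFinite _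
  have hoi : OrthogonalIdempotents e := ⟨he, horth⟩
  refine ⟨‹_›, e, ⟨hoi, ?_⟩, hnot, huniq, fun i ↦
    isLocalRing_quotient_one_sub (he i) i (hnot i) (huniq i)⟩
  refine (IsIdempotentElem.iff_eq_one_of_isUnit ?_).mp hoi.isIdempotentElem_sum
  by_contra hu'
  obtain ⟨M, hM, hmem⟩ := exists_max_ideal_of_mem_nonunits hu'
  have hmul := hoi.mul_sum_of_mem (Finset.mem_univ (⟨M, hM⟩ : MaximalSpectrum S))
  exact hnot ⟨M, hM⟩ (hmul ▸ M.mul_mem_left _ hmem)

/-- A finite algebra with enough idempotents is the product of its localizations. -/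
theorem pi_localization_bijective {S : Type v} [CommRing S] [Fintype (MaximalSpectrum S)]
    {e : MaximalSpectrum S → S} (he : CompleteOrthogonalIdempotents e)
    (hnot : ∀ i, e i ∉ i.asIdeal) (huniq : ∀ i j : MaximalSpectrum S, e i ∉ j.asIdeal → j = i)
    (hloc : ∀ i, IsLocalRing (S ⧸ Ideal.span {1 - e i})) :
    Function.Bijective
      (RingHom.pi (fun n : MaximalSpectrum S => algebraMap S (Localization.AtPrime n.asIdeal))) := by
  classical
  have hone : ∀ n, algebraMap S (Localization.AtPrime n.asIdeal) (e n) = 1 := fun n ↦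
    (IsIdempotentElem.iff_eq_one_of_isUnit
      ((IsLocalization.AtPrime.isUnit_to_map_iff _ n.asIdeal _).mpr (hnot n))).mp
      ((he.idem n).map _)
  refine ⟨?_, fun y ↦ ?_⟩
  · rw [injective_iff_map_eq_zero]
    intro x hx
    have h0 : ∀ n : MaximalSpectrum S, ∃ s : n.asIdeal.primeCompl, (s : S) * x = 0 := fun n ↦
      (IsLocalization.map_eq_zero_iff n.asIdeal.primeCompl (Localization.AtPrime n.asIdeal) x).mp
        (congrFun hx n)
    by_contra hne
    obtain ⟨M, hM, hle⟩ := Ideal.exists_le_maximal (Submodule.comap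
      (LinearMap.toSpanSingleton S S x) ⊥ : Ideal S) (fun h ↦ hne (by
        simpa using (Ideal.eq_top_iff_one _).mp h))
    obtain ⟨s, hs⟩ := h0 ⟨M, hM⟩
    exact s.2 (hle (by simpa using hs))
  · have hc : ∀ n, ∃ c : S, algebraMap S (Localization.AtPrime n.asIdeal) c = y n := fun n ↦ by
      obtain ⟨⟨b, s⟩, hbs⟩ := IsLocalization.surj n.asIdeal.primeCompl (y n)
      have := hloc n
      have hu : IsUnit (Ideal.Quotient.mk (Ideal.span {1 - e n}) (s : S)) := by
        by_contra h
        obtain ⟨M, hM, hmem⟩ := exists_max_ideal_of_mem_nonunits h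
        have heq := eq_of_one_sub_mem n (huniq n) (M.comap (Ideal.Quotient.mk _))
          (Ideal.comap_isMaximal_of_surjective _ Ideal.Quotient.mk_surjective) (by
            rw [Ideal.mem_comap, Ideal.Quotient.eq_zero_iff_mem.mpr (Ideal.mem_span_singleton_self _)]
            exact M.zero_mem)
        refine s.2 (?_ : (s : S) ∈ n.asIdeal)
        exact (SetLike.ext_iff.mp heq _).mp hmem
      obtain ⟨v, hv⟩ := hu.exists_right_inv
      obtain ⟨v, rfl⟩ := Ideal.Quotient.mk_surjective v
      rw [← map_mul, ← map_one (Ideal.Quotient.mk _), Ideal.Quotient.eq,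
        Ideal.mem_span_singleton'] at hv
      obtain ⟨r, hr⟩ := hv
      refine ⟨b * v, ?_⟩
      have := congrArg (algebraMap S (Localization.AtPrime n.asIdeal)) hr
      simp only [map_mul, map_sub, map_one, hone, sub_self, mul_zero] at this
      rw [map_mul, ← hbs, mul_assoc, sub_eq_zero.mp this.symm, mul_one]
    choose c hc using hc
    refine ⟨∑ n, e n * c n, funext fun n ↦ ?_⟩
    show algebraMap S _ (∑ m, e m * c m) = y n
    rw [map_sum, Finset.sum_eq_single n]
    · rw [map_mul, hone, one_mul, hc]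
    · intro m _ hm
      have h : algebraMap S (Localization.AtPrime n.asIdeal) (e n) * algebraMap S _ (e m) = 0 := by
        rw [← map_mul, he.ortho (Ne.symm hm), map_zero]
      rw [hone, one_mul] at h
      rw [map_mul, h, zero_mul]
    · exact fun h ↦ absurd (Finset.mem_univ n) h

theorem exists_pi_local_of_idempotents {S : Type u} [CommRing S] [Fintype (MaximalSpectrum S)]
    {e : MaximalSpectrum S → S} (he : CompleteOrthogonalIdempotents e)
    (hloc : ∀ i, IsLocalRing (S ⧸ Ideal.span {1 - e i})) :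
    ∃ (ι : Type u) (_ : Fintype ι) (C : ι → Type u) (_ : ∀ j, CommRing (C j)),
      (∀ j, IsLocalRing (C j)) ∧ Nonempty (S ≃+* (∀ j, C j)) :=
  ⟨MaximalSpectrum S, inferInstance, fun i ↦ S ⧸ Ideal.span {1 - e i}, inferInstance, hloc,
    ⟨RingEquiv.ofBijective _ he.bijective_pi⟩⟩

theorem surjOn_of_pi_local {S : Type v} [CommRing S] (J : Ideal S)
    (h : ∃ (ι : Type v) (_ : Fintype ι) (A : ι → Type v) (_ : ∀ i, CommRing (A i)),
        (∀ i, IsLocalRing (A i)) ∧ Nonempty (S ≃+* (∀ i, A i))) :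
    Set.SurjOn (Ideal.Quotient.mk J) {e : S | IsIdempotentElem e} {e | IsIdempotentElem e} := by
  intro e' he'
  obtain ⟨b, rfl⟩ := Ideal.Quotient.mk_surjective e'
  obtain ⟨e, he, heb⟩ := exists_idem_lift_of_pi_local J (b := b)
    (Ideal.Quotient.eq.mp (((map_mul _ _ _).trans he' :) : Ideal.Quotient.mk J (b * b) = _)) h
  exact ⟨e, he, Ideal.Quotient.eq.mpr heb⟩

end GrothLib.Hensel
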