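import Groth.Agent.Lib.Hensel.Henselization
import Groth.Agent.Lib.AdicLim.Noeth
import Mathlib.RingTheory.AdicCompletion.Completeness
import Mathlib.RingTheory.Filtration

/-!
# Henselizations of Noetherian rings are Noetherian

A ring with finitely generated ideals closed for an adic topology and Noetherian reduction is
Noetherian; ideals in flat algebras over Noetherian rings are closed.
-/

namespace GrothLib.Hensel

universe u v

theorem isNoetherianRing_of_faithfullyFlat (A : Type u) (B : Type v) [CommRing A] [CommRing B]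
    [Algebra A B] [Module.FaithfullyFlat A B] [IsNoetherianRing B] : IsNoetherianRing A := by
  rw [isNoetherianRing_iff, isNoetherian_iff'] at *
  exact (OrderEmbedding.ofMapLEIff (fun I : Ideal A ↦ I.map (algebraMap A B)) fun I J ↦
    ⟨fun h ↦ by
      have := Ideal.comap_mono (f := algebraMap A B) h
      rwa [Ideal.comap_map_eq_self_of_faithfullyFlat, Ideal.comap_map_eq_self_of_faithfullyFlat]
        at this,
      Ideal.map_mono⟩).strictMono.wellFoundedGT

theorem isNoetherianRing_adicCompletion {B : Type u} [CommRing B] (I : Ideal B) (hI : I.FG)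
    [IsNoetherianRing (B ⧸ I)] : IsNoetherianRing (AdicCompletion I B) := by
  have : IsAdicComplete (I.map (algebraMap B (AdicCompletion I B))) (AdicCompletion I B) :=
    (IsAdicComplete.map_algebraMap_iff I (AdicCompletion I B)).mpr (AdicCompletion.isAdicComplete hI)
  have : IsNoetherianRing (AdicCompletion I B ⧸ I.map (algebraMap B (AdicCompletion I B))) := by
    rw [← AdicCompletion.ker_evalOneₐ_eq_map I hI]
    exact isNoetherianRing_of_ringEquiv (B ⧸ I)
      (RingHom.quotientKerEquivOfSurjective (AdicCompletion.evalOneₐ_surjective I)).symm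
  exact GrothLib.AdicLim.isNoetherianRing_of_complete (hI.map (algebraMap B (AdicCompletion I B)))

/-- Closed ideals and Noetherian reduction give Noetherian. -/
theorem isNoetherianRing_of_closed {B : Type u} [CommRing B] (I : Ideal B) (hI : I.FG)
    [IsNoetherianRing (B ⧸ I)]
    (hclosed : ∀ J : Ideal B, J.FG → ∀ x, (∀ n, x ∈ J ⊔ I ^ n) → x ∈ J) : IsNoetherianRing B := by
  have := isNoetherianRing_adicCompletion I hI
  refine (isNoetherianRing_iff_ideal_fg B).mpr fun J ↦ ?_
  let φ := algebraMap B (AdicCompletion I B)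
  obtain ⟨_, ⟨J₀, ⟨hle, hfg⟩, rfl⟩, hmax⟩ := set_has_maximal_iff_noetherian.mpr
    (inferInstance : IsNoetherian (AdicCompletion I B) (AdicCompletion I B))
    (Ideal.map φ '' {K : Ideal B | K ≤ J ∧ K.FG}) ⟨_, ⊥, ⟨bot_le, Submodule.fg_bot⟩, rfl⟩
  suffices J = J₀ from this ▸ hfg
  refine le_antisymm (fun x hx ↦ hclosed J₀ hfg x fun n ↦ ?_) hle
  have hx' : φ x ∈ J₀.map φ := by
    have h1 : J₀.map φ ≤ (J₀ ⊔ Ideal.span {x}).map φ := Ideal.map_mono le_sup_left
    have h2 : (J₀ ⊔ Ideal.span {x}).map φ = J₀.map φ :=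
      (eq_of_le_of_not_lt h1 (hmax _ ⟨J₀ ⊔ Ideal.span {x}, ⟨sup_le hle (by simpa using hx),
        Submodule.FG.sup hfg (Submodule.fg_span_singleton x)⟩, rfl⟩)).symm
    rw [← h2]
    exact Ideal.mem_map_of_mem _ (Ideal.mem_sup_right (Ideal.mem_span_singleton_self x))
  have h3 := Ideal.mem_map_of_mem (AdicCompletion.evalₐ I n).toRingHom hx'
  rw [Ideal.map_map, show (AdicCompletion.evalₐ I n).toRingHom.comp φ = Ideal.Quotient.mk (I ^ n)
    from (AdicCompletion.evalₐ I n).comp_algebraMap] at h3
  rw [show (AdicCompletion.evalₐ I n).toRingHom (φ x) = Ideal.Quotient.mk (I ^ n) x from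
    (AdicCompletion.evalₐ I n).commutes x] at h3
  rw [← Ideal.mem_comap, Ideal.comap_map_of_surjective _ Ideal.Quotient.mk_surjective] at h3
  rwa [show Ideal.comap (Ideal.Quotient.mk (I ^ n)) ⊥ = I ^ n from Ideal.mk_ker] at h3

section Flat

variable {A : Type u} [CommRing A] {B : Type v} [CommRing B] [Algebra A B] [Module.Flat A B]

/-- The ideal quotient `(L : y)`. -/
def colonElem (L : Ideal A) (y : A) : Ideal A :=
  Submodule.comap (LinearMap.toSpanSingleton A A y) L

omit [CommRing B] [Algebra A B] [Module.Flat A B] in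
theorem mem_colonElem {L : Ideal A} {y c : A} : c ∈ colonElem L y ↔ c * y ∈ L := Iff.rfl

theorem map_colonElem_eq_top {L : Ideal A} {y : A}
    (h : algebraMap A B y ∈ L.map (algebraMap A B)) :
    (colonElem L y).map (algebraMap A B) = ⊤ := by
  obtain ⟨k, b, g, hg⟩ := Submodule.mem_span_set'.mp h
  choose l hl hlg using fun i ↦ (g i).2
  obtain ⟨m, c, z, hz, hc⟩ := Module.Flat.isTrivialRelation_of_sum_smul_eq_zero (R := A) (M := B)
    (f := (Fin.cons y l : Fin (k + 1) → A)) (x := Fin.cons 1 (fun i ↦ -b i)) (by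
      simp only [Fin.sum_univ_succ, Fin.cons_zero, Fin.cons_succ, Algebra.smul_def, mul_one,
        mul_neg, Finset.sum_neg_distrib]
      rw [← hg, add_neg_eq_zero]
      exact Finset.sum_congr rfl fun i _ ↦ by rw [smul_eq_mul, ← hlg i]; ring)
  have hmem : ∀ j, c 0 j ∈ colonElem L y := fun j ↦ by
    rw [mem_colonElem]
    have := hc j
    simp only [Fin.sum_univ_succ, Fin.cons_zero, Fin.cons_succ] at this
    rw [mul_comm, eq_neg_of_add_eq_zero_left this]
    exact L.neg_mem (L.sum_mem fun i _ ↦ L.mul_mem_right _ (hl i))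
  rw [Ideal.eq_top_iff_one]
  have h1 := hz 0
  simp only [Fin.cons_zero] at h1
  rw [h1]
  exact Ideal.sum_mem _ fun j _ ↦ by
    rw [Algebra.smul_def]
    exact Ideal.mul_mem_right _ _ (Ideal.mem_map_of_mem _ (hmem j))

/-- Extended ideals in a flat algebra over a Noetherian ring are closed. -/
theorem mem_map_of_forall_mem_sup_pow [IsNoetherianRing A] {I : Ideal A}
    (hI : I.map (algebraMap A B) ≤ Ideal.jacobson ⊥) (J : Ideal A) (y : A)
    (h : ∀ n, algebraMap A B y ∈ J.map (algebraMap A B) ⊔ (I ^ n).map (algebraMap A B)) :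
    algebraMap A B y ∈ J.map (algebraMap A B) := by
  obtain ⟨k, hk⟩ := Ideal.exists_pow_inf_eq_pow_smul I
    (Submodule.span A {Submodule.Quotient.mk (p := J) y})
  have hle : colonElem (J ⊔ I ^ (k + 1)) y ≤ colonElem J y ⊔ I := fun c hc ↦ by
    rw [mem_colonElem] at hc
    obtain ⟨j, hj, i, hi, hji⟩ := Submodule.mem_sup.mp hc
    have hmem : c • Submodule.Quotient.mk (p := J) y ∈
        I ^ (k + 1) • (⊤ : Submodule A (A ⧸ J)) ⊓ Submodule.span A {Submodule.Quotient.mk y} := by
      refine ⟨?_, Submodule.smul_mem _ _ (Submodule.subset_span rfl)⟩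
      have : c • Submodule.Quotient.mk (p := J) y = i • Submodule.Quotient.mk (p := J) 1 := by
        rw [← Submodule.Quotient.mk_smul, ← Submodule.Quotient.mk_smul, Submodule.Quotient.eq,
          smul_eq_mul, smul_eq_mul, mul_one, ← hji, add_sub_cancel_right]
        exact hj
      rw [this]
      exact Submodule.smul_mem_smul hi Submodule.mem_top
    rw [hk (k + 1) (Nat.le_succ k), Nat.add_sub_cancel_left, pow_one] at hmem
    obtain ⟨r, hr, hre⟩ := Submodule.mem_smul_span_singleton.mp
      (Submodule.smul_mono (le_refl I) inf_le_right hmem)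
    rw [← Submodule.Quotient.mk_smul, ← Submodule.Quotient.mk_smul, Submodule.Quotient.eq,
      smul_eq_mul, smul_eq_mul, ← sub_mul] at hre
    refine Submodule.mem_sup.mpr ⟨c - r, ?_, r, hr, sub_add_cancel c r⟩
    rw [mem_colonElem, ← neg_sub r c, neg_mul]
    exact J.neg_mem hre
  have h1 := map_colonElem_eq_top (B := B) (L := J ⊔ I ^ (k + 1)) (y := y)
    (by rw [Ideal.map_sup]; exact h (k + 1))
  have h2 : (colonElem J y).map (algebraMap A B) = ⊤ := by
    refine eq_top_of_sup_eq_top hI (eq_top_iff.mpr ?_)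
    rw [← h1, ← Ideal.map_sup]
    exact Ideal.map_mono hle
  have h3 : (colonElem J y).map (algebraMap A B) * Ideal.span {algebraMap A B y} ≤
      J.map (algebraMap A B) := by
    rw [← Set.image_singleton, ← Ideal.map_span, ← Ideal.map_mul]
    refine Ideal.map_mono (Ideal.mul_le.mpr fun c hc z hz ↦ ?_)
    obtain ⟨t, rfl⟩ := Ideal.mem_span_singleton'.mp hz
    rw [mul_left_comm]
    exact J.mul_mem_left t (mem_colonElem.mp hc)
  rw [h2, Ideal.top_mul] at h3
  exact h3 (Ideal.mem_span_singleton_self _)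

end Flat

namespace Hull

variable {A C : Type u} [CommRing A] [CommRing C] [Algebra A C]

/-- The hull is flat over every stage. -/
theorem flat_ι (N : Nbhd A C) :
    letI := (Hull.ι N).toRingHom.toAlgebra
    Module.Flat N.Ring (Hull A C) := by
  let _ := (Hull.ι N).toRingHom.toAlgebra
  refine Module.Flat.of_forall_isTrivialRelation fun {l f x} h ↦ ?_
  obtain ⟨K, a, ha⟩ := Hull.exists_ι_family x
  obtain ⟨M, g₁, g₂, -⟩ := CategoryTheory.IsFilteredOrEmpty.cocone_objs N K
  have h0 : Hull.ι M (∑ i, g₁.map (f i) * g₂.map (a i)) = 0 := by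
    rw [map_sum, ← h]
    exact Finset.sum_congr rfl fun i _ ↦ by
      rw [map_mul, Hull.ι_map, Hull.ι_map, ha, Algebra.smul_def]; rfl
  obtain ⟨M', g, hg⟩ := Hull.exists_map_eq_zero h0
  let _ : Algebra N.Ring M'.Ring := (g.map.comp g₁.map).toRingHom.toAlgebra
  have : IsScalarTower A N.Ring M'.Ring :=
    IsScalarTower.of_algebraMap_eq (R := A) (S := N.Ring) (A := M'.Ring)
      fun r ↦ ((g.map.comp g₁.map).commutes r).symm
  have : Algebra.Etale N.Ring M'.Ring := Algebra.Etale.of_restrictScalars A N.Ring M'.Ring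
  have hg' : ∑ i, f i • g.map (g₂.map (a i)) = 0 := by
    rw [← hg, map_sum]
    exact Finset.sum_congr rfl fun i _ ↦ by rw [map_mul, Algebra.smul_def]; rfl
  obtain ⟨k, c, y, hy, hc⟩ := Module.Flat.iff_forall_isTrivialRelation.mp
    (inferInstance : Module.Flat N.Ring M'.Ring) hg'
  refine ⟨k, c, fun j ↦ ι M' (y j), fun i ↦ ?_, hc⟩
  simp only at hy
  have hN : ∀ r, ι M' (g.map (g₁.map r)) = ι N r := fun r ↦ by rw [ι_map, ι_map]
  rw [← ha i, ← ι_map g₂, ← ι_map g, hy i, map_sum]
  exact Finset.sum_congr rfl fun j _ ↦ by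
    rw [Algebra.smul_def, map_mul, Algebra.smul_def]
    exact congrArg (· * _) (hN (c i j))

theorem isNoetherianRing [IsNoetherianRing A] (I : Ideal A)
    (hI : I.map (algebraMap A (Hull A C)) ≤ Ideal.jacobson ⊥)
    [IsNoetherianRing (Hull A C ⧸ I.map (algebraMap A (Hull A C)))] :
    IsNoetherianRing (Hull A C) := by
  refine isNoetherianRing_of_closed (I.map (algebraMap A (Hull A C)))
    (((isNoetherianRing_iff_ideal_fg A).mp inferInstance I).map _) fun J hJ x hx ↦ ?_
  classical
  obtain ⟨s, rfl⟩ := hJ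
  obtain ⟨N, a, ha⟩ := exists_ι_family
    (fun i : Option s ↦ i.elim x fun j ↦ (j : Hull A C))
  have : IsNoetherianRing N.Ring := Algebra.FiniteType.isNoetherianRing A N.Ring
  let _ := (Hull.ι N).toRingHom.toAlgebra
  have := flat_ι N
  have hmap : algebraMap A (Hull A C) = (algebraMap N.Ring (Hull A C)).comp (algebraMap A N.Ring) :=
    ((Hull.ι N).comp_algebraMap).symm
  have hJ : (Ideal.span (Set.range fun j : s ↦ a (some j))).map (algebraMap N.Ring (Hull A C)) =
      Ideal.span (s : Set (Hull A C)) := by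
    rw [Ideal.map_span]
    congr 1
    ext z
    constructor
    · rintro ⟨_, ⟨j, rfl⟩, rfl⟩
      show ι N (a (some j)) ∈ (s : Set (Hull A C))
      rw [ha]; exact j.2
    · exact fun hz ↦ ⟨_, ⟨⟨z, hz⟩, rfl⟩, ha (some ⟨z, hz⟩)⟩
  have hx' : algebraMap N.Ring (Hull A C) (a none) = x := ha none
  show x ∈ Ideal.span _
  rw [← hJ, ← hx']
  refine mem_map_of_forall_mem_sup_pow (I := I.map (algebraMap A N.Ring))
    (by rw [Ideal.map_map, ← hmap]; exact hI) _ _ fun n ↦ ?_
  rw [hJ, hx', Ideal.map_pow, Ideal.map_map, ← hmap]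
  exact hx n

end Hull

theorem IsHenselization.isNoetherianRing_iff {R S : Type u} [CommRing R] [IsLocalRing R]
    [CommRing S] [IsLocalRing S] [Algebra R S] [IsLocalHom (algebraMap R S)]
    [_root_.Hensel.IsHenselization R S] : IsNoetherianRing R ↔ IsNoetherianRing S := by
  refine ⟨fun _ ↦ ?_, fun _ ↦ ?_⟩
  · have h : (IsLocalRing.maximalIdeal R).map (algebraMap R (Hens R)) =
        IsLocalRing.maximalIdeal (Hens R) := FieldHull.map_maximalIdeal
    have : IsNoetherianRing
        (Hens R ⧸ (IsLocalRing.maximalIdeal R).map (algebraMap R (Hens R))) := by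
      rw [h]
      exact inferInstanceAs (IsNoetherianRing (IsLocalRing.ResidueField (Hens R)))
    have := Hull.isNoetherianRing (C := IsLocalRing.ResidueField R) (IsLocalRing.maximalIdeal R)
      (h ▸ (IsLocalRing.jacobson_eq_maximalIdeal ⊥ bot_ne_top).ge)
    exact isNoetherianRing_of_ringEquiv (Hens R)
      (IsHenselization.nonempty_hens_algEquiv (R := R) (S := S)).some.toRingEquiv
  · have := IsHenselization.faithfullyFlat (R := R) (S := S)
    exact isNoetherianRing_of_faithfullyFlat R S

theorem IsStrictHenselization.isNoetherianRing_iff {R S : Type u} [CommRing R] [IsLocalRing R]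
    [CommRing S] [IsLocalRing S] [Algebra R S] [IsLocalHom (algebraMap R S)]
    [_root_.Hensel.IsStrictHenselization R S] : IsNoetherianRing R ↔ IsNoetherianRing S := by
  refine ⟨fun _ ↦ ?_, fun _ ↦ ?_⟩
  · have h : (IsLocalRing.maximalIdeal R).map (algebraMap R (StrictHens R)) =
        IsLocalRing.maximalIdeal (StrictHens R) := FieldHull.map_maximalIdeal
    have : IsNoetherianRing
        (StrictHens R ⧸ (IsLocalRing.maximalIdeal R).map (algebraMap R (StrictHens R))) := by
      rw [h]
      exact inferInstanceAs (IsNoetherianRing (IsLocalRing.ResidueField (StrictHens R)))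
    have := Hull.isNoetherianRing (C := SeparableClosure (IsLocalRing.ResidueField R))
      (IsLocalRing.maximalIdeal R)
      (h ▸ (IsLocalRing.jacobson_eq_maximalIdeal ⊥ bot_ne_top).ge)
    exact isNoetherianRing_of_ringEquiv (StrictHens R)
      (IsStrictHenselization.nonempty_strictHens_algEquiv (R := R) (S := S)).some.toRingEquiv
  · have := IsStrictHenselization.faithfullyFlat (R := R) (S := S)
    exact isNoetherianRing_of_faithfullyFlat R S

theorem IsPairHenselization.isNoetherianRing {A : Type u} [CommRing A] [IsNoetherianRing A]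
    {I : Ideal A} {B : Type u} [CommRing B] [Algebra A B]
    (hB : Hens2.IsPairHenselization A I B) : IsNoetherianRing B := by
  have hH := PairHull.isPairHenselization A I
  have : IsNoetherianRing (Hull A (A ⧸ I) ⧸ I.map (algebraMap A (Hull A (A ⧸ I)))) :=
    isNoetherianRing_of_ringEquiv (A ⧸ I)
      (RingEquiv.ofBijective _ (IsPairHenselization.quotientMap_bijective hH))
  have := Hull.isNoetherianRing (C := A ⧸ I) I hH.1.jac
  exact isNoetherianRing_of_ringEquiv (Hull A (A ⧸ I))
    (IsPairHenselization.nonempty_hull_algEquiv hB).some.toRingEquiv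

end GrothLib.Hensel
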