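import Groth.Agent.Lib.Hensel.MultivarRoot
import Groth.Agent.Lib.Hensel.Properties
import Mathlib.RingTheory.Etale.QuasiFinite
import Mathlib.RingTheory.Jacobson.Ring

/-!
# Henselian local rings

Lifting from the residue field, splitting off quasi-finite points, products of local rings.
-/

namespace GrothLib.Hensel

open IsLocalRing Polynomial
open scoped TensorProduct

universe u v w

theorem henselianLocalRing_of_henselianRing {R : Type u} [CommRing R] [IsLocalRing R]
    (h : HenselianRing R (maximalIdeal R)) : HenselianLocalRing R where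
  is_henselian f hf a₀ h₁ h₂ := h.is_henselian f hf a₀ h₁ (h₂.map _)

theorem henselianLocalRing_iff {R : Type u} [CommRing R] [IsLocalRing R] :
    HenselianLocalRing R ↔ HenselianRing R (maximalIdeal R) :=
  ⟨fun _ ↦ inferInstance, henselianLocalRing_of_henselianRing⟩

/-- A point in the residue field of an étale algebra lifts uniquely to a henselian local ring. -/
theorem existsUnique_lift_residue {R : Type u} [CommRing R] {S : Type v} [CommRing S]
    [HenselianLocalRing S] [Algebra R S] {A : Type w} [CommRing A] [Algebra R A]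
    [Algebra.Etale R A] (σ : A →+* ResidueField S)
    (hσ : σ.comp (algebraMap R A) = (residue S).comp (algebraMap R S)) :
    ∃! f : A →ₐ[R] S, ∀ a, residue S (f a) = σ a := by
  let σ' : A →ₐ[R] S ⧸ maximalIdeal S := { σ with commutes' := fun r ↦ RingHom.congr_fun hσ r }
  obtain ⟨f, hf, huniq⟩ := existsUnique_algHom_lift σ'
  exact ⟨f, fun a ↦ AlgHom.congr_fun hf a, fun g hg ↦ huniq g (AlgHom.ext hg)⟩

section Finite

variable {R : Type u} [CommRing R] [IsLocalRing R] {S : Type v} [CommRing S] [Algebra R S]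

theorem isMaximal_iff_liesOver [Algebra.IsIntegral R S] (q : Ideal S) [q.IsPrime] :
    q.IsMaximal ↔ q.LiesOver (maximalIdeal R) := by
  constructor
  · intro h
    exact ⟨(eq_maximalIdeal (Ideal.isMaximal_comap_of_isIntegral_of_isMaximal (R := R) q)).symm⟩
  · intro h
    refine Ideal.isMaximal_of_isIntegral_of_isMaximal_comap (R := R) q ?_
    show (q.under R).IsMaximal
    rw [← h.over]
    infer_instance

theorem mem_jacobson_of_forall_liesOver [Algebra.IsIntegral R S] {x : S}
    (h : ∀ q : Ideal S, q.IsPrime → q.LiesOver (maximalIdeal R) → x ∈ q) :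
    x ∈ Ideal.jacobson (⊥ : Ideal S) := by
  refine Ideal.mem_sInf.mpr fun {M} hM ↦ ?_
  have := hM.2.isPrime
  exact h M this ((isMaximal_iff_liesOver M).mp hM.2)

end Finite

section Split

variable {R : Type u} [CommRing R] [HenselianLocalRing R] {S : Type v} [CommRing S] [Algebra R S]

/-- A quasi-finite point over the closed point is split off by an idempotent. -/
theorem exists_idem_of_quasiFiniteAt [Algebra.FiniteType R S] (q : Ideal S) [q.IsPrime]
    [q.LiesOver (maximalIdeal R)] [Algebra.QuasiFiniteAt R q] :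
    ∃ e : S, IsIdempotentElem e ∧ e ∉ q ∧ Module.Finite R (S ⧸ Ideal.span {1 - e}) ∧
      ∀ q' : Ideal S, q'.IsPrime → q'.LiesOver (maximalIdeal R) → e ∉ q' → q' = q := by
  obtain ⟨R', _, _, _, P, _, _, e, he, P', _, _, hP'q, heP', hbij, hfin, huniq⟩ :=
    Algebra.exists_etale_isIdempotentElem_forall_liesOver_eq (maximalIdeal R) q
  set φ := Ideal.ResidueField.mapₐ (maximalIdeal R) P (Algebra.ofId _ _) (P.over_def _) with hφ
  let ψ : P.ResidueField →ₐ[R] R ⧸ maximalIdeal R :=
    (AlgEquiv.ofBijective (IsScalarTower.toAlgHom R (R ⧸ maximalIdeal R)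
        (maximalIdeal R).ResidueField)
      (Ideal.bijective_algebraMap_quotient_residueField _)).symm.toAlgHom.comp
      (AlgEquiv.ofBijective φ hbij).symm.toAlgHom
  let σ : R' →ₐ[R] R ⧸ maximalIdeal R := ψ.comp (IsScalarTower.toAlgHom R R' P.ResidueField)
  obtain ⟨τ, hτ⟩ := exists_algHom_lift (R := R) (A := R) (I := maximalIdeal R) σ
  have hτP : ∀ x, τ x ∈ maximalIdeal R ↔ x ∈ P := by
    intro x
    have h1 : Ideal.Quotient.mk (maximalIdeal R) (τ x) = ψ (algebraMap R' P.ResidueField x) :=
      AlgHom.congr_fun hτ x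
    rw [← Ideal.Quotient.eq_zero_iff_mem, h1, map_eq_zero_iff ψ ψ.toRingHom.injective,
      Ideal.algebraMap_residueField_eq_zero]
  let Φ : R' ⊗[R] S →ₐ[R] S :=
    Algebra.TensorProduct.lift ((Algebra.ofId R S).comp τ) (.id R S) fun _ _ ↦ .all _ _
  have hΦinc : Φ.toRingHom.comp (Algebra.TensorProduct.includeRight : S →ₐ[R] R' ⊗[R] S).toRingHom
      = RingHom.id S := by
    ext s; simp [Φ]
  have hover : ∀ q' : Ideal S, q'.IsPrime → q'.LiesOver (maximalIdeal R) →
      (q'.comap Φ.toRingHom).LiesOver P := by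
    intro q' _ hq'
    constructor
    ext x
    rw [Ideal.under_def, Ideal.mem_comap, Ideal.mem_comap]
    have : Φ.toRingHom (algebraMap R' (R' ⊗[R] S) x) = algebraMap R S (τ x) := by simp [Φ]
    rw [this, ← Ideal.mem_comap (f := algebraMap R S), ← Ideal.under_def, ← hq'.over, hτP]
  have hcomap : ∀ q' : Ideal S, (q'.comap Φ.toRingHom).comap
      (Algebra.TensorProduct.includeRight : S →ₐ[R] R' ⊗[R] S).toRingHom = q' := by
    intro q'; rw [Ideal.comap_comap, hΦinc, Ideal.comap_id]
  refine ⟨Φ e, he.map Φ, fun hmem ↦ heP' ?_, ?_, fun q' hq' hover' hne ↦ ?_⟩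
  · have : (q.comap Φ.toRingHom).LiesOver P := hover q ‹_› ‹_›
    rw [← Ideal.eq_of_comap_eq_comap_of_bijective_residueFieldMap hbij (q.comap Φ.toRingHom) P'
      ((hcomap q).trans hP'q.symm)]
    exact hmem
  · obtain ⟨n, x, hx⟩ := Module.Finite.exists_fin (R := R') (M := Localization.Away e)
    choose y hy using fun i ↦
      IsLocalization.Away.algebraMap_surjective_of_isIdempotentElem
        (S := Localization.Away e) e he (x i)
    classical
    refine ⟨⟨Finset.univ.image fun i ↦ Ideal.Quotient.mk (Ideal.span {1 - Φ e}) (Φ (y i)),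
      eq_top_iff.mpr ?_⟩⟩
    rintro z -
    obtain ⟨s, rfl⟩ := Ideal.Quotient.mk_surjective z
    obtain ⟨c, hc⟩ := Submodule.mem_span_range_iff_exists_fun R' |>.mp
      (show algebraMap (R' ⊗[R] S) (Localization.Away e) (1 ⊗ₜ s) ∈
        Submodule.span R' (Set.range x) by rw [hx]; trivial)
    have h0 : algebraMap (R' ⊗[R] S) (Localization.Away e)
        ((∑ i, c i • y i) - 1 ⊗ₜ s) = 0 := by
      rw [map_sub, ← hc, map_sum, sub_eq_zero]
      refine Finset.sum_congr rfl fun i _ ↦ ?_
      rw [← hy, Algebra.algebraMap_eq_smul_one, Algebra.algebraMap_eq_smul_one, smul_assoc]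
    obtain ⟨⟨_, k, rfl⟩, hk⟩ :=
      (IsLocalization.map_eq_zero_iff (.powers e) (Localization.Away e) _).mp h0
    have hk' : e * ((∑ i, c i • y i) - 1 ⊗ₜ s) = 0 := by
      rcases Nat.eq_zero_or_pos k with h | h
      · subst h
        simp only [pow_zero, one_mul] at hk
        rw [hk, mul_zero]
      · obtain ⟨k, rfl⟩ := Nat.exists_eq_add_of_le' h
        simp only [he.pow_succ_eq k] at hk
        exact hk
    have hπ : Ideal.Quotient.mk (Ideal.span {1 - Φ e}) s =
        ∑ i, τ (c i) • Ideal.Quotient.mk (Ideal.span {1 - Φ e}) (Φ (y i)) := by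
      have h1 := congrArg (Ideal.Quotient.mk (Ideal.span {1 - Φ e}) ∘ Φ) hk'
      have he1 : Ideal.Quotient.mk (Ideal.span {1 - Φ e}) (Φ e) = 1 := by
        rw [← map_one (Ideal.Quotient.mk (Ideal.span {1 - Φ e})), Ideal.Quotient.eq,
          Ideal.mem_span_singleton]
        exact ⟨-1, by ring⟩
      simp only [Function.comp_apply, map_mul, he1, one_mul, map_sub, map_sum, map_zero,
        sub_eq_zero] at h1
      rw [show Φ (1 ⊗ₜ s) = s by simp [Φ]] at h1
      rw [← h1]
      refine Finset.sum_congr rfl fun i _ ↦ ?_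
      rw [Algebra.smul_def, Algebra.smul_def, map_mul, Algebra.TensorProduct.algebraMap_apply,
        map_mul, show Φ ((algebraMap R' R' (c i)) ⊗ₜ (1 : S)) = algebraMap R S (τ (c i)) by
          simp [Φ]]
      rfl
    rw [hπ]
    exact Submodule.sum_mem _ fun i _ ↦
      Submodule.smul_mem _ _ (Submodule.subset_span (by simp))
  · have := hover q' hq' hover'
    have := huniq (q'.comap Φ.toRingHom) (Ideal.IsPrime.comap Φ.toRingHom) this hne
    rw [← hcomap q', this, hP'q]

/-- The idempotents at finitely many quasi-finite points are orthogonal. -/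
theorem exists_orthogonalIdempotents [Algebra.FiniteType R S] {ι : Type*} (q : ι → Ideal S)
    (hinj : Function.Injective q) [∀ i, (q i).IsPrime] [∀ i, (q i).LiesOver (maximalIdeal R)]
    [∀ i, Algebra.QuasiFiniteAt R (q i)] :
    ∃ e : ι → S, OrthogonalIdempotents e ∧ (∀ i, e i ∉ q i) ∧
      (∀ i, Module.Finite R (S ⧸ Ideal.span {1 - e i})) ∧
      ∀ i (q' : Ideal S), q'.IsPrime → q'.LiesOver (maximalIdeal R) → e i ∉ q' → q' = q i := by
  choose e he heq hfin huniq using fun i ↦ exists_idem_of_quasiFiniteAt (R := R) (q i)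
  refine ⟨e, ⟨he, fun i j hij ↦ ?_⟩, heq, hfin, huniq⟩
  have := hfin i
  set J := Ideal.span {1 - e i} with hJ
  have h0 : Ideal.Quotient.mk J (e j) = 0 := by
    refine eq_zero_of_isIdempotentElem_of_mem_jacobson ((he j).map _) ?_
    refine mem_jacobson_of_forall_liesOver (R := R) fun Q hQ hQo ↦ ?_
    rw [← Ideal.mem_comap]
    by_contra hne
    have hover : (Q.comap (Ideal.Quotient.mk J)).LiesOver (maximalIdeal R) := by
      constructor
      rw [Ideal.under_def, Ideal.comap_comap, ← Ideal.Quotient.algebraMap_eq,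
        ← IsScalarTower.algebraMap_eq, ← Ideal.under_def]
      exact hQo.over
    have hei : e i ∉ Q.comap (Ideal.Quotient.mk J) := by
      rw [Ideal.mem_comap]
      have h1 : Ideal.Quotient.mk J (e i) = 1 := by
        rw [← map_one (Ideal.Quotient.mk J), Ideal.Quotient.eq, hJ, Ideal.mem_span_singleton]
        exact ⟨-1, by ring⟩
      rw [h1]
      exact Q.one_notMem
    exact hij (hinj ((huniq i _ (hQ.comap _) hover hei).symm.trans
      (huniq j _ (hQ.comap _) hover hne)))
  rw [Ideal.Quotient.eq_zero_iff_mem, hJ, Ideal.mem_span_singleton'] at h0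
  obtain ⟨a, ha⟩ := h0
  show e i * e j = 0
  rw [← ha, mul_left_comm, mul_sub, mul_one, (he i).eq, sub_self, mul_zero]

/-- A finite algebra over a henselian local ring is a finite product of local rings. -/
theorem exists_completeOrthogonalIdempotents_isLocalRing [Module.Finite R S] :
    ∃ (_ : Fintype (MaximalSpectrum S)) (e : MaximalSpectrum S → S),
      CompleteOrthogonalIdempotents e ∧ (∀ i, e i ∉ i.asIdeal) ∧
      (∀ i j : MaximalSpectrum S, e i ∉ j.asIdeal → j = i) ∧
      ∀ i, IsLocalRing (S ⧸ Ideal.span {1 - e i}) := by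
  have hlies : ∀ i : MaximalSpectrum S, i.asIdeal.LiesOver (maximalIdeal R) := fun i ↦
    (isMaximal_iff_liesOver i.asIdeal).mp i.isMaximal
  have : Finite (MaximalSpectrum S) := by
    have hfin := Algebra.QuasiFinite.finite_primesOver (R := R) (S := S) (maximalIdeal R)
    have := hfin.to_subtype
    exact Finite.of_injective (fun i : MaximalSpectrum S ↦
      (⟨i.asIdeal, i.isMaximal.isPrime, hlies i⟩ : (maximalIdeal R).primesOver S))
      (fun i j h ↦ MaximalSpectrum.ext (congrArg Subtype.val h))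
  let _ : Fintype (MaximalSpectrum S) := Fintype.ofFinite _
  obtain ⟨e, he, heq, -, huniq⟩ := exists_orthogonalIdempotents (R := R)
    (fun i : MaximalSpectrum S ↦ i.asIdeal) (fun _ _ h ↦ MaximalSpectrum.ext h)
  have huniq' : ∀ i j : MaximalSpectrum S, e i ∉ j.asIdeal → j = i := fun i j h ↦
    MaximalSpectrum.ext (huniq i _ j.isMaximal.isPrime (hlies j) h)
  have hsum : ∑ i, e i = 1 := by
    have hidem : IsIdempotentElem (∑ i, e i) := he.isIdempotentElem_sum
    refine (IsIdempotentElem.iff_eq_one_of_isUnit ?_).mp hidem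
    by_contra hu
    obtain ⟨M, hM, hmem⟩ := exists_max_ideal_of_mem_nonunits hu
    have hmul := he.mul_sum_of_mem (Finset.mem_univ (⟨M, hM⟩ : MaximalSpectrum S))
    exact heq ⟨M, hM⟩ (hmul ▸ M.mul_mem_left _ hmem)
  refine ⟨‹_›, e, ⟨he, hsum⟩, heq, huniq', fun i ↦ ?_⟩
  set J := Ideal.span {1 - e i} with hJ
  have hnot : ∀ M : Ideal S, M.IsMaximal → J ≤ M → M = i.asIdeal := by
    intro M hM hle
    refine congrArg MaximalSpectrum.asIdeal (huniq' i ⟨M, hM⟩ fun hmem ↦ hM.ne_top ?_)
    rw [Ideal.eq_top_iff_one, ← sub_add_cancel 1 (e i)]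
    exact M.add_mem (hle (Ideal.subset_span rfl)) hmem
  have hJi : J ≤ i.asIdeal := by
    rw [hJ, Ideal.span_le, Set.singleton_subset_iff]
    refine (i.isMaximal.isPrime.mem_or_mem (x := e i) (y := 1 - e i) ?_).resolve_left (heq i)
    rw [(he.idem i).mul_one_sub_self]; exact Ideal.zero_mem _
  refine IsLocalRing.of_unique_max_ideal ⟨i.asIdeal.map (Ideal.Quotient.mk J), ?_, fun M hM ↦ ?_⟩
  · refine (Ideal.map_eq_top_or_isMaximal_of_surjective _ Ideal.Quotient.mk_surjective
      i.isMaximal).resolve_left fun h ↦ i.isMaximal.ne_top ?_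
    have := congrArg (Ideal.comap (Ideal.Quotient.mk J)) h
    rwa [Ideal.comap_map_of_surjective' _ Ideal.Quotient.mk_surjective, Ideal.mk_ker,
      Ideal.comap_top, sup_eq_left.mpr hJi] at this
  · rw [← hnot (M.comap (Ideal.Quotient.mk J))
      (Ideal.comap_isMaximal_of_surjective _ Ideal.Quotient.mk_surjective)
      (fun x hx ↦ by
        rw [Ideal.mem_comap, Ideal.Quotient.eq_zero_iff_mem.mpr hx]; exact M.zero_mem),
      Ideal.map_comap_of_surjective _ Ideal.Quotient.mk_surjective]

end Split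

/-- In a finite product of local rings idempotents lift modulo any ideal. -/
theorem exists_idem_lift_of_pi_local {B : Type v} [CommRing B] (IB : Ideal B) {b : B}
    (hb : b * b - b ∈ IB)
    (h : ∃ (ι : Type v) (_ : Fintype ι) (A : ι → Type v) (_ : ∀ i, CommRing (A i)),
        (∀ i, IsLocalRing (A i)) ∧ Nonempty (B ≃+* (∀ i, A i))) :
    ∃ e : B, IsIdempotentElem e ∧ e - b ∈ IB := by
  obtain ⟨ι, _, A, _, hA, ⟨ε⟩⟩ := h
  classical
  let e : B := ε.symm fun i ↦ if IsUnit (ε b i) then 1 else 0
  have he : IsIdempotentElem e := by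
    refine IsIdempotentElem.map ?_ ε.symm
    funext i
    by_cases hu : IsUnit (ε b i) <;> simp [hu]
  refine ⟨e, he, ?_⟩
  -- componentwise
  set J : Ideal (∀ i, A i) := IB.map (ε : B →+* ∀ i, A i)
  have hJ : (fun i ↦ ε b i * ε b i - ε b i) ∈ J := by
    have h := Ideal.mem_map_of_mem (ε : B →+* ∀ i, A i) hb
    rw [map_sub, map_mul] at h
    exact h
  suffices hmem : ε e - ε b ∈ J by
    rw [← map_sub] at hmem
    have := Ideal.mem_map_of_mem (ε.symm : (∀ i, A i) →+* B) hmem
    simp only [J, Ideal.map_map, RingEquiv.symm_comp, Ideal.map_id, RingHom.coe_coe,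
      RingEquiv.symm_apply_apply] at this
    exact this
  have key : ∀ i, ∃ u : A i, ε e i - ε b i = u * (ε b i * ε b i - ε b i) := by
    intro i
    have : IsLocalRing (A i) := hA i
    simp only [e, RingEquiv.apply_symm_apply]
    by_cases hu : IsUnit (ε b i)
    · simp only [hu, if_true]
      obtain ⟨v, hv⟩ := hu
      refine ⟨-↑v⁻¹, ?_⟩
      rw [← hv, mul_sub, neg_mul, neg_mul, ← mul_assoc, Units.inv_mul, one_mul]
      ring
    · simp only [hu, if_false]
      obtain ⟨v, hv⟩ := (IsLocalRing.isUnit_or_isUnit_one_sub_self (ε b i)).resolve_left hu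
      refine ⟨↑v⁻¹, ?_⟩
      have : ε b i * ε b i - ε b i = -((1 - ε b i) * ε b i) := by ring
      rw [this, ← hv, mul_neg, ← mul_assoc, Units.inv_mul]
      ring
  choose u hu using key
  rw [show ε e - ε b = u * fun i ↦ ε b i * ε b i - ε b i from funext hu]
  exact J.mul_mem_left _ hJ

/-- If finite algebras over a local ring are products of local rings then it is henselian. -/
theorem henselianLocalRing_of_pi_local (R : Type u) [CommRing R] [IsLocalRing R]
    (h : ∀ (S : Type u) [CommRing S] [Algebra R S], Module.Finite R S →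
      ∃ (ι : Type u) (_ : Fintype ι) (A : ι → Type u) (_ : ∀ i, CommRing (A i)),
        (∀ i, IsLocalRing (A i)) ∧ Nonempty (S ≃+* (∀ i, A i))) :
    HenselianLocalRing R := by
  refine henselianLocalRing_of_henselianRing (henselianRing_of_idempotents_bijOn ?_)
  intro B _ _ hB
  set IB := (maximalIdeal R).map (algebraMap R B)
  have hjac : IB ≤ Ideal.jacobson ⊥ :=
    map_le_jacobson_of_isIntegral (IsLocalRing.maximalIdeal_le_jacobson ⊥)
  refine ⟨fun e he ↦ he.map _,
    fun e he f hf h ↦ eq_of_isIdempotentElem_of_sub_mem hjac he hf (Ideal.Quotient.eq.mp h),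
    fun e' he' ↦ ?_⟩
  obtain ⟨b, rfl⟩ := Ideal.Quotient.mk_surjective e'
  have hb : b * b - b ∈ IB := Ideal.Quotient.eq.mp (by rw [map_mul]; exact he')
  obtain ⟨e, he, heb⟩ := exists_idem_lift_of_pi_local IB hb (h B hB)
  exact ⟨e, he, Ideal.Quotient.eq.mpr heb⟩

end GrothLib.Hensel
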