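import Groth.Agent.Lib.Hensel.Local
import Mathlib.RingTheory.Spectrum.Prime.Noetherian
import Mathlib.RingTheory.LocalRing.Module
import Mathlib.RingTheory.Flat.Localization

/-!
# Criteria for henselian local rings, and splitting of finite type algebras
-/

namespace GrothLib.Hensel

open IsLocalRing Polynomial
open scoped TensorProduct

universe u v

section Criteria

variable {R : Type u} [CommRing R] [IsLocalRing R]

theorem henselianLocalRing_of_factor_lift
    (h : ∀ f : R[X], f.Monic → ∀ g₀ h₀ : (ResidueField R)[X], IsCoprime g₀ h₀ →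
      f.map (residue R) = g₀ * h₀ →
      ∃ g h : R[X], f = g * h ∧ g.map (residue R) = g₀ ∧ h.map (residue R) = h₀) :
    HenselianLocalRing R := by
  refine henselianLocalRing_of_henselianRing
    ⟨IsLocalRing.maximalIdeal_le_jacobson ⊥, fun f hf a₀ h₁ h₂ ↦
      exists_root_of_idem_lift (IsLocalRing.maximalIdeal_le_jacobson ⊥) f hf a₀ h₁ h₂
        fun d _ hd hP' ↦ ?_⟩
  let m := maximalIdeal R
  let B := AdjoinRoot f
  let IB := m.map (algebraMap R B)
  obtain ⟨P, hdP, hP⟩ := hP'
  have := hf.finite_adjoinRoot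
  obtain ⟨q, hq⟩ := X_sub_C_dvd_sub_C_eval (p := f) (a := a₀)
  have hq' : f.map (residue R) = (X - C (residue R a₀)) * q.map (residue R) := by
    have := congrArg (Polynomial.map (residue R)) hq
    simpa [residue_eq_zero_iff _ |>.mpr h₁] using this
  have hq0 : residue R (q.eval a₀) ≠ 0 := by
    have : q.eval a₀ = f.derivative.eval a₀ := by
      simpa using (congrArg (fun p ↦ p.derivative.eval a₀) hq).symm
    rw [this]
    exact (h₂ : IsUnit (residue R (f.derivative.eval a₀))).ne_zero
  have hcop : IsCoprime (X - C (residue R a₀)) (q.map (residue R)) := by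
    refine (irreducible_X_sub_C _).coprime_iff_not_dvd.mpr ?_
    rw [dvd_iff_isRoot, IsRoot, eval_map, eval₂_hom]
    exact hq0
  obtain ⟨g, k, hfgk, hg, hk⟩ := h f hf _ _ hcop hq'
  obtain ⟨a, b, hab⟩ := hcop
  obtain ⟨a', ha'⟩ := Polynomial.map_surjective _ (residue_surjective (R := R)) a
  obtain ⟨b', hb'⟩ := Polynomial.map_surjective _ (residue_surjective (R := R)) b
  set x : B := AdjoinRoot.root f
  have hmod : ∀ p₁ p₂ : R[X], p₁.map (residue R) = p₂.map (residue R) →
      aeval x p₁ - aeval x p₂ ∈ IB := by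
    intro p₁ p₂ hp
    rw [← map_sub, aeval_eq_sum_range]
    refine Submodule.sum_mem IB fun i _ ↦ ?_
    rw [Algebra.smul_def]
    refine Ideal.mul_mem_right _ _ (Ideal.mem_map_of_mem _ ?_)
    rw [coeff_sub, ← residue_eq_zero_iff, map_sub, ← coeff_map, ← coeff_map, hp, sub_self]
  have hjac : IB ≤ Ideal.jacobson ⊥ :=
    map_le_jacobson_of_isIntegral (IsLocalRing.maximalIdeal_le_jacobson ⊥)
  set s : B := aeval x a' * aeval x g + aeval x b' * aeval x k
  obtain ⟨w, hw⟩ : IsUnit s := isUnit_of_sub_one_mem hjac (by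
    have := hmod (a' * g + b' * k) 1 (by simp [ha', hb', hg, hk, hab])
    simpa [s] using this)
  have hgk : aeval x g * aeval x k = 0 := by
    rw [← map_mul, ← hfgk, AdjoinRoot.aeval_eq, AdjoinRoot.mk_self]
  set e : B := ↑w⁻¹ * (aeval x b' * aeval x k)
  have he : IsIdempotentElem e := by
    show _ * _ = _
    calc e * e = (↑w⁻¹ : B) * ↑w⁻¹ * (aeval x b' * aeval x k * s -
          aeval x a' * aeval x b' * (aeval x g * aeval x k)) := by simp only [e, s]; ring
      _ = (↑w⁻¹ : B) * (↑w⁻¹ * ↑w) * (aeval x b' * aeval x k) := by rw [hgk, hw]; ring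
      _ = e := by rw [Units.inv_mul, mul_one]
  refine ⟨e, he, ?_⟩
  rw [← Ideal.Quotient.eq]
  let φ := Ideal.Quotient.mk IB
  have hφx : ∀ r : R[X], φ d * φ (aeval x r) = φ (algebraMap R B (r.eval a₀)) * φ d := by
    intro r; rw [← map_mul, ← map_mul]; exact Ideal.Quotient.eq.mpr (hd r)
  have hwone : φ (↑w⁻¹ : B) = 1 := by
    have h1 : φ s = 1 := by
      rw [← map_one φ]
      refine Ideal.Quotient.eq.mpr ?_
      have := hmod (a' * g + b' * k) 1 (by simp [ha', hb', hg, hk, hab])
      simpa [s] using this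
    have := congrArg φ w.inv_mul
    rwa [map_mul, map_one, hw, h1, mul_one] at this
  have hex : ∀ r : R[X], φ e * φ (aeval x r) = φ (algebraMap R B (r.eval a₀)) * φ e := by
    intro r
    obtain ⟨t, ht⟩ := X_sub_C_dvd_sub_C_eval (p := r) (a := a₀)
    have h2 : φ (x - algebraMap R B a₀) = φ (aeval x g) := by
      have := hmod (X - C a₀) g (by simp [hg])
      rw [map_sub, aeval_X, aeval_C] at this
      exact Ideal.Quotient.eq.mpr this
    have h3 : φ e * φ (x - algebraMap R B a₀) = 0 := by
      rw [h2, ← map_mul, show e * aeval x g =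
        ↑w⁻¹ * aeval x b' * (aeval x g * aeval x k) by simp only [e]; ring, hgk, mul_zero, map_zero]
    have h4 : φ e * φ (aeval x r - algebraMap R B (r.eval a₀)) = 0 := by
      have : aeval x r - algebraMap R B (r.eval a₀) = (x - algebraMap R B a₀) * aeval x t := by
        simpa using congrArg (aeval x) ht
      rw [this, show φ ((x - algebraMap R B a₀) * aeval x t) =
        φ (x - algebraMap R B a₀) * φ (aeval x t) from map_mul φ _ _, ← mul_assoc, h3, zero_mul]
    rw [map_sub, mul_sub, sub_eq_zero] at h4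
    rw [h4, mul_comm]
  have hone : φ (algebraMap R B ((b' * k).eval a₀)) = 1 := by
    rw [← map_one φ]
    refine Ideal.Quotient.eq.mpr ?_
    rw [← map_one (algebraMap R B), ← map_sub]
    refine Ideal.mem_map_of_mem _ ?_
    rw [← residue_eq_zero_iff, map_sub, sub_eq_zero, map_one, ← eval₂_hom, ← eval_map,
      Polynomial.map_mul, hb', hk]
    have := congrArg (eval (residue R a₀)) hab
    simpa using this
  have hφe : φ e = φ (aeval x (b' * k)) := by simp [e, hwone]
  have hed : φ e * φ d = φ e := by rw [hdP, hex, hP, map_one, map_one, one_mul]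
  have hde : φ d * φ e = φ d := by rw [hφe, hφx, hone, one_mul]
  show φ e = φ d
  rw [← hde, mul_comm, hed]

/-- The standard étale algebra attached to a simple root in the residue field, whose only point
over the closed point is that root. -/
noncomputable def pointPair (f : R[X]) (hf : f.Monic) (a₀ : R) : StandardEtalePair R where
  f := f
  monic_f := hf
  g := f.derivative * ((f - C (f.eval a₀)) /ₘ (X - C a₀))
  cond := ⟨(f - C (f.eval a₀)) /ₘ (X - C a₀), 0, 1, by simp⟩

theorem residue_aeval (r : R[X]) (a : R) :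
    aeval (residue R a) r = residue R (r.eval a) := by
  rw [← ResidueField.algebraMap_eq, aeval_algebraMap_apply_eq_algebraMap_eval]

theorem pointPair_quotient (f : R[X]) (a₀ : R) :
    f - C (f.eval a₀) = (X - C a₀) * ((f - C (f.eval a₀)) /ₘ (X - C a₀)) :=
  ((mul_divByMonic_eq_iff_isRoot).mpr (by simp [IsRoot])).symm

theorem pointPair_hasMap (f : R[X]) (hf : f.Monic) (a₀ : R) (h₁ : f.eval a₀ ∈ maximalIdeal R)
    (h₂ : IsUnit (f.derivative.eval a₀)) :
    (pointPair f hf a₀).HasMap (residue R a₀) := by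
  refine ⟨?_, ?_⟩
  · rw [residue_aeval]; exact (residue_eq_zero_iff _).mpr h₁
  · have hq := (congrArg (fun r ↦ r.derivative.eval a₀) (pointPair_quotient f a₀))
    simp only [derivative_sub, derivative_C, sub_zero, derivative_mul, derivative_X, one_mul,
      eval_add, eval_mul, eval_sub, eval_X, eval_C, sub_self, zero_mul, add_zero] at hq
    rw [residue_aeval]
    refine IsUnit.map _ ?_
    show IsUnit (eval a₀ (f.derivative * _))
    rw [eval_mul, ← hq]
    exact h₂.mul h₂

/-- Any point with values in `R` of `pointPair f a₀` is a root of `f` reducing to `a₀`. -/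
theorem pointPair_root (f : R[X]) (hf : f.Monic) (a₀ : R) (h₁ : f.eval a₀ ∈ maximalIdeal R)
    {a : R} (ha : (pointPair f hf a₀).HasMap a) : f.IsRoot a ∧ a - a₀ ∈ maximalIdeal R := by
  have hroot : f.eval a = 0 := by simpa [pointPair] using ha.1
  refine ⟨hroot, ?_⟩
  have hu : IsUnit (((f - C (f.eval a₀)) /ₘ (X - C a₀)).eval a) := by
    have := ha.2
    simp only [pointPair, coe_aeval_eq_eval, eval_mul] at this
    exact isUnit_of_mul_isUnit_right this
  have := congrArg (eval a) (pointPair_quotient f a₀)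
  simp only [eval_sub, hroot, eval_C, zero_sub, eval_mul, eval_X] at this
  exact ((maximalIdeal R).mul_unit_mem_iff_mem hu).mp (this ▸ (maximalIdeal R).neg_mem h₁)

theorem henselianLocalRing_of_retraction
    (h : ∀ (f : R[X]) (hf : f.Monic) (a₀ : R), f.eval a₀ ∈ maximalIdeal R →
      IsUnit (f.derivative.eval a₀) → Nonempty ((pointPair f hf a₀).Ring →ₐ[R] R)) :
    HenselianLocalRing R where
  is_henselian f hf a₀ h₁ h₂ := by
    obtain ⟨τ⟩ := h f hf a₀ h₁ h₂
    exact ⟨_, pointPair_root f hf a₀ h₁ (StandardEtalePair.hasMap_X.map τ)⟩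

/-- Modulo `m`, `pointPair f a₀` is a quotient of the residue field. -/
theorem pointPair_surjective_mod (f : R[X]) (hf : f.Monic) (a₀ : R)
    (h₁ : f.eval a₀ ∈ maximalIdeal R) :
    Function.Surjective (Algebra.ofId R ((pointPair f hf a₀).Ring ⧸
      (maximalIdeal R).map (algebraMap R (pointPair f hf a₀).Ring))) := by
  set P := pointPair f hf a₀
  set mP := (maximalIdeal R).map (algebraMap R P.Ring)
  let π : P.Ring →ₐ[R] P.Ring ⧸ mP := Ideal.Quotient.mkₐ R mP
  have hP := (StandardEtalePair.hasMap_X (P := P)).map π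
  have hx : π P.X = algebraMap R (P.Ring ⧸ mP) a₀ := by
    have hu : IsUnit (aeval (π P.X) ((f - C (f.eval a₀)) /ₘ (X - C a₀))) := by
      have := hP.2
      simp only [P, pointPair, map_mul] at this
      exact isUnit_of_mul_isUnit_right this
    have h0 : algebraMap R (P.Ring ⧸ mP) (f.eval a₀) = 0 := by
      rw [IsScalarTower.algebraMap_apply R P.Ring, Ideal.Quotient.algebraMap_eq,
        Ideal.Quotient.eq_zero_iff_mem]
      exact Ideal.mem_map_of_mem _ h₁
    have := congrArg (aeval (π P.X)) (pointPair_quotient f a₀)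
    rw [map_sub, map_mul, map_sub, aeval_X, aeval_C, aeval_C, h0, sub_zero,
      show aeval (π P.X) f = 0 from hP.1, eq_comm, hu.mul_left_eq_zero, sub_eq_zero] at this
    exact this
  intro y
  obtain ⟨z, rfl⟩ := Ideal.Quotient.mk_surjective y
  let S : Subalgebra R P.Ring := (Algebra.ofId R (P.Ring ⧸ mP)).range.comap π
  suffices z ∈ S by obtain ⟨r, hr⟩ := this; exact ⟨r, hr⟩
  have hXS : P.X ∈ S := ⟨a₀, hx.symm⟩
  have hg : ∀ r : R[X], π (aeval P.X r) = algebraMap R (P.Ring ⧸ mP) (r.eval a₀) := by
    intro r; rw [← aeval_algHom_apply, hx, aeval_algebraMap_apply_eq_algebraMap_eval]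
  obtain ⟨r, rfl⟩ := P.equivPolynomialQuotient.symm.surjective z
  obtain ⟨r, rfl⟩ := Ideal.Quotient.mk_surjective r
  induction r using Polynomial.induction_on' with
  | add p q hp hq => rw [map_add, map_add]; exact S.add_mem hp hq
  | monomial n r =>
    show Ideal.Quotient.mk _ (monomial n r) ∈ S
    rw [← C_mul_X_pow_eq_monomial, map_mul, map_pow]
    refine S.mul_mem ?_ (S.pow_mem ?_ n)
    · have hr : Ideal.Quotient.mk (Ideal.span {C P.f, X * C P.g - 1}) (C r) = aeval P.X r := by
        have : aeval (R := R) P.X = (Ideal.Quotient.mkₐ R _).comp Polynomial.CAlgHom := by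
          ext; simp [StandardEtalePair.X]; rfl
        rw [this]; rfl
      rw [hr]
      exact ⟨r.eval a₀, (hg r).symm⟩
    · rw [← P.inv_aeval_X_g]
      have hw : IsUnit (algebraMap R (P.Ring ⧸ mP) (P.g.eval a₀)) := by
        rw [← hg]; exact (StandardEtalePair.hasMap_X (P := P)).2.map π
      by_cases hu : IsUnit (P.g.eval a₀)
      · refine ⟨↑hu.unit⁻¹, ?_⟩
        refine hw.mul_left_cancel ?_
        show algebraMap R (P.Ring ⧸ mP) (P.g.eval a₀) * algebraMap R (P.Ring ⧸ mP) ↑hu.unit⁻¹ =
          algebraMap R (P.Ring ⧸ mP) (P.g.eval a₀) * π _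
        rw [← map_mul, IsUnit.mul_val_inv, map_one, ← hg, ← map_mul, IsUnit.mul_val_inv, map_one]
      · have : algebraMap R (P.Ring ⧸ mP) (P.g.eval a₀) = 0 := by
          rw [IsScalarTower.algebraMap_apply R P.Ring, Ideal.Quotient.algebraMap_eq,
            Ideal.Quotient.eq_zero_iff_mem]
          exact Ideal.mem_map_of_mem _ ((mem_maximalIdeal _).mpr hu)
        rw [this, isUnit_zero_iff] at hw
        exact ⟨0, eq_of_zero_eq_one hw _ _⟩

/-- A finite flat algebra which is `k` modulo `m` is `R`. -/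
theorem bijective_of_finite_flat {T : Type v} [CommRing T] [Algebra R T] [Module.Finite R T]
    [Module.Flat R T] [Nontrivial T]
    (h : ∀ t : T, ∃ r : R, t - algebraMap R T r ∈ (maximalIdeal R).map (algebraMap R T)) :
    Function.Bijective (algebraMap R T) := by
  have hsurj : Function.Surjective (Algebra.linearMap R T) := by
    refine LinearMap.surjective_of_surjective_comp_mkQ _ (maximalIdeal R)
      (IsLocalRing.maximalIdeal_le_jacobson ⊥) fun y ↦ ?_
    obtain ⟨t, rfl⟩ := Submodule.mkQ_surjective _ y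
    obtain ⟨r, hr⟩ := h t
    refine ⟨r, ((Submodule.Quotient.eq _).mpr ?_).symm⟩
    exact mem_map_iff_mem_smul_top.mp hr
  have : Module.Free R T := Module.free_of_flat_of_isLocalRing
  obtain ⟨⟨ι, b⟩⟩ := Module.Free.exists_basis (R := R) (M := T)
  refine ⟨(injective_iff_map_eq_zero _).mpr fun r hr ↦ ?_, hsurj⟩
  obtain ⟨i⟩ : Nonempty ι := b.index_nonempty
  have : r • b i = 0 := by rw [Algebra.smul_def, hr, zero_mul]
  simpa using congrArg (fun v ↦ b.repr v i) this

end Criteria

end GrothLib.Hensel
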