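import Groth.Agent.Lib.Hensel.SmoothLift
import Groth.Agent.Lib.Hensel.Local
import Groth.Agent.Lib.Hensel.LocalCriteria
import Mathlib.AlgebraicGeometry.Morphisms.Smooth
import Mathlib.AlgebraicGeometry.Morphisms.Etale
import Mathlib.RingTheory.Unramified.Field
import Mathlib.FieldTheory.IsSepClosed

/-!
# Sections of smooth morphisms over henselian local rings
-/

namespace GrothLib.Hensel

open AlgebraicGeometry CategoryTheory IsLocalRing

universe u

variable {A : Type u} [CommRing A]

theorem exists_section_extending [HenselianLocalRing A] {X : Scheme.{u}}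
    (f : X ⟶ Spec (CommRingCat.of A)) [Smooth f] (u₀ : Spec (CommRingCat.of (ResidueField A)) ⟶ X)
    (h₀ : u₀ ≫ f = Spec.map (CommRingCat.ofHom (residue A))) :
    ∃ u : Spec (CommRingCat.of A) ⟶ X, u ≫ f = 𝟙 _ ∧
      Spec.map (CommRingCat.ofHom (residue A)) ≫ u = u₀ := by
  obtain ⟨_, ⟨V, hV, rfl⟩, hxV, -⟩ := X.isBasis_affineOpens.exists_subset_of_mem_open
    (Set.mem_univ (u₀ (closedPoint (ResidueField A)))) isOpen_univ
  have hrange : Set.range u₀ ⊆ Set.range hV.fromSpec := by
    rintro _ ⟨y, rfl⟩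
    rw [hV.range_fromSpec, Subsingleton.elim y (closedPoint (ResidueField A))]
    exact hxV
  obtain ⟨φ, hφ⟩ := Spec.map_surjective (hV.fromSpec ≫ f)
  obtain ⟨ψ, hψ⟩ := Spec.map_surjective (IsOpenImmersion.lift hV.fromSpec u₀ hrange)
  have hψu : Spec.map ψ ≫ hV.fromSpec = u₀ := by rw [hψ, IsOpenImmersion.lift_fac]
  have hcomp : φ ≫ ψ = CommRingCat.ofHom (residue A) := by
    apply Spec.map_injective
    rw [Spec.map_comp, hφ, ← Category.assoc, hψu, h₀]
  have hsm : φ.hom.Smooth := (HasRingHomProperty.Spec_iff (P := @Smooth)).mp (by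
    rw [hφ]; infer_instance)
  algebraize [φ.hom]
  let σ : Γ(X, V) →ₐ[A] A ⧸ maximalIdeal A :=
    { ψ.hom with commutes' := fun a ↦ congr($hcomp a) }
  obtain ⟨τ, hτ⟩ := exists_algHom_lift_of_smooth (I := maximalIdeal A) σ
  refine ⟨Spec.map (CommRingCat.ofHom τ.toRingHom) ≫ hV.fromSpec, ?_, ?_⟩
  · rw [Category.assoc, ← hφ, ← Spec.map_comp, ← Spec.map_id]
    exact congrArg Spec.map (CommRingCat.hom_ext τ.comp_algebraMap)
  · rw [← Category.assoc, ← Spec.map_comp, ← hψu]
    congr 2
    ext b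
    exact AlgHom.congr_fun hτ b

theorem exists_point_of_etale [IsLocalRing A] [IsSepClosed (ResidueField A)] {B : Type u}
    [CommRing B] [Algebra A B] [Algebra.Etale A B] (q : Ideal B) [q.IsPrime]
    (hq : q.comap (algebraMap A B) = maximalIdeal A) :
    ∃ σ : B →ₐ[A] A ⧸ maximalIdeal A, RingHom.ker σ = q := by
  have hker : ∀ a ∈ maximalIdeal A, algebraMap A q.ResidueField a = 0 := fun a ha ↦ by
    rw [IsScalarTower.algebraMap_apply A B q.ResidueField, Ideal.algebraMap_residueField_eq_zero]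
    exact hq.ge ha
  let : Algebra (ResidueField A) q.ResidueField :=
    (Ideal.Quotient.lift (maximalIdeal A) (algebraMap A q.ResidueField) hker).toAlgebra
  have : IsScalarTower A (ResidueField A) q.ResidueField := .of_algebraMap_eq fun a ↦ rfl
  have : Algebra.FormallyUnramified B (Localization.AtPrime q) :=
    .of_isLocalization q.primeCompl
  have : Algebra.FormallyUnramified B q.ResidueField :=
    .comp B (Localization.AtPrime q) q.ResidueField
  have : Algebra.FormallyUnramified A q.ResidueField := .comp A B q.ResidueField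
  have : Algebra.FormallyUnramified (ResidueField A) q.ResidueField :=
    .of_restrictScalars A _ _
  have : Algebra.EssFiniteType A q.ResidueField := .comp A B q.ResidueField
  have : Algebra.EssFiniteType (ResidueField A) q.ResidueField := .of_comp A _ _
  have : Algebra.IsSeparable (ResidueField A) q.ResidueField :=
    Algebra.FormallyUnramified.isSeparable _ _
  let e : q.ResidueField ≃ₐ[A] ResidueField A :=
    (AlgEquiv.ofBijective (IsScalarTower.toAlgHom A (ResidueField A) q.ResidueField)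
      ⟨(algebraMap (ResidueField A) q.ResidueField).injective,
        IsSepClosed.algebraMap_surjective _ _⟩).symm
  refine ⟨e.toAlgHom.comp (IsScalarTower.toAlgHom A B q.ResidueField), ?_⟩
  ext b
  rw [RingHom.mem_ker]
  show e (algebraMap B q.ResidueField b) = 0 ↔ b ∈ q
  rw [map_eq_zero_iff e e.injective, Ideal.algebraMap_residueField_eq_zero]

theorem exists_section_through [HenselianLocalRing A] [IsSepClosed (ResidueField A)]
    {X : Scheme.{u}} (f : X ⟶ Spec (CommRingCat.of A)) [Etale f] (x : X)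
    (hx : f x = closedPoint A) :
    ∃ u : Spec (CommRingCat.of A) ⟶ X, u ≫ f = 𝟙 _ ∧ u (closedPoint A) = x := by
  obtain ⟨_, ⟨V, hV, rfl⟩, hxV, -⟩ :=
    X.isBasis_affineOpens.exists_subset_of_mem_open (Set.mem_univ x) isOpen_univ
  obtain ⟨φ, hφ⟩ := Spec.map_surjective (hV.fromSpec ≫ f)
  have het : φ.hom.Etale := (HasRingHomProperty.Spec_iff (P := @Etale)).mp (by
    rw [hφ]; infer_instance)
  algebraize [φ.hom]
  set q := hV.primeIdealOf ⟨x, hxV⟩
  have hq : q.asIdeal.comap (algebraMap A Γ(X, V)) = maximalIdeal A := by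
    have h : (hV.fromSpec ≫ f) q = closedPoint A := by
      rw [Scheme.Hom.comp_apply, hV.fromSpec_primeIdealOf ⟨x, hxV⟩, hx]
    rw [← hφ] at h
    exact congr($(h).asIdeal)
  obtain ⟨σ, hσ⟩ := exists_point_of_etale (A := A) q.asIdeal hq
  obtain ⟨τ, hτ, -⟩ := existsUnique_algHom_lift (I := maximalIdeal A) σ
  refine ⟨Spec.map (CommRingCat.ofHom τ.toRingHom) ≫ hV.fromSpec, ?_, ?_⟩
  · rw [Category.assoc, ← hφ, ← Spec.map_comp, ← Spec.map_id]
    exact congrArg Spec.map (CommRingCat.hom_ext τ.comp_algebraMap)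
  · rw [Scheme.Hom.comp_apply]
    refine Eq.trans ?_ (hV.fromSpec_primeIdealOf ⟨x, hxV⟩)
    congr 1
    refine PrimeSpectrum.ext (Eq.trans ?_ hσ)
    ext b
    show τ b ∈ maximalIdeal A ↔ σ b = 0
    rw [← AlgHom.congr_fun hτ b]
    exact Ideal.Quotient.eq_zero_iff_mem.symm

theorem isSepClosed_of_forall_etale_point [IsLocalRing A]
    (h : ∀ (B : Type u) [CommRing B] [Algebra A B] [Algebra.Etale A B] (q : Ideal B) [q.IsPrime],
      q.comap (algebraMap A B) = maximalIdeal A → Nonempty (B →ₐ[A] A)) :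
    IsSepClosed (ResidueField A) := by
  refine IsSepClosed.of_exists_root _ fun p hp hirr hsep ↦ ?_
  obtain ⟨f, hf, -, hfm⟩ := Polynomial.lifts_and_degree_eq_and_monic
    (Polynomial.mem_lifts _ |>.mpr (Polynomial.map_surjective _ residue_surjective p)) hp
  have := Fact.mk hirr
  let P : StandardEtalePair A :=
    { f := f, monic_f := hfm, g := f.derivative, cond := ⟨1, 0, 1, by simp⟩ }
  have hroot : P.HasMap (AdjoinRoot.root p) := by
    have key : ∀ r : Polynomial A, Polynomial.aeval (AdjoinRoot.root p) r =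
        Polynomial.aeval (AdjoinRoot.root p) (r.map (residue A)) := fun r ↦ by
      rw [← ResidueField.algebraMap_eq, Polynomial.aeval_map_algebraMap]
    refine ⟨?_, ?_⟩
    · rw [key, hf]; simp
    · rw [key, ← Polynomial.derivative_map, hf, isUnit_iff_ne_zero]
      exact hsep.aeval_derivative_ne_zero (by simp)
  let g := P.lift (AdjoinRoot.root p) hroot
  have hg : (RingHom.ker g).comap (algebraMap A P.Ring) = maximalIdeal A := by
    ext a
    rw [Ideal.mem_comap, RingHom.mem_ker, AlgHom.commutes,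
      IsScalarTower.algebraMap_apply A (ResidueField A) (AdjoinRoot p), map_eq_zero,
      ResidueField.algebraMap_eq, residue_eq_zero_iff]
  have : (RingHom.ker g).IsPrime := RingHom.ker_isPrime _
  obtain ⟨τ⟩ := h P.Ring (RingHom.ker g) hg
  refine ⟨residue A (τ P.X), ?_⟩
  have h0 : Polynomial.aeval (τ P.X) f = 0 := (StandardEtalePair.hasMap_X.map τ).1
  rw [← hf, Polynomial.eval_map, Polynomial.eval₂_hom]
  rw [Polynomial.coe_aeval_eq_eval] at h0
  rw [h0, map_zero]

theorem henselian_and_sepClosed_of_sections [IsLocalRing A]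
    (h : ∀ (X : Scheme.{u}) (f : X ⟶ Spec (CommRingCat.of A)), Etale f →
        ∀ x : X, f x = closedPoint A →
          ∃ u : Spec (CommRingCat.of A) ⟶ X, u ≫ f = 𝟙 _ ∧ u (closedPoint A) = x) :
    HenselianLocalRing A ∧ IsSepClosed (ResidueField A) := by
  have key : ∀ (B : Type u) [CommRing B] [Algebra A B] [Algebra.Etale A B] (q : Ideal B) [q.IsPrime],
      q.comap (algebraMap A B) = maximalIdeal A → Nonempty (B →ₐ[A] A) := by
    intro B _ _ _ q _ hq
    obtain ⟨u, hu, -⟩ := h (Spec (CommRingCat.of B)) (Spec.map (CommRingCat.ofHom (algebraMap A B)))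
      ((HasRingHomProperty.Spec_iff (P := @Etale)).mpr (RingHom.etale_algebraMap.mpr ‹_›))
      ⟨q, inferInstance⟩ (PrimeSpectrum.ext hq)
    obtain ⟨ψ, rfl⟩ := Spec.map_surjective u
    have hc : CommRingCat.ofHom (algebraMap A B) ≫ ψ = 𝟙 _ :=
      Spec.map_injective (by rw [Spec.map_comp, Spec.map_id, hu])
    exact ⟨{ ψ.hom with commutes' := fun a ↦ congr($hc a) }⟩
  refine ⟨henselianLocalRing_of_retraction fun f hf a₀ h₁ h₂ ↦ ?_,
    isSepClosed_of_forall_etale_point key⟩
  let g := (pointPair f hf a₀).lift (residue A a₀) (pointPair_hasMap f hf a₀ h₁ h₂)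
  have : (RingHom.ker g).IsPrime := RingHom.ker_isPrime _
  refine key _ (RingHom.ker g) ?_
  ext a
  rw [Ideal.mem_comap, RingHom.mem_ker, AlgHom.commutes, ResidueField.algebraMap_eq,
    residue_eq_zero_iff]

end GrothLib.Hensel
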