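import Groth.Agent.Lib.Hensel.Henselization
import Mathlib.RingTheory.Smooth.NoetherianDescent
import Mathlib.RingTheory.Unramified.Field
import Mathlib.RingTheory.TensorProduct.Pi
import Mathlib.RingTheory.Ideal.MinimalPrime.Noetherian

/-!
# Étale algebras over reduced rings are reduced; henselizations of reduced rings are reduced
-/

namespace GrothLib.Hensel

open scoped TensorProduct

universe u

theorem isReduced_of_etale_of_isNoetherianRing (A B : Type u) [CommRing A] [CommRing B]
    [Algebra A B] [IsNoetherianRing A] [IsReduced A] [Algebra.Etale A B] : IsReduced B := by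
  classical
  let ι := minimalPrimes A
  have : Finite ι := (minimalPrimes.finite_of_isNoetherianRing A).to_subtype
  have := Fintype.ofFinite ι
  have hp : ∀ p : ι, (p : Ideal A).IsPrime := fun p ↦ p.2.1.1
  let κ (p : ι) := FractionRing (A ⧸ (p : Ideal A))
  let j : A →ₗ[A] ∀ p, κ p := Algebra.linearMap A (∀ p, κ p)
  have hj : Function.Injective j := by
    rw [injective_iff_map_eq_zero]
    intro a ha
    have hmem : ∀ p : ι, a ∈ (p : Ideal A) := fun p ↦ by
      rw [← Ideal.Quotient.eq_zero_iff_mem]
      apply IsFractionRing.injective (A ⧸ (p : Ideal A)) (κ p)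
      rw [map_zero]
      exact congrFun ha p
    have : a ∈ nilradical A := by
      rw [nilradical, ← Ideal.sInf_minimalPrimes, Ideal.mem_sInf]
      exact fun {q} hq ↦ hmem ⟨q, hq⟩
    rwa [nilradical_eq_zero, Ideal.zero_eq_bot, Ideal.mem_bot] at this
  have hred : ∀ p : ι, IsReduced (B ⊗[A] κ p) := fun p ↦ by
    have : IsReduced (κ p ⊗[A] B) := Algebra.FormallyUnramified.isReduced_of_field (κ p) _
    exact isReduced_of_injective (Algebra.TensorProduct.comm A B (κ p)).toRingEquiv.toRingHom
      (Algebra.TensorProduct.comm A B (κ p)).injective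
  let φ : B →ₐ[A] B ⊗[A] (∀ p, κ p) := Algebra.TensorProduct.includeLeft
  have hφ : Function.Injective φ := by
    have h := Module.Flat.lTensor_preserves_injective_linearMap (M := B) j hj
    have h2 : (φ : B → B ⊗[A] (∀ p, κ p)) =
        j.lTensor B ∘ (TensorProduct.rid A B).symm := by
      funext b
      simp [φ, j, Algebra.linearMap, TensorProduct.rid_symm_apply]
    rw [h2]
    exact h.comp (LinearEquiv.injective _)
  have : IsReduced (B ⊗[A] (∀ p, κ p)) :=
    isReduced_of_injective (Algebra.TensorProduct.piRight A A B κ).toRingEquiv.toRingHom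
      (Algebra.TensorProduct.piRight A A B κ).injective
  exact isReduced_of_injective φ.toRingHom hφ

theorem isReduced_of_etale (A B : Type u) [CommRing A] [CommRing B] [Algebra A B] [IsReduced A]
    [Algebra.Etale A B] : IsReduced B := by
  obtain ⟨A₀, B₀, _, _, hfg, _, ⟨e⟩⟩ := Algebra.Etale.exists_subalgebra_fg ℤ A B
  suffices IsReduced (A ⊗[A₀] B₀) from isReduced_of_injective e.toRingEquiv.toRingHom e.injective
  refine ⟨fun x hx ↦ ?_⟩
  classical
  obtain ⟨S, rfl⟩ := TensorProduct.exists_finset x
  let A' : Subalgebra A₀ A := Algebra.adjoin A₀ (S.image Prod.fst : Set A)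
  have : Algebra.FiniteType ℤ A₀ := (Subalgebra.fg_iff_finiteType A₀).mp hfg
  have : IsNoetherianRing A₀ := Algebra.FiniteType.isNoetherianRing ℤ A₀
  have : Algebra.FiniteType A₀ A' :=
    (Subalgebra.fg_iff_finiteType A').mp (Subalgebra.fg_adjoin_finset _)
  have : IsNoetherianRing A' := Algebra.FiniteType.isNoetherianRing A₀ A'
  have : IsReduced A' := isReduced_of_injective A'.val Subtype.val_injective
  have := isReduced_of_etale_of_isNoetherianRing A' (A' ⊗[A₀] B₀)
  let ψ : A' ⊗[A₀] B₀ →ₐ[A₀] A ⊗[A₀] B₀ := Algebra.TensorProduct.map A'.val (AlgHom.id A₀ B₀)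
  have hψ : Function.Injective ψ :=
    Module.Flat.rTensor_preserves_injective_linearMap A'.val.toLinearMap Subtype.val_injective
  obtain ⟨y, hy⟩ : ∃ y, ψ y = ∑ i ∈ S, i.1 ⊗ₜ[A₀] i.2 :=
    ⟨∑ i ∈ S.attach, (⟨i.1.1, Algebra.subset_adjoin (Finset.mem_coe.mpr
      (Finset.mem_image_of_mem _ i.2))⟩ : A') ⊗ₜ[A₀] i.1.2, by
      rw [map_sum, ← Finset.sum_attach S]
      exact Finset.sum_congr rfl fun i _ ↦ rfl⟩
  rw [← hy] at hx ⊢
  rw [((IsNilpotent.map_iff hψ).mp hx).eq_zero, map_zero]

theorem Hull.isReduced (A C : Type u) [CommRing A] [CommRing C] [Algebra A C] [IsReduced A] :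
    IsReduced (Hull A C) := by
  refine ⟨fun x ⟨n, hn⟩ ↦ ?_⟩
  obtain ⟨N, a, rfl⟩ := Hull.exists_ι x
  rw [← map_pow] at hn
  obtain ⟨M, f, hf⟩ := Hull.exists_map_eq_zero hn
  have := isReduced_of_etale A M.Ring
  rw [map_pow] at hf
  rw [← Hull.ι_map f, (IsNilpotent.eq_zero ⟨n, hf⟩ : f.map a = 0), map_zero]

theorem IsHenselization.isReduced_iff {R S : Type u} [CommRing R] [IsLocalRing R] [CommRing S]
    [IsLocalRing S] [Algebra R S] [IsLocalHom (algebraMap R S)]
    [_root_.Hensel.IsHenselization R S] : IsReduced R ↔ IsReduced S := by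
  refine ⟨fun _ ↦ ?_, fun _ ↦ ?_⟩
  · have := Hull.isReduced R (IsLocalRing.ResidueField R)
    let e := (IsHenselization.nonempty_hens_algEquiv (R := R) (S := S)).some
    exact isReduced_of_injective e.symm.toRingEquiv.toRingHom e.symm.injective
  · have := IsHenselization.faithfullyFlat (R := R) (S := S)
    exact isReduced_of_injective (algebraMap R S) (FaithfulSMul.algebraMap_injective R S)

theorem IsStrictHenselization.isReduced_iff {R S : Type u} [CommRing R] [IsLocalRing R]
    [CommRing S] [IsLocalRing S] [Algebra R S] [IsLocalHom (algebraMap R S)]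
    [_root_.Hensel.IsStrictHenselization R S] : IsReduced R ↔ IsReduced S := by
  refine ⟨fun _ ↦ ?_, fun _ ↦ ?_⟩
  · have := Hull.isReduced R (SeparableClosure (IsLocalRing.ResidueField R))
    let e := (IsStrictHenselization.nonempty_strictHens_algEquiv (R := R) (S := S)).some
    exact isReduced_of_injective e.symm.toRingEquiv.toRingHom e.symm.injective
  · have := IsStrictHenselization.faithfullyFlat (R := R) (S := S)
    exact isReduced_of_injective (algebraMap R S) (FaithfulSMul.algebraMap_injective R S)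

end GrothLib.Hensel
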