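import Groth.Agent.Lib.Hensel.PairHull

/-!
# Étale neighbourhoods of a pair

Étale `A`-algebras `A'` with `A/I → A'/IA'` bijective: refinement, directedness, and their relation
with the henselization.
-/

namespace GrothLib.Hensel

universe u

variable {A : Type u} [CommRing A] {I : Ideal A}

/-- The point of a neighbourhood of the pair. -/
noncomputable def pointOfBijective {A' : Type u} [CommRing A'] [Algebra A A']
    (h : Function.Bijective
      (Ideal.quotientMap (I.map (algebraMap A A')) (algebraMap A A') Ideal.le_comap_map)) :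
    A' →ₐ[A] A ⧸ I where
  toRingHom := (RingEquiv.ofBijective _ h).symm.toRingHom.comp (Ideal.Quotient.mk _)
  commutes' a := (RingEquiv.ofBijective _ h).symm_apply_apply (Ideal.Quotient.mk I a)

theorem point_unique {A' : Type u} [CommRing A'] [Algebra A A']
    (h : Function.Bijective
      (Ideal.quotientMap (I.map (algebraMap A A')) (algebraMap A A') Ideal.le_comap_map))
    (σ τ : A' →ₐ[A] A ⧸ I) : σ = τ := by
  ext x
  obtain ⟨a, ha⟩ := h.2 (Ideal.Quotient.mk (I.map (algebraMap A A')) x)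
  obtain ⟨a, rfl⟩ := Ideal.Quotient.mk_surjective a
  rw [Ideal.quotientMap_mk, Ideal.Quotient.eq] at ha
  have key : ∀ χ : A' →ₐ[A] A ⧸ I, χ x = Ideal.Quotient.mk I a := fun χ ↦ by
    have := algHom_quotient_map_eq_zero χ ha
    rw [map_sub, sub_eq_zero, AlgHom.commutes] at this
    exact this.symm
  rw [key σ, key τ]

theorem exists_bijective_refine {A' : Type u} [CommRing A'] [Algebra A A'] [Algebra.Etale A A']
    (σ : A' →ₐ[A] A ⧸ I) :
    ∃ (A'' : Type u) (_ : CommRing A'') (_ : Algebra A A'') (_ : Algebra.Etale A A''),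
      Function.Bijective
        (Ideal.quotientMap (I.map (algebraMap A A'')) (algebraMap A A'') Ideal.le_comap_map) ∧
      ∃ (φ : A' →ₐ[A] A'') (σ'' : A'' →ₐ[A] A ⧸ I), σ''.comp φ = σ := by
  obtain ⟨ε, hε1, hε⟩ := exists_sectionElem σ
  let σ'' : Localization.Away ε →ₐ[A] A ⧸ I :=
    IsLocalization.Away.liftAlgHom ε (f := σ) (by rw [hε1]; exact isUnit_one)
  have hlift : ∀ x, σ'' (algebraMap A' _ x) = σ x := fun x ↦ IsLocalization.lift_eq _ _
  refine ⟨Localization.Away ε, inferInstance, inferInstance, inferInstance,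
    quotientMap_bijective_of I ?_ ?_, IsScalarTower.toAlgHom A A' _, σ'', AlgHom.ext hlift⟩
  · have h0 : ∀ x, σ x = 0 → algebraMap A' (Localization.Away ε) x ∈
        I.map (algebraMap A (Localization.Away ε)) := fun x hx ↦ by
      have h := Ideal.mem_map_of_mem (algebraMap A' (Localization.Away ε)) (hε x hx)
      rw [Ideal.map_map, ← IsScalarTower.algebraMap_eq, map_mul] at h
      exact (Ideal.unit_mul_mem_iff_mem _ (IsLocalization.Away.algebraMap_isUnit ε)).mp h
    have hone : algebraMap A' (Localization.Away ε) ε - 1 ∈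
        I.map (algebraMap A (Localization.Away ε)) := by
      rw [← map_one (algebraMap A' (Localization.Away ε)), ← map_sub]
      exact h0 _ (by rw [map_sub, map_one, hε1, sub_self])
    intro y
    obtain ⟨n, x, hx⟩ := IsLocalization.Away.surj ε y
    obtain ⟨a, ha⟩ := Ideal.Quotient.mk_surjective (σ x)
    refine ⟨a, ?_⟩
    have hax : algebraMap A' (Localization.Away ε) x - algebraMap A _ a ∈
        I.map (algebraMap A (Localization.Away ε)) := by
      rw [IsScalarTower.algebraMap_apply A A' (Localization.Away ε), ← map_sub]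
      exact h0 _ (by rw [map_sub, AlgHom.commutes, ← ha]; exact sub_self _)
    rw [← hx] at hax
    rw [← Ideal.Quotient.eq] at hax hone ⊢
    rwa [map_mul, map_pow, hone, map_one, one_pow, mul_one] at hax
  · intro a ha
    have := algHom_quotient_map_eq_zero σ'' ha
    rw [AlgHom.commutes] at this
    exact Ideal.Quotient.eq_zero_iff_mem.mp this

theorem existsUnique_algHom_of_bijective {A' : Type u} [CommRing A'] [Algebra A A']
    [Algebra.Etale A A']
    (h : Function.Bijective
      (Ideal.quotientMap (I.map (algebraMap A A')) (algebraMap A A') Ideal.le_comap_map))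
    {B : Type u} [CommRing B] [Algebra A B] (J : Ideal B) [HenselianRing B J]
    (hJ : I.map (algebraMap A B) ≤ J) : Nonempty (Unique (A' →ₐ[A] B)) := by
  let γ : A ⧸ I →ₐ[A] B ⧸ J := Ideal.Quotient.liftₐ I (Algebra.ofId A _) fun a ha ↦
    Ideal.Quotient.eq_zero_iff_mem.mpr (hJ (Ideal.mem_map_of_mem _ ha))
  obtain ⟨φ, -, huniq⟩ := existsUnique_algHom_lift (γ.comp (pointOfBijective h))
  refine ⟨⟨⟨φ⟩, fun ψ ↦ huniq ψ (AlgHom.ext fun x ↦ ?_)⟩⟩
  obtain ⟨a, ha⟩ := h.2 (Ideal.Quotient.mk (I.map (algebraMap A A')) x)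
  obtain ⟨a, rfl⟩ := Ideal.Quotient.mk_surjective a
  rw [Ideal.quotientMap_mk, Ideal.Quotient.eq] at ha
  have key : ∀ χ : A' →ₐ[A] B ⧸ J, χ x = algebraMap A _ a := fun χ ↦ by
    have h1 : I.map (algebraMap A A') ≤ RingHom.ker χ.toRingHom := by
      rw [Ideal.map_le_iff_le_comap]
      intro b hb
      show χ (algebraMap A A' b) = 0
      rw [χ.commutes]
      exact Ideal.Quotient.eq_zero_iff_mem.mpr (hJ (Ideal.mem_map_of_mem _ hb))
    have h2 : χ (algebraMap A A' a - x) = 0 := h1 ha
    rwa [map_sub, sub_eq_zero, AlgHom.commutes, eq_comm] at h2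
  rw [key ((Ideal.Quotient.mkₐ A J).comp ψ), key (γ.comp (pointOfBijective h))]

theorem exists_equalizer {A₁ A₂ : Type u} [CommRing A₁] [Algebra A A₁] [Algebra.Etale A A₁]
    [CommRing A₂] [Algebra A A₂] [Algebra.Etale A A₂]
    (h₁ : Function.Bijective
      (Ideal.quotientMap (I.map (algebraMap A A₁)) (algebraMap A A₁) Ideal.le_comap_map))
    (σ₂ : A₂ →ₐ[A] A ⧸ I) (f g : A₁ →ₐ[A] A₂) :
    ∃ (A₃ : Type u) (_ : CommRing A₃) (_ : Algebra A A₃) (_ : Algebra.Etale A A₃),
      Function.Bijective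
        (Ideal.quotientMap (I.map (algebraMap A A₃)) (algebraMap A A₃) Ideal.le_comap_map) ∧
      ∃ h : A₂ →ₐ[A] A₃, h.comp f = h.comp g := by
  obtain ⟨E, hE, hfg⟩ := Nbhd.exists_away_equalize f g σ₂ (point_unique h₁ _ _)
  let σ : Localization.Away E →ₐ[A] A ⧸ I :=
    IsLocalization.Away.liftAlgHom E (f := σ₂) (by rw [hE]; exact isUnit_one)
  obtain ⟨A₃, _, _, _, hb, φ, -, -⟩ := exists_bijective_refine σ
  refine ⟨A₃, inferInstance, inferInstance, inferInstance, hb,
    φ.comp (IsScalarTower.toAlgHom A A₂ _), AlgHom.ext fun x ↦ ?_⟩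
  refine congrArg φ ((IsLocalization.Away.algebraMap_isUnit (S := Localization.Away E) E).mul_left_cancel ?_)
  show algebraMap A₂ _ E * algebraMap A₂ _ (f x) = algebraMap A₂ _ E * algebraMap A₂ _ (g x)
  rw [← map_mul, ← map_mul, hfg]

end GrothLib.Hensel

namespace GrothLib.Hensel

open Polynomial

universe u

variable {A : Type u} [CommRing A] {I : Ideal A} {C : Type u} [CommRing C] [Algebra A C]

theorem Hull.exists_map_eq_zero_family {N : Nbhd A C} {σ : Type*} (s : Finset σ) (a : σ → N.Ring)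
    (h : ∀ i ∈ s, Hull.ι N (a i) = 0) :
    ∃ (M : Nbhd A C) (f : N ⟶ M), ∀ i ∈ s, f.map (a i) = 0 := by
  classical
  induction s using Finset.induction_on with
  | empty => exact ⟨N, CategoryTheory.CategoryStruct.id N, by simp⟩
  | insert i t hit ih =>
    obtain ⟨M, f, hf⟩ := ih fun j hj ↦ h j (Finset.mem_insert_of_mem hj)
    obtain ⟨M', g, hg⟩ := Hull.exists_map_eq_zero
      ((Hull.ι_map f (a i)).trans (h i (Finset.mem_insert_self i t)))
    refine ⟨M', CategoryTheory.CategoryStruct.comp f g, fun j hj ↦ ?_⟩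
    show g.map (f.map (a j)) = 0
    rcases Finset.mem_insert.mp hj with rfl | hj
    · exact hg
    · rw [hf j hj, map_zero]

theorem Hull.exists_ι_polynomial (P Q : (Hull A C)[X]) :
    ∃ (N : Nbhd A C) (p q : N.Ring[X]), p.map (Hull.ι N).toRingHom = P ∧
      q.map (Hull.ι N).toRingHom = Q := by
  have one : ∀ P : (Hull A C)[X], ∃ (N : Nbhd A C) (p : N.Ring[X]),
      p.map (Hull.ι N).toRingHom = P := fun P ↦ by
    obtain ⟨N, a, ha⟩ := Hull.exists_ι_family fun i : Fin (P.natDegree + 1) ↦ P.coeff i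
    refine ⟨N, ∑ i : Fin (P.natDegree + 1), Polynomial.C (a i) * X ^ (i : ℕ), ?_⟩
    conv_rhs => rw [P.as_sum_range_C_mul_X_pow]
    rw [← Fin.sum_univ_eq_sum_range (fun i ↦ Polynomial.C (P.coeff i) * X ^ i)]
    simp [Polynomial.map_sum, ha]
  obtain ⟨N₁, p, hp⟩ := one P
  obtain ⟨N₂, q, hq⟩ := one Q
  obtain ⟨K, f, g, -⟩ := CategoryTheory.IsFilteredOrEmpty.cocone_objs N₁ N₂
  refine ⟨K, p.map f.map.toRingHom, q.map g.map.toRingHom, ?_, ?_⟩
  · rw [Polynomial.map_map, ← hp]
    congr 1
    exact RingHom.ext (Hull.ι_map f)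
  · rw [Polynomial.map_map, ← hq]
    congr 1
    exact RingHom.ext (Hull.ι_map g)

theorem mk_eq_quotientMap {A' : Type u} [CommRing A'] [Algebra A A']
    (h : Function.Bijective
      (Ideal.quotientMap (I.map (algebraMap A A')) (algebraMap A A') Ideal.le_comap_map))
    (σ : A' →ₐ[A] A ⧸ I) (x : A') :
    Ideal.Quotient.mk (I.map (algebraMap A A')) x =
      Ideal.quotientMap (I.map (algebraMap A A')) (algebraMap A A') Ideal.le_comap_map (σ x) := by
  obtain ⟨a, ha⟩ := h.2 (Ideal.Quotient.mk (I.map (algebraMap A A')) x)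
  obtain ⟨a, rfl⟩ := Ideal.Quotient.mk_surjective a
  have := algHom_quotient_map_eq_zero σ
    (Ideal.Quotient.eq.mp ((Ideal.quotientMap_mk).symm.trans ha))
  rw [map_sub, sub_eq_zero, AlgHom.commutes] at this
  rw [← this]
  exact ha.symm

/-- A coprime factorization modulo `I` lifts to an étale neighbourhood of the pair. -/
theorem exists_etale_lift_factorization (f : A[X]) (hf : f.Monic) (g h : (A ⧸ I)[X])
    (hgh : f.map (Ideal.Quotient.mk I) = g * h) (hlead : IsUnit g.leadingCoeff)
    (hcop : IsCoprime g h) :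
    ∃ (A' : Type u) (_ : CommRing A') (_ : Algebra A A') (_ : Algebra.Etale A A'),
      Function.Bijective (Ideal.quotientMap (I.map (algebraMap A A')) (algebraMap A A')
        Ideal.le_comap_map) ∧
      ∃ g' h' : A'[X], f.map (algebraMap A A') = g' * h' ∧
        g'.map (Ideal.Quotient.mk (I.map (algebraMap A A'))) =
          g.map (Ideal.quotientMap (I.map (algebraMap A A')) (algebraMap A A') Ideal.le_comap_map) ∧
        h'.map (Ideal.Quotient.mk (I.map (algebraMap A A'))) =
          h.map (Ideal.quotientMap (I.map (algebraMap A A')) (algebraMap A A') Ideal.le_comap_map) := by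
  set H := Hull A (A ⧸ I)
  have hH := PairHull.isPairHenselization A I
  have := hH.1
  set J := I.map (algebraMap A H)
  let q : A ⧸ I →+* H ⧸ J := Ideal.quotientMap J (algebraMap A H) Ideal.le_comap_map
  let π : H ⧸ J →+* A ⧸ I := Ideal.Quotient.lift J (Hull.proj : H →ₐ[A] A ⧸ I).toRingHom
    fun a ha ↦ by
      have ha' : a ∈ RingHom.ker (Hull.proj : H →ₐ[A] A ⧸ I).toRingHom := by
        rw [PairHull.ker_proj]; exact ha
      exact ha'
  have hπq : π.comp q = RingHom.id _ := Ideal.Quotient.ringHom_ext (RingHom.ext fun a ↦ by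
    show π (q (Ideal.Quotient.mk I a)) = _
    simp only [q, π, Ideal.quotientMap_mk, Ideal.Quotient.lift_mk]
    exact (Hull.proj : H →ₐ[A] A ⧸ I).commutes a)
  obtain ⟨c, hc⟩ := hlead
  set g₁ := g * Polynomial.C (↑c⁻¹ : A ⧸ I)
  set h₁ := Polynomial.C (↑c : A ⧸ I) * h
  have hg₁ : g₁.Monic := monic_mul_C_of_leadingCoeff_mul_eq_one (by rw [← hc, Units.mul_inv])
  have hmul : g₁ * h₁ = g * h := by
    rw [mul_assoc, ← mul_assoc (Polynomial.C _) (Polynomial.C _) h, ← map_mul, Units.inv_mul,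
      map_one, one_mul]
  have hh₁ : h₁.Monic := hg₁.of_mul_monic_left (hmul ▸ hgh ▸ hf.map _)
  have hc₁ : IsCoprime g₁ h₁ := by
    refine ((isCoprime_mul_unit_right_left ?_ _ _).mpr
      ((isCoprime_mul_unit_left_right ?_ _ _).mpr hcop))
    · exact isUnit_C.mpr c⁻¹.isUnit
    · exact isUnit_C.mpr c.isUnit
  obtain ⟨G, G₂, -, -, -, hfG, hG, hG₂⟩ := exists_factor_lift (I := J) (f.map (algebraMap A H))
    (hf.map _) (g₁.map q) (h₁.map q) (hg₁.map q) (hh₁.map q) (hc₁.map (Polynomial.mapRingHom q))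
    (by rw [Polynomial.map_map, ← Polynomial.map_mul, hmul, ← hgh, Polynomial.map_map]
        congr 1)
  obtain ⟨u, hu⟩ := Ideal.Quotient.mk_surjective (q c)
  have hu' : IsUnit u := isUnit_of_isUnit_mk (HenselianRing.jac (I := J)) (hu ▸ c.isUnit.map q)
  obtain ⟨u, rfl⟩ := hu'
  have huinv : Ideal.Quotient.mk J (↑u⁻¹ : H) = q ↑c⁻¹ := by
    refine (c.isUnit.map q).mul_left_cancel ?_
    rw [← map_mul q, Units.mul_inv, map_one, ← hu, ← map_mul, Units.mul_inv, map_one]
  set P := Polynomial.C (u : H) * G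
  set Q := Polynomial.C (↑u⁻¹ : H) * G₂
  have hPQ : f.map (algebraMap A H) = P * Q := by
    rw [hfG, show P * Q = Polynomial.C (u : H) * Polynomial.C (↑u⁻¹ : H) * (G * G₂) by ring,
      ← map_mul, Units.mul_inv, map_one, one_mul]
  have hP : P.map (Hull.proj : H →ₐ[A] A ⧸ I).toRingHom = g := by
    have h1 : P.map (Ideal.Quotient.mk J) = g.map q := by
      rw [Polynomial.map_mul, map_C, hu, hG, Polynomial.map_mul, map_C, mul_left_comm,
        ← map_mul, ← map_mul, Units.mul_inv, map_one, map_one, mul_one]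
    have h2 := congrArg (Polynomial.map π) h1
    rwa [Polynomial.map_map, Polynomial.map_map, hπq, Polynomial.map_id] at h2
  have hQ : Q.map (Hull.proj : H →ₐ[A] A ⧸ I).toRingHom = h := by
    have h1 : Q.map (Ideal.Quotient.mk J) = h.map q := by
      rw [Polynomial.map_mul, map_C, huinv, hG₂, Polynomial.map_mul, map_C, ← mul_assoc,
        ← map_mul, ← map_mul, Units.inv_mul, map_one, map_one, one_mul]
    have h2 := congrArg (Polynomial.map π) h1
    rwa [Polynomial.map_map, Polynomial.map_map, hπq, Polynomial.map_id] at h2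
  obtain ⟨N, p₀, q₀, hp₀, hq₀⟩ := Hull.exists_ι_polynomial P Q
  set D := f.map (algebraMap A N.Ring) - p₀ * q₀
  have hD : D.map (Hull.ι N).toRingHom = 0 := by
    rw [Polynomial.map_sub, Polynomial.map_mul, hp₀, hq₀, Polynomial.map_map, ← hPQ,
      show (Hull.ι N).toRingHom.comp (algebraMap A N.Ring) = algebraMap A H from
        (Hull.ι N).comp_algebraMap, sub_self]
  obtain ⟨M, φ₁, hφ₁⟩ := Hull.exists_map_eq_zero_family D.support D.coeff fun i _ ↦ by
    simpa using congrArg (fun r : H[X] ↦ r.coeff i) hD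
  obtain ⟨A', _, _, _, hb, φ, σ, hσ⟩ := exists_bijective_refine M.pt
  set ψ : N.Ring →ₐ[A] A' := φ.comp φ₁.map
  have hσψ : σ.comp ψ = N.pt := by rw [← AlgHom.comp_assoc, hσ, φ₁.comp_pt]
  refine ⟨A', inferInstance, inferInstance, inferInstance, hb, p₀.map ψ.toRingHom,
    q₀.map ψ.toRingHom, ?_, ?_, ?_⟩
  · have h0 : D.map ψ.toRingHom = 0 := by
      ext i
      rw [coeff_map, coeff_zero]
      by_cases hi : i ∈ D.support
      · show φ (φ₁.map (D.coeff i)) = 0
        rw [hφ₁ i hi, map_zero]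
      · rw [notMem_support_iff.mp hi, map_zero]
    rwa [Polynomial.map_sub, Polynomial.map_mul, Polynomial.map_map, sub_eq_zero,
      show ψ.toRingHom.comp (algebraMap A N.Ring) = algebraMap A A' from ψ.comp_algebraMap] at h0
  · ext i
    simp only [coeff_map]
    rw [mk_eq_quotientMap hb σ]
    congr 1
    rw [← hP, ← hp₀, Polynomial.map_map, coeff_map]
    exact (AlgHom.congr_fun hσψ _).trans (Hull.proj_ι N _).symm
  · ext i
    simp only [coeff_map]
    rw [mk_eq_quotientMap hb σ]
    congr 1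
    rw [← hQ, ← hq₀, Polynomial.map_map, coeff_map]
    exact (AlgHom.congr_fun hσψ _).trans (Hull.proj_ι N _).symm

end GrothLib.Hensel
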