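import Groth.Agent.Lib.Hensel.Henselization
import Groth.Agent.Lib.Hensel.PairNbhd
import Mathlib.RingTheory.Smooth.IntegralClosure
import Mathlib.RingTheory.IntegralClosure.IntegrallyClosed
import Mathlib.RingTheory.Etale.Field

/-!
# Normality of étale algebras and of henselizations
-/

namespace GrothLib.Hensel

open Polynomial
open scoped TensorProduct

universe u v

section Regular

variable {E L : Type*} [CommRing E] [CommRing L] [Algebra E L]

/-- A ring integrally closed in an absolutely flat overring has local rings that are domains. -/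
theorem exists_mul_eq_zero_of_regular (hinj : Function.Injective (algebraMap E L))
    (hreg : ∀ a : L, ∃ a', a * a * a' = a) (hint : ∀ z : L, IsIntegral E z → ∃ x, algebraMap E L x = z)
    (q : Ideal E) [hq : q.IsPrime] {a b : E} (h : a * b = 0) :
    (∃ t ∉ q, t * a = 0) ∨ ∃ t ∉ q, t * b = 0 := by
  obtain ⟨a', ha'⟩ := hreg (algebraMap E L a)
  have hee : IsIdempotentElem (algebraMap E L a * a') := by
    show _ * _ = _
    linear_combination a' * ha'
  obtain ⟨e, he⟩ := hint _ ⟨X * (X - 1), monic_X.mul (monic_X_sub_C 1), by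
    rw [← aeval_def, map_mul, map_sub, aeval_X, map_one, mul_sub, hee.eq, mul_one, sub_self]⟩
  have hae : a * (1 - e) = 0 := hinj (by
    rw [map_mul, map_sub, map_one, he, map_zero]; linear_combination -ha')
  have hbe : b * e = 0 := hinj (by
    rw [map_mul, he, map_zero]
    have := congrArg (algebraMap E L) h
    rw [map_mul, map_zero] at this
    linear_combination a' * this)
  by_cases he' : e ∈ q
  · exact Or.inl ⟨1 - e, fun h1 ↦ hq.ne_top ((Ideal.eq_top_iff_one q).mpr
      (by simpa using add_mem h1 he')), by rw [mul_comm]; exact hae⟩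
  · exact Or.inr ⟨e, he', by rw [mul_comm]; exact hbe⟩

/-- A ring integrally closed in an absolutely flat overring has integrally closed local rings. -/
theorem exists_mul_eq_of_regular (hinj : Function.Injective (algebraMap E L))
    (hreg : ∀ a : L, ∃ a', a * a * a' = a) (hint : ∀ z : L, IsIntegral E z → ∃ x, algebraMap E L x = z)
    (q : Ideal E) [hq : q.IsPrime] {x y : E} (hy : ∀ t ∉ q, t * y ≠ 0) (p : E[X]) (hp : p.Monic)
    (h : ∃ t ∉ q, t * ∑ i ∈ Finset.range (p.natDegree + 1),
      p.coeff i * x ^ i * y ^ (p.natDegree - i) = 0) :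
    ∃ w, ∃ s ∉ q, s * x = y * w := by
  obtain ⟨t, ht, heq⟩ := h
  obtain ⟨y', hy'⟩ := hreg (algebraMap E L y)
  have hee : IsIdempotentElem (algebraMap E L y * y') := by
    show _ * _ = _
    linear_combination y' * hy'
  obtain ⟨e, he⟩ := hint _ ⟨X * (X - 1), monic_X.mul (monic_X_sub_C 1), by
    rw [← aeval_def, map_mul, map_sub, aeval_X, map_one, mul_sub, hee.eq, mul_one, sub_self]⟩
  have hye : y * (1 - e) = 0 := hinj (by
    rw [map_mul, map_sub, map_one, he, map_zero]; linear_combination -hy')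
  have heq' : e ∉ q := fun he' ↦ hy (1 - e)
    (fun h1 ↦ hq.ne_top ((Ideal.eq_top_iff_one q).mpr (by simpa using add_mem h1 he')))
    (by rw [mul_comm]; exact hye)
  rcases Nat.eq_zero_or_pos p.natDegree with h0 | h0
  · refine absurd (heq : t * _ = 0) ?_
    rw [h0, Finset.sum_range_one, pow_zero, Nat.sub_zero, pow_zero, mul_one, mul_one]
    rw [← h0, hp.coeff_natDegree, mul_one]
    exact fun h ↦ ht (h ▸ q.zero_mem)
  set Y := algebraMap E L (t * x) * y'
  let r : E[X] := ∑ i ∈ Finset.range (p.natDegree + 1),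
    C (p.coeff i * (t * e) ^ (p.natDegree - i)) * X ^ i
  have hr : r.Monic := by
    refine monic_of_natDegree_le_of_coeff_eq_one p.natDegree ?_ ?_
    · refine natDegree_sum_le_of_forall_le _ _ fun i hi ↦ (natDegree_C_mul_X_pow_le _ _).trans ?_
      exact Nat.lt_succ_iff.mp (Finset.mem_range.mp hi)
    · simp only [r, finsetSum_coeff, coeff_C_mul_X_pow]
      rw [Finset.sum_ite_eq, if_pos (Finset.mem_range.mpr (Nat.lt_succ_self _)), Nat.sub_self,
        pow_zero, mul_one, hp.coeff_natDegree]
  have hY : aeval Y r = 0 := by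
    have h1 : aeval Y r = algebraMap E L (t ^ (p.natDegree - 1)) * y' ^ p.natDegree *
        algebraMap E L (t * ∑ i ∈ Finset.range (p.natDegree + 1),
          p.coeff i * x ^ i * y ^ (p.natDegree - i)) := by
      simp only [r, map_sum, map_mul, aeval_C, map_pow, aeval_X, Finset.mul_sum, Y]
      refine Finset.sum_congr rfl fun i hi ↦ ?_
      obtain ⟨j, hj⟩ := Nat.exists_eq_add_of_le (Nat.lt_succ_iff.mp (Finset.mem_range.mp hi))
      rw [hj, Nat.add_sub_cancel_left, he, mul_pow, mul_pow, mul_pow, mul_pow, pow_add y']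
      obtain ⟨k, hk⟩ : ∃ k, i + j = k + 1 := ⟨i + j - 1, by omega⟩
      have h3 : algebraMap E L t ^ j * algebraMap E L t ^ i =
          algebraMap E L t ^ (i + j - 1) * algebraMap E L t := by
        rw [← pow_add, ← pow_succ]; congr 1; omega
      linear_combination (algebraMap E L (p.coeff i) * algebraMap E L x ^ i *
        algebraMap E L y ^ j * y' ^ i * y' ^ j) * h3
    rw [h1, heq, map_zero, mul_zero]
  obtain ⟨w, hw⟩ := hint Y ⟨r, hr, hY⟩
  refine ⟨w, t * e, fun h ↦ (hq.mem_or_mem h).elim ht heq', hinj ?_⟩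
  rw [map_mul, map_mul, map_mul, hw, he]
  simp only [Y, map_mul]
  ring

/-- Local rings of such a ring are normal domains. -/
theorem isNormalDomain_localization_of_regular (hinj : Function.Injective (algebraMap E L))
    (hreg : ∀ a : L, ∃ a', a * a * a' = a) (hint : ∀ z : L, IsIntegral E z → ∃ x, algebraMap E L x = z)
    (q : Ideal E) [hq : q.IsPrime] :
    (∀ a b : E, a * b = 0 → (∃ t ∉ q, t * a = 0) ∨ ∃ t ∉ q, t * b = 0) ∧
    (∀ (p : E[X]) (x y : E), p.Monic → (∀ t ∉ q, t * y ≠ 0) →
      (∃ t ∉ q, t * ∑ i ∈ Finset.range (p.natDegree + 1),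
        p.coeff i * x ^ i * y ^ (p.natDegree - i) = 0) → ∃ w, ∃ s ∉ q, s * x = y * w) :=
  ⟨fun _ _ h ↦ exists_mul_eq_zero_of_regular hinj hreg hint q h,
    fun p _ _ hp hy h ↦ exists_mul_eq_of_regular hinj hreg hint q hy p hp h⟩

end Regular

/-- A product of fields is absolutely flat. -/
theorem exists_mul_mul_eq_pi {ι : Type*} (K : ι → Type*) [∀ i, Field (K i)] (a : ∀ i, K i) :
    ∃ a', a * a * a' = a := by
  refine ⟨fun i ↦ (a i)⁻¹, funext fun i ↦ ?_⟩
  simp only [Pi.mul_apply]
  rcases eq_or_ne (a i) 0 with h | h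
  · simp [h]
  · field_simp

/-- Étale algebras over normal domains have normal local rings. -/
theorem isNormalDomain_localization_of_etale (R : Type u) [CommRing R] [IsDomain R]
    [IsIntegrallyClosed R] {E : Type u} [CommRing E] [Algebra R E] [Algebra.Etale R E]
    (q : Ideal E) [q.IsPrime] :
    (∀ a b : E, a * b = 0 → (∃ t ∉ q, t * a = 0) ∨ ∃ t ∉ q, t * b = 0) ∧
    (∀ (p : E[X]) (x y : E), p.Monic → (∀ t ∉ q, t * y ≠ 0) →
      (∃ t ∉ q, t * ∑ i ∈ Finset.range (p.natDegree + 1),
        p.coeff i * x ^ i * y ^ (p.natDegree - i) = 0) → ∃ w, ∃ s ∉ q, s * x = y * w) := by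
  let K := FractionRing R
  have hinj : Function.Injective (algebraMap E (E ⊗[R] K)) :=
    Algebra.TensorProduct.includeLeft_injective (R := R) (S := E) (A := E) (B := K)
      (IsFractionRing.injective R K)
  refine isNormalDomain_localization_of_regular (L := E ⊗[R] K) hinj ?_ ?_ q
  · obtain ⟨I, _, Ai, _, _, e, -⟩ :=
      (Algebra.Etale.iff_exists_algEquiv_prod (K := K) (A := K ⊗[R] E)).mp inferInstance
    let ψ : E ⊗[R] K ≃+* (Π i, Ai i) :=
      (Algebra.TensorProduct.comm R E K).toRingEquiv.trans e.toRingEquiv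
    intro a
    obtain ⟨a', ha'⟩ := exists_mul_mul_eq_pi Ai (ψ a)
    refine ⟨ψ.symm a', ψ.injective ?_⟩
    rw [map_mul, map_mul, RingEquiv.apply_symm_apply, ha']
  · intro z hz
    obtain ⟨w, hw⟩ := (TensorProduct.toIntegralClosure_bijective_of_smooth (R := R) (S := E)
      (B := K)).2 ⟨z, hz⟩
    have hw' : Algebra.TensorProduct.map (AlgHom.id E E) (integralClosure R K).val w = z :=
      congrArg Subtype.val hw
    clear hw
    subst hw'
    clear hz
    induction w using TensorProduct.induction_on with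
    | zero => exact ⟨0, by simp⟩
    | tmul s k =>
      obtain ⟨r, hr⟩ := IsIntegrallyClosed.algebraMap_eq_of_integral (K := K) k.2
      refine ⟨r • s, ?_⟩
      rw [Algebra.TensorProduct.map_tmul, AlgHom.id_apply, Subalgebra.coe_val, ← hr,
        Algebra.algebraMap_eq_smul_one r, TensorProduct.tmul_smul, TensorProduct.smul_tmul',
        Algebra.TensorProduct.algebraMap_apply, Algebra.algebraMap_self, RingHom.id_apply]
    | add w w' hw hw' =>
      obtain ⟨x, hx⟩ := hw
      obtain ⟨x', hx'⟩ := hw'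
      exact ⟨x + x', by rw [map_add, map_add, hx, hx']⟩

variable {R : Type u} [CommRing R] {C : Type u} [Field C] [Algebra R C]

/-- Elements killed by something nonzero at the point vanish in the hull. -/
theorem Hull.ι_eq_zero_of_mul_eq_zero (N : Nbhd R C) {t a : N.Ring} (ht : N.pt t ≠ 0)
    (h : t * a = 0) : Hull.ι N a = 0 := by
  have hu : IsUnit (Hull.ι N t) :=
    Hull.isUnit_of_isUnit_proj (by rw [Hull.proj_ι]; exact ht.isUnit)
  refine hu.mul_left_cancel ?_
  rw [← map_mul, h, map_zero, mul_zero]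

/-- The hull at a point of a field over a normal domain is a normal domain. -/
theorem Hull.isNormalDomain [IsDomain R] [IsIntegrallyClosed R] :
    IsDomain (Hull R C) ∧ IsIntegrallyClosed (Hull R C) := by
  classical
  have hnt : Nontrivial (Hull R C) := (Hull.proj (A := R) (C := C)).toRingHom.domain_nontrivial
  have hprime : ∀ N : Nbhd R C, (RingHom.ker N.pt.toRingHom).IsPrime := fun N ↦ RingHom.ker_isPrime _
  have hdom : IsDomain (Hull R C) := by
    have : NoZeroDivisors (Hull R C) := ⟨fun {x y} h ↦ by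
      obtain ⟨N, a, ha⟩ := Hull.exists_ι_family ![x, y]
      have hx : Hull.ι N (a 0) = x := ha 0
      have hy : Hull.ι N (a 1) = y := ha 1
      rw [← hx, ← hy, ← map_mul] at h
      obtain ⟨M, f, hf⟩ := Hull.exists_map_eq_zero h
      rw [map_mul] at hf
      have := hprime M
      rcases (isNormalDomain_localization_of_etale R (RingHom.ker M.pt.toRingHom)).1 _ _ hf with
        ⟨t, ht, h0⟩ | ⟨t, ht, h0⟩
      · left
        rw [← hx, ← Hull.ι_map f]
        exact Hull.ι_eq_zero_of_mul_eq_zero M ht h0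
      · right
        rw [← hy, ← Hull.ι_map f]
        exact Hull.ι_eq_zero_of_mul_eq_zero M ht h0⟩
    exact NoZeroDivisors.to_isDomain _
  refine ⟨hdom, (isIntegrallyClosed_iff (FractionRing (Hull R C))).mpr fun {z} hz ↦ ?_⟩
  obtain ⟨P, hP, hPz⟩ := hz
  obtain ⟨x, y, hy, rfl⟩ := IsFractionRing.div_surjective (A := Hull R C) z
  set n := P.natDegree
  let c : Fin 2 ⊕ Fin n → Hull R C := Sum.elim ![x, y] fun i ↦ P.coeff i
  obtain ⟨N, a, ha⟩ := Hull.exists_ι_family c
  let p : N.Ring[X] := X ^ n + ∑ i : Fin n, Polynomial.C (a (.inr i)) * X ^ (i : ℕ)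
  have : Nontrivial N.Ring := (Hull.ι N).toRingHom.domain_nontrivial
  have hpm : p.Monic := monic_X_pow_add ((degree_sum_le _ _).trans_lt ((Finset.sup_lt_iff
    (WithBot.bot_lt_coe n)).mpr fun i _ ↦ (degree_C_mul_X_pow_le _ _).trans_lt
    (Nat.cast_lt.mpr i.isLt)))
  have hp : p.map (Hull.ι N).toRingHom = P := by
    conv_rhs => rw [hP.as_sum]
    rw [← Fin.sum_univ_eq_sum_range (fun i ↦ Polynomial.C (P.coeff i) * X ^ i)]
    simp [p, Polynomial.map_sum, ha, c, n]
  have hpd : p.natDegree = n := by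
    show p.natDegree = P.natDegree
    rw [← hp, hpm.natDegree_map]
  have hx : Hull.ι N (a (.inl 0)) = x := ha (.inl 0)
  have hy' : Hull.ι N (a (.inl 1)) = y := ha (.inl 1)
  set S := ∑ i ∈ Finset.range (p.natDegree + 1),
    p.coeff i * a (.inl 0) ^ i * a (.inl 1) ^ (p.natDegree - i) with hS
  have hS0 : Hull.ι N S = 0 := by
    refine IsFractionRing.injective (Hull R C) (FractionRing (Hull R C)) ?_
    have hy0 : algebraMap (Hull R C) (FractionRing (Hull R C)) y ≠ 0 :=
      IsFractionRing.to_map_ne_zero_of_mem_nonZeroDivisors hy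
    rw [eval₂_eq_sum_range] at hPz
    have := congrArg (· * algebraMap (Hull R C) (FractionRing (Hull R C)) y ^ n) hPz
    simp only [zero_mul, Finset.sum_mul] at this
    rw [map_zero, ← this, hS, map_sum, map_sum, hpd]
    refine Finset.sum_congr rfl fun i hi ↦ ?_
    have hc : Hull.ι N (p.coeff i) = P.coeff i := by rw [← hp, coeff_map]; rfl
    obtain ⟨j, hj⟩ := Nat.exists_eq_add_of_le (Nat.lt_succ_iff.mp (Finset.mem_range.mp hi))
    simp only [map_mul, map_pow, hc, hx, hy', n, hj, Nat.add_sub_cancel_left, div_pow, pow_add]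
    field_simp
  obtain ⟨M, f, hf⟩ := Hull.exists_map_eq_zero hS0
  have := hprime M
  have hy2 : ∀ t ∉ RingHom.ker M.pt.toRingHom, t * f.map (a (.inl 1)) ≠ 0 := fun t ht h0 ↦
    nonZeroDivisors.ne_zero hy (by
      rw [← hy', ← Hull.ι_map f]; exact Hull.ι_eq_zero_of_mul_eq_zero M ht h0)
  obtain ⟨w, s, hs, hw⟩ := (isNormalDomain_localization_of_etale R
    (RingHom.ker M.pt.toRingHom)).2 (p.map f.map.toRingHom) (f.map (a (.inl 0)))
    (f.map (a (.inl 1))) (hpm.map _) hy2 ⟨1, fun h ↦ (hprime M).ne_top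
      ((Ideal.eq_top_iff_one _).mpr h), by
      have : Nontrivial M.Ring := (Hull.ι M).toRingHom.domain_nontrivial
      rw [one_mul, hpm.natDegree_map, ← hf, hS, map_sum]
      refine Finset.sum_congr rfl fun i _ ↦ ?_
      simp [coeff_map]⟩
  obtain ⟨u, hu⟩ : IsUnit (Hull.ι M s) :=
    Hull.isUnit_of_isUnit_proj (by rw [Hull.proj_ι]; exact (show M.pt s ≠ 0 from hs).isUnit)
  refine ⟨Hull.ι M w * ↑u⁻¹, ?_⟩
  rw [eq_div_iff (IsFractionRing.to_map_ne_zero_of_mem_nonZeroDivisors hy), ← map_mul]
  congr 1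
  have h := congrArg (Hull.ι M) hw
  rw [map_mul, map_mul, ← hu, Hull.ι_map, Hull.ι_map, hx, hy'] at h
  calc Hull.ι M w * ↑u⁻¹ * y = ↑u⁻¹ * (y * Hull.ι M w) := by ring
    _ = ↑u⁻¹ * (↑u * x) := by rw [h]
    _ = x := Units.inv_mul_cancel_left _ _

/-- Normality descends along faithfully flat maps. -/
theorem isNormalDomain_of_faithfullyFlat (A B : Type u) [CommRing A] [CommRing B] [Algebra A B]
    [Module.FaithfullyFlat A B] [IsDomain B] [IsIntegrallyClosed B] :
    IsDomain A ∧ IsIntegrallyClosed A := by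
  have hinj := FaithfulSMul.algebraMap_injective A B
  have hA : IsDomain A := hinj.isDomain (algebraMap A B)
  refine ⟨hA, (isIntegrallyClosed_iff (FractionRing A)).mpr fun {z} hz ↦ ?_⟩
  obtain ⟨P, hP, hPz⟩ := hz
  obtain ⟨x, y, hy, rfl⟩ := IsFractionRing.div_surjective (A := A) z
  have hy0 : algebraMap A B y ≠ 0 :=
    fun h ↦ nonZeroDivisors.ne_zero hy ((map_eq_zero_iff _ hinj).mp h)
  let φ : FractionRing A →+* FractionRing B :=
    IsFractionRing.lift (g := (algebraMap B (FractionRing B)).comp (algebraMap A B))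
      ((IsFractionRing.injective B (FractionRing B)).comp hinj)
  have hφ : ∀ a, φ (algebraMap A (FractionRing A) a) = algebraMap B _ (algebraMap A B a) :=
    fun a ↦ IsFractionRing.lift_algebraMap _ a
  obtain ⟨b, hb⟩ := IsIntegrallyClosed.algebraMap_eq_of_integral (R := B)
    (x := φ (algebraMap A _ x / algebraMap A _ y)) ⟨P.map (algebraMap A B), hP.map _, by
      have := congrArg φ hPz
      rw [map_zero, hom_eval₂] at this
      rw [eval₂_map, ← this]
      congr 1
      exact RingHom.ext fun a ↦ (hφ a).symm⟩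
  rw [map_div₀, hφ, hφ, eq_div_iff ((map_ne_zero_iff _ (IsFractionRing.injective B _)).mpr hy0),
    ← map_mul] at hb
  have hb' := IsFractionRing.injective B (FractionRing B) hb
  have hmem : x ∈ Ideal.span {y} := by
    rw [← Ideal.comap_map_eq_self_of_faithfullyFlat (B := B) (Ideal.span {y}), Ideal.mem_comap,
      Ideal.map_span, Set.image_singleton]
    exact Ideal.mem_span_singleton'.mpr ⟨b, hb'⟩
  obtain ⟨a, ha⟩ := Ideal.mem_span_singleton'.mp hmem
  refine ⟨a, ?_⟩
  rw [eq_div_iff (IsFractionRing.to_map_ne_zero_of_mem_nonZeroDivisors hy), ← map_mul, ha]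

/-- Transfer of normality along a ring isomorphism. -/
theorem isNormalDomain_of_ringEquiv {A B : Type u} [CommRing A] [CommRing B] (e : A ≃+* B)
    (h : IsDomain A ∧ IsIntegrallyClosed A) : IsDomain B ∧ IsIntegrallyClosed B := by
  obtain ⟨h1, h2⟩ := h
  exact ⟨e.symm.toMulEquiv.isDomain, IsIntegrallyClosed.of_equiv e⟩

theorem IsHenselization.isNormalDomain_iff {R S : Type u} [CommRing R] [IsLocalRing R]
    [CommRing S] [IsLocalRing S] [Algebra R S] [IsLocalHom (algebraMap R S)]
    [_root_.Hensel.IsHenselization R S] :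
    (IsDomain R ∧ IsIntegrallyClosed R) ↔ (IsDomain S ∧ IsIntegrallyClosed S) := by
  refine ⟨fun ⟨_, _⟩ ↦ ?_, fun ⟨_, _⟩ ↦ ?_⟩
  · exact isNormalDomain_of_ringEquiv
      (IsHenselization.nonempty_hens_algEquiv (R := R) (S := S)).some.toRingEquiv
      (Hull.isNormalDomain (R := R) (C := IsLocalRing.ResidueField R))
  · have := IsHenselization.faithfullyFlat (R := R) (S := S)
    exact isNormalDomain_of_faithfullyFlat R S

theorem IsStrictHenselization.isNormalDomain_iff {R S : Type u} [CommRing R] [IsLocalRing R]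
    [CommRing S] [IsLocalRing S] [Algebra R S] [IsLocalHom (algebraMap R S)]
    [_root_.Hensel.IsStrictHenselization R S] :
    (IsDomain R ∧ IsIntegrallyClosed R) ↔ (IsDomain S ∧ IsIntegrallyClosed S) := by
  refine ⟨fun ⟨_, _⟩ ↦ ?_, fun ⟨_, _⟩ ↦ ?_⟩
  · exact isNormalDomain_of_ringEquiv
      (IsStrictHenselization.nonempty_strictHens_algEquiv (R := R) (S := S)).some.toRingEquiv
      (Hull.isNormalDomain (R := R) (C := SeparableClosure (IsLocalRing.ResidueField R)))
  · have := IsStrictHenselization.faithfullyFlat (R := R) (S := S)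
    exact isNormalDomain_of_faithfullyFlat R S

end GrothLib.Hensel
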