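import Groth.Agent.Lib.Hensel.LocalCriteria

/-!
# Splitting finite type algebras over henselian local rings, and the converse
-/

namespace GrothLib.Hensel

open IsLocalRing Polynomial
open scoped TensorProduct

universe u v

section Split

variable {R : Type u} [CommRing R] {S : Type v} [CommRing S] [Algebra R S]

/-- Only finitely many quasi-finite points lie over a given prime. -/
theorem finite_quasiFiniteAt_liesOver [Algebra.FiniteType R S] (p : Ideal R) [p.IsPrime] :
    {q : PrimeSpectrum S | q.asIdeal.LiesOver p ∧ Algebra.QuasiFiniteAt R q.asIdeal}.Finite := by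
  set e := PrimeSpectrum.preimageHomeomorphFiber R S ⟨p, ‹_›⟩
  have : IsNoetherianRing (p.Fiber S) := Algebra.FiniteType.isNoetherianRing p.ResidueField _
  let U : Set (PrimeSpectrum (p.Fiber S)) := {z | IsOpen {z}}
  have hdisc : IsDiscrete U := isDiscrete_iff_nhdsWithin.mpr fun z hz ↦ by
    refine le_antisymm ?_ (pure_le_nhdsWithin hz)
    rw [Filter.le_pure_iff]
    exact mem_nhdsWithin_of_mem_nhds ((show IsOpen {z} from hz).mem_nhds rfl)
  have hU : U.Finite :=
    (TopologicalSpace.NoetherianSpace.isCompact U).finite hdisc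
  refine (hU.image fun z ↦ (e.symm z).1).subset ?_
  rintro q ⟨hq, hqf⟩
  have hmem : q.comap (algebraMap R S) = (⟨p, ‹_›⟩ : PrimeSpectrum R) :=
    PrimeSpectrum.ext hq.over.symm
  refine ⟨e ⟨q, hmem⟩, ?_, by simp⟩
  show IsOpen {e ⟨q, hmem⟩}
  rw [← Set.image_singleton, e.isOpen_image]
  have h1 := (Algebra.quasiFiniteAt_iff_isOpen_singleton_fiber q).mp hqf
  rw [isOpen_induced_iff] at h1 ⊢
  obtain ⟨t, ht, hteq⟩ := h1
  refine ⟨t, ht, ?_⟩
  ext ⟨y, hy⟩
  have hy' : y ∈ PrimeSpectrum.comap (algebraMap R S) ⁻¹' {q.comap (algebraMap R S)} := by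
    rw [hmem]; exact hy
  have := Set.ext_iff.mp hteq ⟨y, hy'⟩
  simpa [Subtype.ext_iff] using this

theorem algebraMap_mem_of_mk_one_sub_eq {e : S} (q : Ideal (S ⧸ Ideal.span {1 - e})) [q.IsPrime] :
    e ∉ q.comap (Ideal.Quotient.mk _) := by
  rw [Ideal.mem_comap]
  have h1 : Ideal.Quotient.mk (Ideal.span {1 - e}) e = 1 := by
    rw [← map_one (Ideal.Quotient.mk _), Ideal.Quotient.eq, Ideal.mem_span_singleton]
    exact ⟨-1, by ring⟩
  rw [h1]
  exact q.one_notMem

/-- Quasi-finiteness can be checked on a direct factor. -/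
theorem quasiFiniteAt_of_quotient {J : Ideal S} {e : S} (he : IsIdempotentElem e)
    (hJ : J = Ideal.span {e}) (q : Ideal (S ⧸ J)) [q.IsPrime] [Algebra.QuasiFiniteAt R q] :
    Algebra.QuasiFiniteAt R (q.comap (Ideal.Quotient.mk J)) := by
  set q' := q.comap (Ideal.Quotient.mk J)
  let L := Localization.AtPrime q'
  have he1 : Ideal.Quotient.mk J e = 0 :=
    Ideal.Quotient.eq_zero_iff_mem.mpr (hJ ▸ Ideal.subset_span rfl)
  have hq' : 1 - e ∉ q' := by
    simp only [q', Ideal.mem_comap, map_sub, map_one, he1, sub_zero]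
    exact q.one_notMem
  have hzero : algebraMap S L e = 0 :=
    (IsLocalization.map_eq_zero_iff q'.primeCompl L e).mpr
      ⟨⟨1 - e, hq'⟩, by simpa [mul_comm] using he.mul_one_sub_self⟩
  let f : S ⧸ J →ₐ[R] L := Ideal.Quotient.liftₐ J (IsScalarTower.toAlgHom R S L) (by
    intro x hx
    obtain ⟨c, hc⟩ := Ideal.mem_span_singleton'.mp (hJ.le hx)
    show algebraMap S L x = 0
    rw [← hc, map_mul, hzero, mul_zero])
  have hf : ∀ s, f (Ideal.Quotient.mk J s) = algebraMap S L s := fun s ↦ rfl
  let g : Localization.AtPrime q →ₐ[R] L :=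
    IsLocalization.liftAlgHom (M := q.primeCompl) (f := f) (by
      rintro ⟨s, hs⟩
      obtain ⟨s, rfl⟩ := Ideal.Quotient.mk_surjective s
      exact (hf s).symm ▸ IsLocalization.map_units (M := q'.primeCompl) L ⟨s, hs⟩)
  refine .of_forall_exists_mul_mem_range g fun x ↦ ?_
  obtain ⟨a, ⟨s, hs⟩, rfl⟩ := IsLocalization.exists_mk'_eq q'.primeCompl x
  have hg : ∀ s, g (algebraMap _ _ (Ideal.Quotient.mk J s)) = algebraMap S L s := fun s ↦ by
    simp [g, hf]
  refine ⟨algebraMap _ _ (Ideal.Quotient.mk J s), ?_, algebraMap _ _ (Ideal.Quotient.mk J a), ?_⟩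
  · rw [hg]; exact IsLocalization.map_units (M := q'.primeCompl) L ⟨s, hs⟩
  · show g _ = _
    rw [hg, hg, IsLocalization.mk'_spec_mk]

variable [IsLocalRing R]

/-- A finite type algebra over a henselian local ring is finite times nowhere quasi-finite over
the closed point. -/
theorem exists_idem_finite_quasiFinite {R : Type u} [CommRing R] [HenselianLocalRing R]
    {S : Type v} [CommRing S] [Algebra R S] [Algebra.FiniteType R S] :
    ∃ e : S, IsIdempotentElem e ∧ Module.Finite R (S ⧸ Ideal.span ({1 - e} : Set S)) ∧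
      ∀ (q : Ideal (S ⧸ Ideal.span ({e} : Set S))) [q.IsPrime],
        q.LiesOver (maximalIdeal R) → ¬ Algebra.QuasiFiniteAt R q := by
  classical
  let T := {q : PrimeSpectrum S |
    q.asIdeal.LiesOver (maximalIdeal R) ∧ Algebra.QuasiFiniteAt R q.asIdeal}
  have : Fintype T := (finite_quasiFiniteAt_liesOver (R := R) (maximalIdeal R)).fintype
  have h1 : ∀ i : T, i.1.asIdeal.LiesOver (maximalIdeal R) := fun i ↦ i.2.1
  have h2 : ∀ i : T, Algebra.QuasiFiniteAt R i.1.asIdeal := fun i ↦ i.2.2
  obtain ⟨e, he, heq, hfin, -⟩ := exists_orthogonalIdempotents (R := R)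
    (fun i : T ↦ i.1.asIdeal) (fun i j h ↦ Subtype.ext (PrimeSpectrum.ext h))
  refine ⟨∑ i, e i, he.isIdempotentElem_sum, ?_, ?_⟩
  · set J := Ideal.span {1 - ∑ i, e i}
    set π : S →ₗ[R] S ⧸ J := (Ideal.Quotient.mkₐ R J).toLinearMap
    have hrange : ∀ i, (LinearMap.range (LinearMap.mulLeft R (e i))).FG := by
      intro i
      have := hfin i
      let ψ : (S ⧸ Ideal.span {1 - e i}) →ₗ[R] S :=
        Submodule.liftQ ((Ideal.span {1 - e i}).restrictScalars R) (LinearMap.mulLeft R (e i))
          (by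
            intro x hx
            obtain ⟨a, rfl⟩ := Ideal.mem_span_singleton'.mp hx
            simp [LinearMap.mem_ker, mul_left_comm _ a, (he.idem i).mul_one_sub_self])
      have : LinearMap.range (LinearMap.mulLeft R (e i)) = LinearMap.range ψ :=
        (Submodule.range_liftQ _ _ _).symm
      rw [this, LinearMap.range_eq_map]
      exact (Module.finite_def.mp inferInstance).map _
    have hfg : ((⨆ i, LinearMap.range (LinearMap.mulLeft R (e i))).map π).FG :=
      (Submodule.fg_iSup _ hrange).map _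
    refine ⟨?_⟩
    convert hfg
    rw [eq_comm, eq_top_iff]
    rintro x -
    obtain ⟨s, rfl⟩ := Ideal.Quotient.mk_surjective x
    refine ⟨∑ i, e i * s, Submodule.sum_mem _ fun i _ ↦
      Submodule.mem_iSup_of_mem i ⟨s, rfl⟩, ?_⟩
    show Ideal.Quotient.mk J _ = _
    rw [← Finset.sum_mul, Ideal.Quotient.eq, Ideal.mem_span_singleton]
    exact ⟨-s, by ring⟩
  · intro q _ hq hqf
    let E := ∑ i, e i
    have := quasiFiniteAt_of_quotient (R := R) (S := S) he.isIdempotentElem_sum rfl q
    have hover : (q.comap (Ideal.Quotient.mk (Ideal.span {E}))).LiesOver (maximalIdeal R) := by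
      constructor
      rw [Ideal.under_def, Ideal.comap_comap, ← Ideal.Quotient.algebraMap_eq,
        ← IsScalarTower.algebraMap_eq, ← Ideal.under_def]
      exact hq.over
    let i : T := ⟨⟨_, Ideal.IsPrime.comap (Ideal.Quotient.mk (Ideal.span {E})) (K := q)⟩, hover, this⟩
    refine heq i ?_
    have hmem : E ∈ q.comap (Ideal.Quotient.mk (Ideal.span {E})) := by
      rw [Ideal.mem_comap, Ideal.Quotient.eq_zero_iff_mem.mpr (Ideal.mem_span_singleton_self E)]
      exact q.zero_mem
    have := (q.comap (Ideal.Quotient.mk (Ideal.span {E}))).mul_mem_left (e i) hmem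
    rwa [he.mul_sum_of_mem (Finset.mem_univ i)] at this

/-- Over a henselian local ring the local ring of a quasi-finite point is finite. -/
theorem finite_localization_of_quasiFiniteAt {R : Type u} [CommRing R] [HenselianLocalRing R]
    {S : Type v} [CommRing S] [Algebra R S] [Algebra.FiniteType R S] (q : Ideal S) [q.IsPrime]
    [q.LiesOver (maximalIdeal R)] [Algebra.QuasiFiniteAt R q] :
    Module.Finite R (Localization.AtPrime q) := by
  obtain ⟨e, he, heq, hfin, huniq⟩ := exists_idem_of_quasiFiniteAt (R := R) q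
  set J := Ideal.span {1 - e}
  set L := Localization.AtPrime q
  let f : S ⧸ J →ₐ[R] L := Ideal.Quotient.liftₐ J (IsScalarTower.toAlgHom R S L) (by
    show J ≤ RingHom.ker _
    rw [Ideal.span_le, Set.singleton_subset_iff]
    exact (IsLocalization.map_eq_zero_iff q.primeCompl L _).mpr
      ⟨⟨e, heq⟩, he.mul_one_sub_self⟩)
  have hf : ∀ s, f (Ideal.Quotient.mk J s) = algebraMap S L s := fun s ↦ rfl
  refine Module.Finite.of_surjective f.toLinearMap fun x ↦ ?_
  obtain ⟨a, ⟨s, hs⟩, rfl⟩ := IsLocalization.exists_mk'_eq q.primeCompl x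
  have hu : IsUnit (Ideal.Quotient.mk J s) := by
    by_contra hu
    obtain ⟨M, hM, hmem⟩ := exists_max_ideal_of_mem_nonunits hu
    have hMo : M.LiesOver (maximalIdeal R) := (isMaximal_iff_liesOver M).mp hM
    have hover : (M.comap (Ideal.Quotient.mk J)).LiesOver (maximalIdeal R) := by
      constructor
      rw [Ideal.under_def, Ideal.comap_comap, ← Ideal.Quotient.algebraMap_eq,
        ← IsScalarTower.algebraMap_eq, ← Ideal.under_def]
      exact hMo.over
    have := huniq _ (hM.isPrime.comap _) hover (algebraMap_mem_of_mk_one_sub_eq (e := e) M)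
    exact hs (this ▸ hmem)
  refine ⟨Ideal.Quotient.mk J a * ↑hu.unit⁻¹, ?_⟩
  show f _ = _
  rw [eq_comm, IsLocalization.mk'_eq_iff_eq_mul, ← hf, ← hf, ← map_mul, mul_assoc,
    IsUnit.val_inv_mul, mul_one]

end Split

section Converse

variable {R : Type u} [CommRing R] [IsLocalRing R]

/-- If local rings at quasi-finite points are finite then `R` is henselian. -/
theorem henselianLocalRing_of_finite_localization
    (h : ∀ (S : Type u) [CommRing S] [Algebra R S] [Algebra.FiniteType R S] (q : Ideal S)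
      [q.IsPrime], q.LiesOver (maximalIdeal R) → Algebra.QuasiFiniteAt R q →
        Module.Finite R (Localization.AtPrime q)) :
    HenselianLocalRing R := by
  refine henselianLocalRing_of_retraction fun f hf a₀ h₁ h₂ ↦ ?_
  set P := pointPair f hf a₀
  let φ : P.Ring →ₐ[R] ResidueField R := P.lift _ (pointPair_hasMap f hf a₀ h₁ h₂)
  let q := RingHom.ker φ.toRingHom
  have : q.IsPrime := RingHom.ker_isPrime _
  have hover : q.LiesOver (maximalIdeal R) := ⟨by
    ext r
    rw [Ideal.under_def, Ideal.mem_comap]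
    show _ ↔ φ (algebraMap R P.Ring r) = 0
    rw [φ.commutes, ResidueField.algebraMap_eq, residue_eq_zero_iff]⟩
  let L := Localization.AtPrime q
  have : Algebra.QuasiFinite R P.Ring := inferInstance
  have hfin : Module.Finite R L := h P.Ring q hover inferInstance
  have : Module.Flat R L := Module.Flat.trans R P.Ring L
  have hbij : Function.Bijective (algebraMap R L) := by
    refine bijective_of_finite_flat fun x ↦ ?_
    obtain ⟨a, ⟨s, hs⟩, rfl⟩ := IsLocalization.exists_mk'_eq q.primeCompl x
    obtain ⟨b, hb⟩ := pointPair_surjective_mod f hf a₀ h₁ (Ideal.Quotient.mk _ a)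
    obtain ⟨c, hc⟩ := pointPair_surjective_mod f hf a₀ h₁ (Ideal.Quotient.mk _ s)
    set mP := (maximalIdeal R).map (algebraMap R P.Ring)
    set mL := (maximalIdeal R).map (algebraMap R L)
    have hmap : ∀ y ∈ mP, algebraMap P.Ring L y ∈ mL := fun y hy ↦ by
      have := Ideal.mem_map_of_mem (algebraMap P.Ring L) hy
      rwa [Ideal.map_map, ← IsScalarTower.algebraMap_eq] at this
    have hb' : algebraMap R P.Ring b - a ∈ mP := Ideal.Quotient.eq.mp hb
    have hc' : algebraMap R P.Ring c - s ∈ mP := Ideal.Quotient.eq.mp hc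
    have hcu : IsUnit c := by
      by_contra hcu
      refine hs ?_
      have hmq : mP ≤ q := Ideal.map_le_iff_le_comap.mpr (le_of_eq hover.over)
      simpa using q.sub_mem (hmq (Ideal.mem_map_of_mem _ ((mem_maximalIdeal c).mpr hcu))) (hmq hc')
    refine ⟨b * ↑hcu.unit⁻¹, ?_⟩
    have hspec := IsLocalization.mk'_spec L a (⟨s, hs⟩ : q.primeCompl)
    set x := IsLocalization.mk' L a (⟨s, hs⟩ : q.primeCompl)
    have key : x * algebraMap R L c - algebraMap R L b ∈ mL := by
      have e1 := mL.mul_mem_left x (hmap _ hc')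
      have e2 := hmap _ hb'
      simp only [map_sub, ← IsScalarTower.algebraMap_apply] at e1 e2
      have : x * algebraMap R L c - algebraMap R L b =
          x * (algebraMap R L c - algebraMap P.Ring L s) -
            (algebraMap R L b - algebraMap P.Ring L a) := by rw [← hspec]; ring
      rw [this]
      exact mL.sub_mem e1 e2
    have : x - algebraMap R L (b * ↑hcu.unit⁻¹) =
        (x * algebraMap R L c - algebraMap R L b) * algebraMap R L ↑hcu.unit⁻¹ := by
      rw [sub_mul, map_mul, mul_assoc, ← map_mul (algebraMap R L) c, IsUnit.mul_val_inv, map_one,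
        mul_one]
    rw [this]
    exact mL.mul_mem_right _ key
  exact ⟨((AlgEquiv.ofBijective (Algebra.ofId R L) hbij).symm.toAlgHom).comp
    (IsScalarTower.toAlgHom R P.Ring L)⟩

/-- If finite type algebras split off their quasi-finite part then `R` is henselian. -/
theorem henselianLocalRing_of_finiteType_split
    (h : ∀ (S : Type u) [CommRing S] [Algebra R S] [Algebra.FiniteType R S],
      ∃ e : S, IsIdempotentElem e ∧ Module.Finite R (S ⧸ Ideal.span ({1 - e} : Set S)) ∧
        ∀ (q : Ideal (S ⧸ Ideal.span ({e} : Set S))) [q.IsPrime],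
          q.LiesOver (maximalIdeal R) → ¬ Algebra.QuasiFiniteAt R q) :
    HenselianLocalRing R := by
  refine henselianLocalRing_of_retraction fun f hf a₀ h₁ h₂ ↦ ?_
  set P := pointPair f hf a₀
  let φ : P.Ring →ₐ[R] ResidueField R := P.lift _ (pointPair_hasMap f hf a₀ h₁ h₂)
  let q := RingHom.ker φ.toRingHom
  have : q.IsPrime := RingHom.ker_isPrime _
  obtain ⟨e, he, hfin, hnot⟩ := h P.Ring
  have heq : e ∉ q := by
    intro hmem
    set J := Ideal.span {e}
    have hJq : J ≤ q := Ideal.span_le.mpr (Set.singleton_subset_iff.mpr hmem)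
    let φ' : P.Ring ⧸ J →ₐ[R] ResidueField R := Ideal.Quotient.liftₐ J φ hJq
    have : (RingHom.ker φ'.toRingHom).IsPrime := RingHom.ker_isPrime _
    have hover : (RingHom.ker φ'.toRingHom).LiesOver (maximalIdeal R) := ⟨by
      ext r
      rw [Ideal.under_def, Ideal.mem_comap]
      show _ ↔ φ' (algebraMap R (P.Ring ⧸ J) r) = 0
      rw [φ'.commutes, ResidueField.algebraMap_eq, residue_eq_zero_iff]⟩
    exact hnot (RingHom.ker φ'.toRingHom) hover inferInstance
  set J := Ideal.span {1 - e}
  have hJq : J ≤ q := by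
    rw [Ideal.span_le, Set.singleton_subset_iff]
    refine (Ideal.IsPrime.mem_or_mem (I := q) (x := e) (y := 1 - e) ‹_› ?_).resolve_left heq
    rw [he.mul_one_sub_self]; exact q.zero_mem
  let φ' : P.Ring ⧸ J →ₐ[R] ResidueField R := Ideal.Quotient.liftₐ J φ hJq
  have : Nontrivial (P.Ring ⧸ J) := φ'.toRingHom.domain_nontrivial
  have : Module.Flat R (P.Ring ⧸ J) :=
    have : J.Pure := Ideal.Pure.of_isIdempotentElem ⟨{1 - e}, by simp [J]⟩ (by
      show J * J = J
      rw [Ideal.span_singleton_mul_span_singleton, he.one_sub.eq])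
    Module.Flat.trans R P.Ring (P.Ring ⧸ J)
  have hbij : Function.Bijective (algebraMap R (P.Ring ⧸ J)) := by
    refine bijective_of_finite_flat fun x ↦ ?_
    obtain ⟨a, rfl⟩ := Ideal.Quotient.mk_surjective x
    obtain ⟨b, hb⟩ := pointPair_surjective_mod f hf a₀ h₁ (Ideal.Quotient.mk _ a)
    refine ⟨b, ?_⟩
    have hb' := Ideal.mem_map_of_mem (Ideal.Quotient.mk J)
      ((Ideal.neg_mem_iff _).mpr (Ideal.Quotient.eq.mp hb))
    rw [Ideal.map_map, neg_sub, map_sub] at hb'
    exact hb'
  exact ⟨((AlgEquiv.ofBijective (Algebra.ofId R (P.Ring ⧸ J)) hbij).symm.toAlgHom).comp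
    (Ideal.Quotient.mkₐ R J)⟩

end Converse

/-- Integral domains have connected zero loci over henselian pairs. -/
theorem connectedSpace_zeroLocus {A : Type u} [CommRing A] (I : Ideal A) [HenselianRing A I]
    (p : Ideal A) [p.IsPrime] : ConnectedSpace (PrimeSpectrum (A ⧸ p ⊔ I)) := by
  have hne : p ⊔ I ≠ ⊤ := fun h ↦
    Ideal.IsPrime.ne_top ‹_› (eq_top_of_sup_eq_top (I := I) HenselianRing.jac h)
  have : Nontrivial (A ⧸ p ⊔ I) := Ideal.Quotient.nontrivial_iff.mpr hne
  rw [connectedSpace_iff_clopen]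
  refine ⟨inferInstance, fun s hs ↦ ?_⟩
  obtain ⟨e, he, rfl⟩ := PrimeSpectrum.exists_idempotent_basicOpen_eq_of_isClopen hs
  obtain ⟨b, rfl⟩ := Ideal.Quotient.mk_surjective e
  set IB := I.map (algebraMap A (A ⧸ p))
  have hker : IB.comap (Ideal.Quotient.mk p) = p ⊔ I := by
    rw [show IB = I.map (Ideal.Quotient.mk p) from rfl,
      Ideal.comap_map_of_surjective' _ Ideal.Quotient.mk_surjective, Ideal.mk_ker, sup_comm]
  have hb : Ideal.Quotient.mk p b * Ideal.Quotient.mk p b - Ideal.Quotient.mk p b ∈ IB := by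
    rw [← map_mul, ← map_sub, ← Ideal.mem_comap, hker, ← Ideal.Quotient.eq, map_mul]
    exact he
  obtain ⟨e', he', heb⟩ := exists_isIdempotentElem_lift (I := I) hb
  have hval : ∀ c : A, Ideal.Quotient.mk p c = e' →
      Ideal.Quotient.mk (p ⊔ I) b = Ideal.Quotient.mk (p ⊔ I) c := by
    intro c hc
    rw [eq_comm, Ideal.Quotient.eq, ← hker, Ideal.mem_comap, map_sub, hc]
    exact heb
  rcases IsIdempotentElem.iff_eq_zero_or_one.mp he' with h0 | h1
  · left
    rw [hval 0 (by rw [map_zero, h0]), map_zero]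
    simp
  · right
    rw [hval 1 (by rw [map_one, h1]), map_one]
    simp

end GrothLib.Hensel
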