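import Groth.Agent.Lib.Hensel.TensorPoint
import Groth.Agent.Lib.Hensel.LocalSplit
import Groth.Agent.Lib.Hensel.Properties
import Groth.Agent.Lib.Hensel.Local
import Mathlib.FieldTheory.PurelyInseparable.Basic
import Mathlib.RingTheory.EssentialFiniteness
import Mathlib.RingTheory.TensorProduct.Finite

/-! # Henselian rings of quasi-finite points are integral over the henselian ring of the base -/

set_option autoImplicit false
set_option backward.isDefEq.respectTransparency false

universe u

open IsLocalRing TensorProduct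

namespace GrothLib.Hensel

theorem henselianLocalRing_of_isIntegral_isLocalHom {R T : Type u} [CommRing R]
    [HenselianLocalRing R] [CommRing T] [IsLocalRing T] [Algebra R T] [Algebra.IsIntegral R T]
    [IsLocalHom (algebraMap R T)] : HenselianLocalRing T := by
  haveI := henselianRing_of_isIntegral (maximalIdeal R) T
  have hle : (maximalIdeal R).map (algebraMap R T) ≤ maximalIdeal T :=
    ((local_hom_TFAE (algebraMap R T)).out 0 2 rfl rfl).mp inferInstance
  have hrad : ((maximalIdeal R).map (algebraMap R T)).radical = (maximalIdeal T).radical := by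
    refine le_antisymm (Ideal.radical_mono hle) ?_
    rw [(maximalIdeal.isMaximal T).isPrime.radical, Ideal.radical_eq_sInf]
    refine le_sInf fun P ⟨hP, hPp⟩ ↦ ?_
    have : P.LiesOver (maximalIdeal R) :=
      ⟨(maximalIdeal.isMaximal R).eq_of_le (Ideal.comap_ne_top _ hPp.ne_top)
        (Ideal.map_le_iff_le_comap.mp hP)⟩
    exact (eq_maximalIdeal ((isMaximal_iff_liesOver P).mpr this)).ge
  exact henselianLocalRing_of_henselianRing ((henselianRing_iff_of_radical_eq hrad).mp inferInstance)

theorem isSepClosure_of_surjective {k K : Type*} [Field k] [Field K] {_ : Algebra k K} [IsSepClosed K]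
    (h : Function.Surjective (algebraMap k K)) : IsSepClosure k K := ⟨inferInstance, ⟨fun x ↦ by
  obtain ⟨y, rfl⟩ := h x
  exact isSeparable_algebraMap y⟩⟩

theorem finite_of_isIntegral_of_essFiniteType {R T : Type u} [CommRing R] [CommRing T]
    [Algebra R T] [Algebra.IsIntegral R T] [Algebra.EssFiniteType R T] : Module.Finite R T := by
  let T₀ := Algebra.EssFiniteType.subalgebra R T
  have htop : T₀ = ⊤ := by
    refine eq_top_iff.mpr fun x _ ↦ ?_
    obtain ⟨⟨a, s⟩, hx⟩ := IsLocalization.surj (Algebra.EssFiniteType.submonoid R T) x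
    obtain ⟨v, hv⟩ : IsUnit ((s : T₀) : T) := s.2
    haveI : Algebra.IsIntegral R T₀ :=
      ⟨fun y ↦ (isIntegral_algHom_iff T₀.val Subtype.val_injective).mp
        (Algebra.IsIntegral.isIntegral (R := R) (y : T))⟩
    have hinv : IsUnit (s : T₀) := by
      haveI : Algebra.IsIntegral T₀ T := Algebra.IsIntegral.tower_top R
      haveI : IsLocalHom (algebraMap T₀ T) := RingHom.IsIntegral.isLocalHom
        (algebraMap_isIntegral_iff.mpr inferInstance) Subtype.val_injective
      exact isUnit_of_map_unit (algebraMap T₀ T) (s : T₀) ⟨v, hv⟩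
    obtain ⟨w, hw⟩ := hinv
    have : x = ((a * (↑w⁻¹ : T₀) : T₀) : T) := by
      have h1 : x * ((w : T₀) : T) = (a : T) := by rw [hw]; exact hx
      rw [Subalgebra.coe_mul, ← h1, mul_assoc, ← Subalgebra.coe_mul, Units.mul_inv,
        Subalgebra.coe_one, mul_one]
    rw [this]
    exact SetLike.coe_mem _
  haveI : Algebra.FiniteType R T :=
    Algebra.FiniteType.equiv (inferInstance : Algebra.FiniteType R T₀)
      ((Subalgebra.equivOfEq _ _ htop).trans Subalgebra.topEquiv)
  exact Algebra.IsIntegral.finite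

section

variable {A B Ah : Type u} [CommRing A] [IsLocalRing A] [CommRing B] [IsLocalRing B]
  [Algebra A B] [CommRing Ah] [HenselianLocalRing Ah] [Algebra A Ah]

/-- If the algebra is a union of quasi-finite algebras then so is its base change, hence local
rings of the base change at points over the closed point are integral. -/
theorem isIntegral_localization_tensor
    (H : ∀ s : Finset B, ∃ B₀ : Subalgebra A B, (↑s : Set B) ⊆ ↑B₀ ∧
      Algebra.FiniteType A ↥B₀ ∧ Algebra.QuasiFinite A ↥B₀)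
    (Q : Ideal (Ah ⊗[A] B)) [Q.IsPrime] [Q.LiesOver (maximalIdeal Ah)] :
    Algebra.IsIntegral Ah (Localization.AtPrime Q) := by
  classical
  refine ⟨fun y ↦ ?_⟩
  obtain ⟨d, e, rfl⟩ := IsLocalization.exists_mk'_eq Q.primeCompl y
  obtain ⟨Sd, hSd⟩ := TensorProduct.exists_finset d
  obtain ⟨Se, hSe⟩ := TensorProduct.exists_finset (e : Ah ⊗[A] B)
  obtain ⟨B₀, hB₀, _, _⟩ := H (Sd.image Prod.snd ∪ Se.image Prod.snd)
  let D₀ := Ah ⊗[A] B₀
  let i : D₀ →ₐ[Ah] Ah ⊗[A] B := Algebra.TensorProduct.map (AlgHom.id Ah Ah) B₀.val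
  have hmem : ∀ (z : Ah ⊗[A] B) (t : Finset (Ah × B)), (↑(t.image Prod.snd) : Set B) ⊆ B₀ →
      z = ∑ x ∈ t, x.1 ⊗ₜ[A] x.2 → z ∈ i.range := fun z t ht hz ↦ by
    rw [hz]
    refine Subalgebra.sum_mem _ fun x hx ↦ ?_
    exact ⟨x.1 ⊗ₜ ⟨x.2, ht (Finset.mem_image_of_mem _ hx)⟩, rfl⟩
  obtain ⟨d₀, rfl⟩ := hmem d Sd ((Finset.coe_subset.mpr Finset.subset_union_left).trans hB₀) hSd
  obtain ⟨e₀, he₀⟩ := hmem e Se ((Finset.coe_subset.mpr Finset.subset_union_right).trans hB₀) hSe
  let Q₀ : Ideal D₀ := Q.comap i.toRingHom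
  haveI : Q₀.LiesOver (maximalIdeal Ah) := ⟨by
    ext a
    show a ∈ maximalIdeal Ah ↔ i (algebraMap Ah D₀ a) ∈ Q
    rw [AlgHom.commutes, Ideal.mem_of_liesOver Q (maximalIdeal Ah)]⟩
  haveI : Module.Finite Ah (Localization.AtPrime Q₀) := finite_localization_of_quasiFiniteAt Q₀
  haveI : Algebra.IsIntegral Ah (Localization.AtPrime Q₀) := Algebra.IsIntegral.of_finite _ _
  let l : Localization.AtPrime Q₀ →ₐ[Ah] Localization.AtPrime Q :=
    IsLocalization.liftAlgHom (M := Q₀.primeCompl)
      (f := (IsScalarTower.toAlgHom Ah (Ah ⊗[A] B) (Localization.AtPrime Q)).comp i)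
      fun s ↦ IsLocalization.map_units _ (⟨i s, s.2⟩ : Q.primeCompl)
  have hl : ∀ z, l (algebraMap D₀ _ z) = algebraMap (Ah ⊗[A] B) (Localization.AtPrime Q) (i z) :=
    fun z ↦ IsLocalization.lift_eq _ z
  have he : e₀ ∈ Q₀.primeCompl := fun h ↦ e.2 (by rw [← he₀]; exact h)
  convert (Algebra.IsIntegral.isIntegral (R := Ah)
    (IsLocalization.mk' (Localization.AtPrime Q₀) d₀ ⟨e₀, he⟩)).map l using 1
  refine (IsLocalization.mk'_eq_iff_eq_mul.mpr ?_)
  rw [← he₀]
  show algebraMap (Ah ⊗[A] B) _ (i d₀) = _ * algebraMap (Ah ⊗[A] B) _ (i e₀)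
  rw [← hl, ← hl, ← map_mul]
  exact congrArg l (IsLocalization.mk'_spec _ d₀ (⟨e₀, he⟩ : Q₀.primeCompl)).symm

end

section Tensor

variable {A B Ah Bh : Type u} [CommRing A] [IsLocalRing A] [CommRing B] [IsLocalRing B]
  [Algebra A B] [CommRing Ah] [IsLocalRing Ah] [CommRing Bh] [IsLocalRing Bh]
  [Algebra A Ah] [IsLocalHom (algebraMap A Ah)] [Algebra B Bh] [IsLocalHom (algebraMap B Bh)]
  [Algebra A Bh] [IsScalarTower A B Bh] [Algebra Ah Bh] [IsScalarTower A Ah Bh]
  [IsLocalHom (algebraMap Ah Bh)]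
  (H : ∀ s : Finset B, ∃ B₀ : Subalgebra A B, (↑s : Set B) ⊆ ↑B₀ ∧
    Algebra.FiniteType A ↥B₀ ∧ Algebra.QuasiFinite A ↥B₀)

/-- The canonical map from the tensor product. -/
noncomputable def tensorToHens : Ah ⊗[A] B →ₐ[Ah] Bh :=
  Algebra.TensorProduct.lift (Algebra.ofId Ah Bh) (IsScalarTower.toAlgHom A B Bh)
    fun _ _ ↦ Commute.all _ _

variable (A B Ah Bh) in
/-- The point of the tensor product. -/
noncomputable abbrev tensorPoint : Ideal (Ah ⊗[A] B) :=
  (maximalIdeal Bh).comap (tensorToHens (A := A) (B := B) (Ah := Ah) (Bh := Bh)).toRingHom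

instance : (tensorPoint A B Ah Bh).LiesOver (maximalIdeal Ah) := ⟨by
  ext a
  show _ ↔ tensorToHens (algebraMap Ah (Ah ⊗[A] B) a) ∈ maximalIdeal Bh
  rw [AlgHom.commutes]
  exact (not_congr (isUnit_map_iff (algebraMap Ah Bh) a)).symm⟩

theorem tensorPoint_data :
    ∃ (_ : Algebra (Localization.AtPrime (tensorPoint A B Ah Bh)) Bh)
      (_ : IsLocalHom (algebraMap (Localization.AtPrime (tensorPoint A B Ah Bh)) Bh))
      (_ : IsScalarTower Ah (Localization.AtPrime (tensorPoint A B Ah Bh)) Bh)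
      (_ : IsLocalHom (algebraMap Ah (Localization.AtPrime (tensorPoint A B Ah Bh)))),
      (∀ [_root_.Hensel.IsHenselization A Ah] [_root_.Hensel.IsHenselization B Bh],
        _root_.Hensel.IsHenselization (Localization.AtPrime (tensorPoint A B Ah Bh)) Bh) ∧
      (∀ [_root_.Hensel.IsStrictHenselization A Ah] [_root_.Hensel.IsStrictHenselization B Bh],
        _root_.Hensel.IsStrictHenselization (Localization.AtPrime (tensorPoint A B Ah Bh)) Bh) := by
  set Q := tensorPoint A B Ah Bh
  let D := Localization.AtPrime Q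
  let φ : Ah ⊗[A] B →ₐ[Ah] Bh := tensorToHens
  have hφ : ∀ d : Q.primeCompl, IsUnit (φ.toRingHom d) := fun d ↦ notMem_maximalIdeal.mp d.2
  letI : Algebra D Bh := (IsLocalization.lift hφ).toAlgebra
  have hψ : ∀ d, algebraMap D Bh (algebraMap (Ah ⊗[A] B) D d) = φ d := fun d ↦
    IsLocalization.lift_eq hφ d
  haveI : IsScalarTower Ah D Bh := .of_algebraMap_eq fun a ↦ by
    rw [IsScalarTower.algebraMap_apply Ah (Ah ⊗[A] B) D, hψ, AlgHom.commutes]
  haveI : IsLocalHom (algebraMap D Bh) := ⟨fun z hz ↦ by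
    obtain ⟨d, s, rfl⟩ := IsLocalization.exists_mk'_eq Q.primeCompl z
    rw [IsLocalization.AtPrime.isUnit_mk'_iff D Q d s]
    show d ∉ Q
    refine fun hd ↦ hd ?_
    have h := hz.mul (((IsLocalization.map_units D s)).map (algebraMap D Bh))
    rw [← map_mul, IsLocalization.mk'_spec, hψ] at h
    exact h⟩
  haveI : IsLocalHom (algebraMap Ah D) := ⟨fun a ha ↦ isUnit_of_map_unit (algebraMap Ah Bh) a
    (by rw [IsScalarTower.algebraMap_apply Ah D Bh]; exact ha.map _)⟩
  let k : B →+* D := (algebraMap (Ah ⊗[A] B) D).comp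
    (Algebra.TensorProduct.includeRight : B →ₐ[A] Ah ⊗[A] B).toRingHom
  letI : Algebra B D := k.toAlgebra
  haveI : IsScalarTower B D Bh := .of_algebraMap_eq fun b ↦ by
    refine Eq.trans ?_ (hψ _).symm
    simp [φ, tensorToHens]
  haveI : IsLocalHom (algebraMap B D) := ⟨fun b hb ↦ isUnit_of_map_unit (algebraMap B Bh) b
    (by rw [IsScalarTower.algebraMap_apply B D Bh]; exact hb.map _)⟩
  have hj : ∀ a : A, algebraMap Ah D (algebraMap A Ah a) = algebraMap B D (algebraMap A B a) :=
    fun a ↦ by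
      rw [IsScalarTower.algebraMap_apply Ah (Ah ⊗[A] B) D]
      exact congrArg _ (Algebra.TensorProduct.tmul_one_eq_one_tmul a)
  have hgen : ∀ (T : Type u) [CommRing T] (g₁ g₂ : D →+* T),
      g₁.comp (algebraMap Ah D) = g₂.comp (algebraMap Ah D) →
      g₁.comp (algebraMap B D) = g₂.comp (algebraMap B D) → g₁ = g₂ := fun T _ g₁ g₂ h1 h2 ↦
    IsLocalization.ringHom_ext Q.primeCompl (RingHom.ext fun d ↦ by
      induction d using TensorProduct.induction_on with
      | zero => simp
      | add a b ha hb => rw [map_add, ha, hb, map_add]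
      | tmul a b =>
        rw [show a ⊗ₜ[A] b = algebraMap Ah (Ah ⊗[A] B) a * (1 ⊗ₜ[A] b) by simp]
        simp only [RingHom.comp_apply, map_mul, ← IsScalarTower.algebraMap_apply]
        exact congrArg₂ (· * ·) (RingHom.congr_fun h1 a) (RingHom.congr_fun h2 b))
  exact ⟨inferInstance, inferInstance, inferInstance, inferInstance,
    isHenselization_of_generated (algebraMap Ah D) hj hgen,
    isStrictHenselization_of_generated (algebraMap Ah D) hj hgen⟩

include H in
theorem isIntegral_and_finite_of_isStrictHenselization [hA : _root_.Hensel.IsStrictHenselization A Ah]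
    [hB : _root_.Hensel.IsStrictHenselization B Bh] :
    Algebra.IsIntegral Ah Bh ∧ (Algebra.EssFiniteType A B → Module.Finite Ah Bh) ∧
      IsPurelyInseparable (ResidueField Ah) (ResidueField Bh) := by
  haveI := hA.henselian
  obtain ⟨i₁, i₂, i₃, i₄, -, hs⟩ := tensorPoint_data (A := A) (B := B) (Ah := Ah) (Bh := Bh)
  set D := Localization.AtPrime (tensorPoint A B Ah Bh)
  haveI : _root_.Hensel.IsStrictHenselization D Bh := hs
  haveI : Algebra.IsIntegral Ah D := isIntegral_localization_tensor H _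
  haveI : HenselianLocalRing D := henselianLocalRing_of_isIntegral_isLocalHom (R := Ah)
  haveI : IsSepClosed (ResidueField Ah) := hA.isSepClosure.sep_closed
  haveI : Algebra.IsAlgebraic (ResidueField Ah) (ResidueField D) := by
    haveI : Algebra.IsIntegral Ah (ResidueField D) := Algebra.IsIntegral.of_surjective
      (IsScalarTower.toAlgHom Ah D (ResidueField D)) residue_surjective
    haveI : Algebra.IsIntegral (ResidueField Ah) (ResidueField D) := Algebra.IsIntegral.tower_top Ah
    infer_instance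
  haveI : IsSepClosed (ResidueField D) := Algebra.IsAlgebraic.isSepClosed (F := ResidueField Ah)
  haveI : IsLocalHom (algebraMap D D) := ⟨fun x hx ↦ hx⟩
  haveI : _root_.Hensel.IsStrictHenselization D D :=
    ⟨inferInstance, isSepClosure_of_surjective fun x ↦ by
        obtain ⟨a, rfl⟩ := residue_surjective x
        exact ⟨residue D a, rfl⟩, fun T _ _ f hf τ hτ ↦
      ⟨f, ⟨RingHom.ext fun _ ↦ rfl, fun x ↦ (RingHom.congr_fun hτ (residue D x)).symm⟩,
        fun g hg ↦ RingHom.ext fun x ↦ RingHom.congr_fun hg.1 x⟩⟩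
  obtain ⟨e⟩ := IsStrictHenselization.nonempty_algEquiv (R := D) (S := D) (S' := Bh)
  let eA : D ≃ₐ[Ah] Bh := e.restrictScalars Ah
  haveI hint : Algebra.IsIntegral Ah Bh :=
    Algebra.IsIntegral.of_surjective eA.toAlgHom eA.surjective
  refine ⟨hint, fun hE ↦ ?_, ?_⟩
  · haveI := hE
    haveI : Algebra.EssFiniteType Ah Bh := (Algebra.EssFiniteType.iff_of_algEquiv eA).mp inferInstance
    exact finite_of_isIntegral_of_essFiniteType
  · haveI : Algebra.IsIntegral Ah (ResidueField Bh) := Algebra.IsIntegral.of_surjective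
      (IsScalarTower.toAlgHom Ah Bh (ResidueField Bh)) residue_surjective
    haveI : Algebra.IsIntegral (ResidueField Ah) (ResidueField Bh) := Algebra.IsIntegral.tower_top Ah
    infer_instance

include H in
theorem finite_of_isHenselization [hA : _root_.Hensel.IsHenselization A Ah]
    [hB : _root_.Hensel.IsHenselization B Bh] [Algebra.EssFiniteType A B] : Module.Finite Ah Bh := by
  haveI := hA.henselian
  obtain ⟨i₁, i₂, i₃, i₄, hs, -⟩ := tensorPoint_data (A := A) (B := B) (Ah := Ah) (Bh := Bh)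
  set D := Localization.AtPrime (tensorPoint A B Ah Bh)
  haveI : _root_.Hensel.IsHenselization D Bh := hs
  haveI : Algebra.IsIntegral Ah D := isIntegral_localization_tensor H _
  haveI : HenselianLocalRing D := henselianLocalRing_of_isIntegral_isLocalHom (R := Ah)
  haveI : IsLocalHom (algebraMap D D) := ⟨fun x hx ↦ hx⟩
  haveI : _root_.Hensel.IsHenselization D D :=
    ⟨inferInstance, fun T _ _ f _ ↦ ⟨f, RingHom.ext fun _ ↦ rfl, fun g hg ↦ hg⟩⟩
  obtain ⟨e⟩ := IsHenselization.nonempty_algEquiv (R := D) (S := D) (S' := Bh)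
  haveI : Module.Finite Ah D := finite_of_isIntegral_of_essFiniteType
  exact Module.Finite.equiv (e.restrictScalars Ah).toLinearEquiv

end Tensor

end GrothLib.Hensel
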