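import Groth.Agent.Lib.Hensel.Branches
import Mathlib.FieldTheory.PurelyInseparable.Basic

/-!
# One branch means unibranch
-/

namespace GrothLib.Hensel

open IsLocalRing

universe u

theorem card_eq_one_iff {α : Type*} : ENat.card α = 1 ↔ Subsingleton α ∧ Nonempty α :=
  ⟨fun h ↦ ⟨(ENat.card_le_one_iff_subsingleton α).mp h.le,
    (ENat.one_le_card_iff_nonempty α).mp h.ge⟩, fun ⟨h, h'⟩ ↦ le_antisymm
    ((ENat.card_le_one_iff_subsingleton α).mpr h) ((ENat.one_le_card_iff_nonempty α).mpr h')⟩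

variable (A : Type u) [CommRing A]

theorem finite_minimalPrimes_of_isDomain_red (h : IsDomain (CAlg2.red A)) :
    (minimalPrimes A).Finite := by
  have hp : (nilradical A).IsPrime := Ideal.Quotient.isDomain_iff_prime _ |>.mp h
  refine (Set.finite_singleton (nilradical A)).subset fun p hp' ↦ ?_
  have := hp'.1.1
  exact le_antisymm (hp'.2 ⟨hp, bot_le⟩ (nilradical_le_prime p)) (nilradical_le_prime p)

theorem isDomain_red_of_isLocalRing_normRed (hfin : (minimalPrimes A).Finite)
    [IsLocalRing (CAlg2.normRed A)] : IsDomain (CAlg2.red A) := by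
  have := isReduced_red A
  have hK := absFlat_fractionRing _ (finite_minimalPrimes_red A hfin)
  have hnt : Nontrivial (FractionRing (CAlg2.red A)) := (normVal_injective A).nontrivial
  have : NoZeroDivisors (FractionRing (CAlg2.red A)) := by
    refine ⟨fun {x y} hxy ↦ ?_⟩
    obtain ⟨b, hb⟩ := hK x
    have hid : IsIdempotentElem (x * b) := by
      show _ * _ = _
      linear_combination b * hb
    obtain ⟨e, he⟩ := exists_normVal_eq A (x * b) ⟨Polynomial.X * (Polynomial.X - 1),
      Polynomial.monic_X.mul (Polynomial.monic_X_sub_C 1), by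
      rw [← Polynomial.aeval_def, map_mul, map_sub, Polynomial.aeval_X, map_one, mul_sub, hid.eq,
        mul_one, sub_self]⟩
    have hee : IsIdempotentElem e := normVal_injective A (by rw [map_mul, he]; exact hid.eq)
    rcases IsLocalRing.isUnit_or_isUnit_one_sub_self e with h | h
    · rw [(IsIdempotentElem.iff_eq_one_of_isUnit h).mp hee, map_one] at he
      exact Or.inr (by linear_combination y * he + b * hxy)
    · have h1 := (IsIdempotentElem.iff_eq_one_of_isUnit h).mp hee.one_sub
      rw [sub_eq_self] at h1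
      rw [h1, map_zero] at he
      exact Or.inl (by linear_combination -hb - x * he)
  have : IsDomain (FractionRing (CAlg2.red A)) := NoZeroDivisors.to_isDomain _
  exact (IsFractionRing.injective (CAlg2.red A) (FractionRing (CAlg2.red A))).isDomain
    (algebraMap _ _)

variable [IsLocalRing A]

theorem numBranches_eq_one_iff : Brnch.numBranches A = 1 ↔ CAlg2.IsUnibranch A := by
  rw [Brnch.numBranches]
  constructor
  · intro h
    split_ifs at h with hfin
    · obtain ⟨hs, ⟨m⟩⟩ := card_eq_one_iff.mp h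
      have : IsLocalRing (CAlg2.normRed A) := IsLocalRing.of_unique_max_ideal
        ⟨m.asIdeal, m.isMaximal, fun J hJ ↦
          congrArg MaximalSpectrum.asIdeal (Subsingleton.elim (⟨J, hJ⟩ : MaximalSpectrum _) m)⟩
      exact ⟨isDomain_red_of_isLocalRing_normRed A hfin, this⟩
    · exact absurd h (by simp)
  · rintro ⟨hd, hl⟩
    rw [if_pos (finite_minimalPrimes_of_isDomain_red A hd)]
    exact card_eq_one_iff.mpr ⟨⟨fun m n ↦ MaximalSpectrum.ext
      ((eq_maximalIdeal m.isMaximal).trans (eq_maximalIdeal n.isMaximal).symm)⟩,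
      ⟨⟨maximalIdeal _, maximalIdeal.isMaximal _⟩⟩⟩

theorem subsingleton_emb_iff (m : MaximalSpectrum (CAlg2.normRed A)) :
    Nonempty (Brnch.Emb A m) ∧
    (Subsingleton (Brnch.Emb A m) ↔ ∀ x : CAlg2.normRed A ⧸ m.asIdeal, ∃ n : ℕ,
      x ^ (ringExpChar (CAlg2.normRed A ⧸ m.asIdeal)) ^ n ∈ (Brnch.toResidue A m).range) := by
  have hm := m.isMaximal
  have hker : ∀ a, a ∈ maximalIdeal A → Brnch.toResidue A m a = 0 := fun a ha ↦ by
    rw [← eq_maximalIdeal (Ideal.isMaximal_comap_of_isIntegral_of_isMaximal (R := A) m.asIdeal)] at ha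
    exact Ideal.Quotient.eq_zero_iff_mem.mpr ha
  let : Field (CAlg2.normRed A ⧸ m.asIdeal) := Ideal.Quotient.field _
  let g : ResidueField A →+* CAlg2.normRed A ⧸ m.asIdeal := Ideal.Quotient.lift _ _ hker
  let : Algebra (ResidueField A) (CAlg2.normRed A ⧸ m.asIdeal) := g.toAlgebra
  have hg : ∀ a, algebraMap (ResidueField A) (CAlg2.normRed A ⧸ m.asIdeal) (residue A a) =
      Brnch.toResidue A m a := fun a ↦ rfl
  have hrange : (algebraMap (ResidueField A) (CAlg2.normRed A ⧸ m.asIdeal)).range =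
      (Brnch.toResidue A m).range := by
    ext x
    exact ⟨fun ⟨r, hr⟩ ↦ by
      obtain ⟨a, rfl⟩ := residue_surjective r; exact ⟨a, hr⟩,
      fun ⟨a, ha⟩ ↦ ⟨residue A a, ha⟩⟩
  have : IsScalarTower A (ResidueField A) (CAlg2.normRed A ⧸ m.asIdeal) :=
    IsScalarTower.of_algebraMap_eq fun a ↦ rfl
  have : Algebra.IsIntegral A (CAlg2.normRed A ⧸ m.asIdeal) := Algebra.IsIntegral.of_surjective
    (Ideal.Quotient.mkₐ A m.asIdeal) Ideal.Quotient.mk_surjective
  have : Algebra.IsIntegral (ResidueField A) (CAlg2.normRed A ⧸ m.asIdeal) :=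
    Algebra.IsIntegral.tower_top A
  let E : Brnch.Emb A m ≃ (CAlg2.normRed A ⧸ m.asIdeal →ₐ[ResidueField A]
      AlgebraicClosure (ResidueField A)) :=
    { toFun := fun σ ↦
        { toRingHom := σ.1
          commutes' := fun r ↦ by
            obtain ⟨a, rfl⟩ := residue_surjective r
            exact RingHom.congr_fun σ.2 a }
      invFun := fun σ ↦ ⟨σ.toRingHom, RingHom.ext fun a ↦ σ.commutes (residue A a)⟩
      left_inv := fun σ ↦ rfl
      right_inv := fun σ ↦ rfl }
  have hne : Nonempty (Brnch.Emb A m) := ⟨E.symm IsAlgClosed.lift⟩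
  refine ⟨hne, ?_⟩
  have : ExpChar (ResidueField A) (ringExpChar (CAlg2.normRed A ⧸ m.asIdeal)) :=
    RingHom.expChar (algebraMap (ResidueField A) (CAlg2.normRed A ⧸ m.asIdeal))
      (algebraMap (ResidueField A) (CAlg2.normRed A ⧸ m.asIdeal)).injective _
  rw [← hrange, ← isPurelyInseparable_iff_pow_mem (ResidueField A)
      (ringExpChar (CAlg2.normRed A ⧸ m.asIdeal)),
    isPurelyInseparable_iff_finSepDegree_eq_one,
    Field.finSepDegree_eq_of_isAlgClosed (ResidueField A) _ (AlgebraicClosure (ResidueField A)),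
    Nat.card_eq_one_iff_unique,
    and_iff_left (⟨E hne.some⟩ : Nonempty _)]
  exact ⟨fun h ↦ E.symm.subsingleton, fun h ↦ E.subsingleton⟩

theorem numGeomBranches_eq_one_iff :
    Brnch.numGeomBranches A = 1 ↔ CAlg2.IsGeomUnibranch A := by
  rw [Brnch.numGeomBranches]
  constructor
  · intro h
    split_ifs at h with hfin
    · obtain ⟨hs, ⟨⟨m, σ⟩⟩⟩ := card_eq_one_iff.mp h
      have huni : ∀ n : MaximalSpectrum (CAlg2.normRed A), n = m := fun n ↦
        congrArg Sigma.fst (Subsingleton.elim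
          (⟨n, (subsingleton_emb_iff A n).1.some⟩ : Σ m', Brnch.Emb A m') ⟨m, σ⟩)
      refine ⟨(numBranches_eq_one_iff A).mp ?_, fun m' hm' ↦ ?_⟩
      · rw [Brnch.numBranches, if_pos hfin]
        exact card_eq_one_iff.mpr ⟨⟨fun a b ↦ (huni a).trans (huni b).symm⟩, ⟨m⟩⟩
      · exact ((subsingleton_emb_iff A ⟨m', hm'⟩).2.mp
          ⟨fun a b ↦ eq_of_heq (Sigma.mk.inj_iff.mp (Subsingleton.elim
            (⟨⟨m', hm'⟩, a⟩ : Σ m', Brnch.Emb A m') ⟨⟨m', hm'⟩, b⟩)).2⟩)
    · exact absurd h (by simp)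
  · rintro ⟨⟨hd, hl⟩, hp⟩
    rw [if_pos (finite_minimalPrimes_of_isDomain_red A hd)]
    refine card_eq_one_iff.mpr ⟨⟨fun x y ↦ ?_⟩,
      ⟨⟨⟨maximalIdeal _, maximalIdeal.isMaximal _⟩, (subsingleton_emb_iff A _).1.some⟩⟩⟩
    obtain ⟨a, s⟩ := x
    obtain ⟨b, t⟩ := y
    obtain rfl : a = b := MaximalSpectrum.ext
      ((eq_maximalIdeal a.isMaximal).trans (eq_maximalIdeal b.isMaximal).symm)
    have := a.isMaximal
    have := (subsingleton_emb_iff A a).2.mpr (hp a.asIdeal)
    exact congrArg _ (Subsingleton.elim s t)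

variable {A} {S : Type u} [CommRing S] [IsLocalRing S] [Algebra A S]
  [IsLocalHom (algebraMap A S)]

theorem isDomain_iff_isReduced_and_card {T : Type u} [CommRing T] [Nontrivial T] :
    IsDomain T ↔ IsReduced T ∧ ENat.card (minimalPrimes T) = 1 := by
  constructor
  · intro _
    refine ⟨inferInstance, card_eq_one_iff.mpr ?_⟩
    rw [IsDomain.minimalPrimes_eq_singleton_bot T]
    exact ⟨inferInstance, inferInstance⟩
  · rintro ⟨_, h⟩
    obtain ⟨hs, ⟨p⟩⟩ := card_eq_one_iff.mp h
    have hp : (⊥ : Ideal T) = p.1 := by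
      refine le_antisymm bot_le fun x hx ↦ ?_
      have : x ∈ sInf (⊥ : Ideal T).minimalPrimes := Ideal.mem_sInf.mpr fun {q} hq ↦ by
        rw [show q = p.1 from congrArg Subtype.val (Subsingleton.elim (⟨q, hq⟩ : minimalPrimes T) p)]
        exact hx
      rw [Ideal.sInf_minimalPrimes] at this
      obtain ⟨n, hn⟩ := this
      exact IsNilpotent.eq_zero ⟨n, hn⟩
    have : (⊥ : Ideal T).IsPrime := hp ▸ p.2.1.1
    exact (isDomain_iff_noZeroDivisors_and_nontrivial T).mpr
      ⟨⟨fun {a b} h ↦ by simpa using this.mem_or_mem (show a * b ∈ (⊥ : Ideal T) by simpa using h)⟩,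
        inferInstance⟩

theorem IsHenselization.isDomain_iff [_root_.Hensel.IsHenselization A S] :
    (IsReduced A ∧ CAlg2.IsUnibranch A) ↔ IsDomain S := by
  rw [isDomain_iff_isReduced_and_card, IsHenselization.card_minimalPrimes (A := A),
    numBranches_eq_one_iff, IsHenselization.isReduced_iff (R := A) (S := S)]

theorem IsStrictHenselization.isDomain_iff [_root_.Hensel.IsStrictHenselization A S] :
    (IsReduced A ∧ CAlg2.IsGeomUnibranch A) ↔ IsDomain S := by
  rw [isDomain_iff_isReduced_and_card, IsStrictHenselization.card_minimalPrimes (A := A),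
    numGeomBranches_eq_one_iff, IsStrictHenselization.isReduced_iff (R := A) (S := S)]

end GrothLib.Hensel
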