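import Groth.Agent.Lib.Hensel.Henselization
import Mathlib.RingTheory.Etale.QuasiFinite
import Mathlib.RingTheory.Ideal.GoingDown
import Mathlib.RingTheory.KrullDimension.Basic

/-!
# Krull dimension of (strict) henselizations
-/

namespace GrothLib.Hensel

open IsLocalRing

universe u

theorem ringKrullDim_le_of_faithfullyFlat (R S : Type*) [CommRing R] [CommRing S] [Algebra R S]
    [Module.FaithfullyFlat R S] : ringKrullDim R ≤ ringKrullDim S := by
  refine iSup_le fun l ↦ ?_
  obtain ⟨P, hP⟩ := PrimeSpectrum.comap_surjective_of_faithfullyFlat (A := R) (B := S) l.last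
  have : P.asIdeal.LiesOver l.last.asIdeal := ⟨by rw [← hP]; rfl⟩
  obtain ⟨L, hL, -, -⟩ := Ideal.exists_ltSeries_of_hasGoingDown l P.asIdeal
  exact le_iSup_of_le L (by rw [hL])

/-- Primes of the hull over the same prime are incomparable. -/
theorem Hull.ringKrullDim_le (A C : Type u) [CommRing A] [CommRing C] [Algebra A C] :
    ringKrullDim (Hull A C) ≤ ringKrullDim A := by
  refine Order.krullDim_le_of_strictMono (PrimeSpectrum.comap (algebraMap A (Hull A C)))
    fun P Q hPQ ↦ lt_of_le_not_ge (Ideal.comap_mono hPQ.le) fun hle ↦ hPQ.not_ge fun x hx ↦ ?_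
  obtain ⟨N, a, rfl⟩ := Hull.exists_ι x
  have heq : P.asIdeal.comap (Hull.ι N).toRingHom = Q.asIdeal.comap (Hull.ι N).toRingHom := by
    refine Algebra.QuasiFinite.eq_of_le_of_under_eq (R := A) _ _ (Ideal.comap_mono hPQ.le) ?_
    show (P.asIdeal.comap (Hull.ι N).toRingHom).comap (algebraMap A N.Ring) =
      (Q.asIdeal.comap (Hull.ι N).toRingHom).comap (algebraMap A N.Ring)
    rw [Ideal.comap_comap, Ideal.comap_comap, show (Hull.ι N).toRingHom.comp (algebraMap A N.Ring)
      = algebraMap A (Hull A C) from (Hull.ι N).comp_algebraMap]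
    exact le_antisymm (Ideal.comap_mono hPQ.le) hle
  show a ∈ P.asIdeal.comap (Hull.ι N).toRingHom
  rw [heq]; exact hx

theorem IsHenselization.ringKrullDim_eq {R S : Type u} [CommRing R] [IsLocalRing R] [CommRing S]
    [IsLocalRing S] [Algebra R S] [IsLocalHom (algebraMap R S)]
    [_root_.Hensel.IsHenselization R S] : ringKrullDim S = ringKrullDim R := by
  have := IsHenselization.faithfullyFlat (R := R) (S := S)
  refine le_antisymm ?_ (ringKrullDim_le_of_faithfullyFlat R S)
  rw [← ringKrullDim_eq_of_ringEquiv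
    (IsHenselization.nonempty_hens_algEquiv (R := R) (S := S)).some.toRingEquiv]
  exact Hull.ringKrullDim_le R _

theorem IsStrictHenselization.ringKrullDim_eq {R S : Type u} [CommRing R] [IsLocalRing R]
    [CommRing S] [IsLocalRing S] [Algebra R S] [IsLocalHom (algebraMap R S)]
    [_root_.Hensel.IsStrictHenselization R S] : ringKrullDim S = ringKrullDim R := by
  have := IsStrictHenselization.faithfullyFlat (R := R) (S := S)
  refine le_antisymm ?_ (ringKrullDim_le_of_faithfullyFlat R S)
  rw [← ringKrullDim_eq_of_ringEquiv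
    (IsStrictHenselization.nonempty_strictHens_algEquiv (R := R) (S := S)).some.toRingEquiv]
  exact Hull.ringKrullDim_le R _

end GrothLib.Hensel
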