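import Groth.Agent.Lib.Hensel.CompletionBranches
import Groth.Agent.Lib.Hensel.Dim
import Mathlib.FieldTheory.IsSepClosed
import Mathlib.RingTheory.Henselian

/-!
# The completion over the henselization
-/

namespace GrothLib.Hensel

open IsLocalRing

universe u

instance henselianLocalRing_adicCompletion {A : Type u} [CommRing A] [IsLocalRing A]
    [IsNoetherianRing A] : HenselianLocalRing (AdicCompletion (maximalIdeal A) A) :=
  have : IsAdicComplete (maximalIdeal (AdicCompletion (maximalIdeal A) A))
      (AdicCompletion (maximalIdeal A) A) := by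
    rw [AdicCompletion.maximalIdeal_eq_map]
    exact AdicCompletion.isAdicComplete_self _ (maximalIdeal A).fg_of_isNoetherianRing
  henselianLocalRing_of_henselianRing inferInstance

/-- A henselian local ring is its own henselization. -/
theorem isHenselization_self (R : Type u) [CommRing R] [HenselianLocalRing R]
    [IsLocalHom (algebraMap R R)] : _root_.Hensel.IsHenselization R R where
  henselian := ‹_›
  universal T _ _ f _ := ⟨f, f.comp_id, fun g hg ↦ hg⟩

variable {A S : Type u} [CommRing A] [IsLocalRing A] [IsNoetherianRing A]
  [CommRing S] [IsLocalRing S] [Algebra A S] [IsLocalHom (algebraMap A S)]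
  [_root_.Hensel.IsHenselization A S]

theorem completion_exists_sub_mem (b : AdicCompletion (maximalIdeal A) A) :
    ∃ a, b - algebraMap A _ a ∈ maximalIdeal (AdicCompletion (maximalIdeal A) A) := by
  obtain ⟨⟨a, ha⟩, -⟩ : (∃ a, residue _ (algebraMap A (AdicCompletion (maximalIdeal A) A) a) =
      residue _ b) ∧ True := by
    obtain ⟨x, hx⟩ := (AdicCompletion.residueField_map_bijective A).2 (residue _ b)
    obtain ⟨a, rfl⟩ := residue_surjective x
    exact ⟨⟨a, by rwa [ResidueField.map_residue] at hx⟩, trivial⟩
  exact ⟨a, Ideal.Quotient.eq.mp ha.symm⟩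

variable (ψ : S →+* AdicCompletion (maximalIdeal A) A)
  (hψ : ψ.comp (algebraMap A S) = algebraMap A (AdicCompletion (maximalIdeal A) A))

include hψ in
theorem map_maximalIdeal_completion :
    (maximalIdeal S).map ψ = maximalIdeal (AdicCompletion (maximalIdeal A) A) := by
  rw [← IsHenselization.map_maximalIdeal (R := A) (S := S), Ideal.map_map, hψ,
    AdicCompletion.maximalIdeal_eq_map]

include hψ in
theorem faithfullyFlat_completion :
    letI := ψ.toAlgebra
    Module.FaithfullyFlat S (AdicCompletion (maximalIdeal A) A) := by
  let _ := ψ.toAlgebra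
  have : IsScalarTower A S (AdicCompletion (maximalIdeal A) A) :=
    IsScalarTower.of_algebraMap_eq fun a ↦ (RingHom.congr_fun hψ a).symm
  have : Module.Flat S (AdicCompletion (maximalIdeal A) A) :=
    (IsHenselization.etaleStages (A := A) (S := S)).flat_of_restrictScalars _
  have : IsLocalHom (algebraMap S (AdicCompletion (maximalIdeal A) A)) := ⟨fun x hx ↦ by
    by_contra hu
    exact (le_maximalIdeal (Ideal.IsPrime.ne_top (maximalIdeal.isMaximal _).isPrime)
      ((map_maximalIdeal_completion ψ hψ).le (Ideal.mem_map_of_mem ψ hu))) hx⟩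
  exact .of_flat_of_isLocalHom

include hψ in
theorem completion_exists_sub_mem' (b : AdicCompletion (maximalIdeal A) A) :
    ∃ s, b - ψ s ∈ maximalIdeal (AdicCompletion (maximalIdeal A) A) := by
  obtain ⟨a, ha⟩ := completion_exists_sub_mem b
  exact ⟨algebraMap A S a, by rwa [← RingHom.comp_apply, hψ]⟩

theorem exists_completion_hom : ∃ ψ : S →+* AdicCompletion (maximalIdeal A) A,
    ψ.comp (algebraMap A S) = algebraMap A (AdicCompletion (maximalIdeal A) A) := by
  obtain ⟨g, hg, -⟩ := ‹_root_.Hensel.IsHenselization A S›.universal
    (AdicCompletion (maximalIdeal A) A) (algebraMap A _) inferInstance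
  exact ⟨g, hg⟩

theorem numBranches_completion_eq :
    Brnch.numBranches (AdicCompletion (maximalIdeal A) A) =
      ENat.card (minimalPrimes (AdicCompletion (maximalIdeal A) A)) := by
  have : IsLocalHom (algebraMap (AdicCompletion (maximalIdeal A) A)
      (AdicCompletion (maximalIdeal A) A)) := ⟨fun x hx ↦ hx⟩
  have := isHenselization_self (AdicCompletion (maximalIdeal A) A)
  exact (IsHenselization.card_minimalPrimes (A := AdicCompletion (maximalIdeal A) A)).symm

/-- The geometric data: strict henselizations of `A` and of its completion. -/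
theorem exists_strict_pair (A : Type u) [CommRing A] [IsLocalRing A] [IsNoetherianRing A] :
    ∃ _ : Algebra (StrictHens A) (StrictHens (AdicCompletion (maximalIdeal A) A)),
      Module.FaithfullyFlat (StrictHens A) (StrictHens (AdicCompletion (maximalIdeal A) A)) ∧
      (maximalIdeal (StrictHens A)).map
          (algebraMap (StrictHens A) (StrictHens (AdicCompletion (maximalIdeal A) A))) =
        maximalIdeal _ ∧
      ∀ b, ∃ r, b - algebraMap (StrictHens A) (StrictHens (AdicCompletion (maximalIdeal A) A)) r ∈
        maximalIdeal _ := by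
  set B := AdicCompletion (maximalIdeal A) A
  set T := StrictHens A
  set T' := StrictHens B
  let _ : Algebra A T' := ((algebraMap B T').comp (algebraMap A B)).toAlgebra
  have : IsScalarTower A B T' := IsScalarTower.of_algebraMap_eq fun _ ↦ rfl
  have : IsLocalHom (algebraMap A T') := by
    rw [IsScalarTower.algebraMap_eq A B T']
    infer_instance
  have hT : _root_.Hensel.IsStrictHenselization A T := inferInstance
  have hT' : _root_.Hensel.IsStrictHenselization B T' := inferInstance
  have := hT'.henselian
  have hsep := hT.isSepClosure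
  have hsep' := hT'.isSepClosure
  have hbij : Function.Bijective (algebraMap (ResidueField A) (ResidueField B)) :=
    AdicCompletion.residueField_map_bijective A
  have : IsScalarTower (ResidueField A) (ResidueField B) (ResidueField T') :=
    IsScalarTower.of_algebraMap_eq fun x ↦ by
      obtain ⟨a, rfl⟩ := residue_surjective x
      rfl
  have : IsSepClosure (ResidueField A) (ResidueField T') := by
    refine ⟨hsep'.sep_closed, ⟨fun x ↦ ?_⟩⟩
    have hxB := hsep'.separable.isSeparable' x
    let e : ResidueField A ≃+* ResidueField B := RingEquiv.ofBijective _ hbij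
    have hm : (minpoly (ResidueField B) x).map e.symm.toRingHom |>.Separable :=
      Polynomial.Separable.map hxB
    refine Polynomial.Separable.of_dvd hm (minpoly.dvd _ _ ?_)
    rw [← Polynomial.aeval_map_algebraMap (ResidueField B), Polynomial.map_map]
    have : (algebraMap (ResidueField A) (ResidueField B)).comp e.symm.toRingHom = RingHom.id _ :=
      RingHom.ext fun y ↦ e.apply_symm_apply y
    rw [this, Polynomial.map_id, minpoly.aeval]
  let τ := IsSepClosure.equiv (ResidueField A) (ResidueField T) (ResidueField T')
  obtain ⟨g, hg⟩ := IsStrictHenselization.exists_algHom (S := T) T' τ.toAlgHom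
  refine ⟨g.toRingHom.toAlgebra, ?_⟩
  let _ : Algebra T T' := g.toRingHom.toAlgebra
  have : IsScalarTower A T T' := IsScalarTower.of_algebraMap_eq fun a ↦ (g.commutes a).symm
  have := IsStrictHenselization.faithfullyFlat (R := B) (S := T')
  have : Module.Flat A T' := Module.Flat.trans A B T'
  have : Module.Flat T T' := (IsStrictHenselization.etaleStages (A := A) (S := T)).flat_of_restrictScalars _
  have hlocal : IsLocalHom (algebraMap T T') := ⟨fun x hx ↦ by
    by_contra hu
    have h0 : residue T x = 0 := (residue_eq_zero_iff x).mpr hu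
    exact (residue_ne_zero_iff_isUnit (g x)).mpr hx (by rw [hg, h0, map_zero])⟩
  refine ⟨.of_flat_of_isLocalHom, ?_, fun b ↦ ?_⟩
  · rw [← IsStrictHenselization.map_maximalIdeal (R := A) (S := T), Ideal.map_map,
      ← IsScalarTower.algebraMap_eq, IsScalarTower.algebraMap_eq A B T', ← Ideal.map_map,
      ← AdicCompletion.maximalIdeal_eq_map, IsStrictHenselization.map_maximalIdeal]
  · obtain ⟨r, hr⟩ := residue_surjective (τ.symm (residue T' b))
    refine ⟨r, Ideal.Quotient.eq.mp ?_⟩
    show residue T' b = residue T' (g r)
    rw [hg]
    show _ = τ (residue T r)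
    rw [hr, AlgEquiv.apply_symm_apply]

theorem numGeomBranches_eq_card :
    Brnch.numGeomBranches A = ENat.card (minimalPrimes (StrictHens A)) :=
  IsStrictHenselization.card_minimalPrimes.symm

theorem numGeomBranches_le_completion (A : Type u) [CommRing A] [IsLocalRing A]
    [IsNoetherianRing A] :
    Brnch.numGeomBranches A ≤ Brnch.numGeomBranches (AdicCompletion (maximalIdeal A) A) := by
  obtain ⟨_, hff, -, -⟩ := exists_strict_pair A
  rw [← IsStrictHenselization.card_minimalPrimes (S := StrictHens A),
    ← IsStrictHenselization.card_minimalPrimes (S := StrictHens (AdicCompletion (maximalIdeal A) A))]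
  exact card_minimalPrimes_le

theorem numBranches_le_completion (A : Type u) [CommRing A] [IsLocalRing A]
    [IsNoetherianRing A] :
    Brnch.numBranches A ≤ Brnch.numBranches (AdicCompletion (maximalIdeal A) A) := by
  obtain ⟨ψ, hψ⟩ := exists_completion_hom (A := A) (S := Hens A)
  let _ := ψ.toAlgebra
  have := faithfullyFlat_completion ψ hψ
  rw [numBranches_completion_eq, ← IsHenselization.card_minimalPrimes (S := Hens A)]
  exact card_minimalPrimes_le

theorem numBranches_completion_eq_of_dim_one (A : Type u) [CommRing A] [IsLocalRing A]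
    [IsNoetherianRing A] (hA : ringKrullDim A = 1) :
    Brnch.numBranches (AdicCompletion (maximalIdeal A) A) = Brnch.numBranches A := by
  obtain ⟨ψ, hψ⟩ := exists_completion_hom (A := A) (S := Hens A)
  let _ := ψ.toAlgebra
  have := faithfullyFlat_completion ψ hψ
  have : IsNoetherianRing (Hens A) :=
    (IsHenselization.isNoetherianRing_iff (R := A) (S := Hens A)).mp ‹_›
  have : Ring.KrullDimLE 1 (AdicCompletion (maximalIdeal A) A) :=
    Ring.krullDimLE_iff.mpr (by rw [AdicExtra.ringKrullDim_adicCompletion, hA]; simp)
  rw [numBranches_completion_eq, ← IsHenselization.card_minimalPrimes (S := Hens A)]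
  exact (card_minimalPrimes_eq_iff_injOn.mpr (injOn_of_krullDimLE_one
    (map_maximalIdeal_completion ψ hψ) (completion_exists_sub_mem' ψ hψ))).symm

theorem numGeomBranches_completion_eq_of_dim_one (A : Type u) [CommRing A] [IsLocalRing A]
    [IsNoetherianRing A] (hA : ringKrullDim A = 1) :
    Brnch.numGeomBranches (AdicCompletion (maximalIdeal A) A) = Brnch.numGeomBranches A := by
  obtain ⟨_, hff, hmap, hres⟩ := exists_strict_pair A
  set B := AdicCompletion (maximalIdeal A) A
  have : IsNoetherianRing (StrictHens A) :=
    (IsStrictHenselization.isNoetherianRing_iff (R := A) (S := StrictHens A)).mp ‹_›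
  have : IsNoetherianRing (StrictHens B) :=
    (IsStrictHenselization.isNoetherianRing_iff (R := B) (S := StrictHens B)).mp inferInstance
  have : Ring.KrullDimLE 1 (StrictHens B) := Ring.krullDimLE_iff.mpr (by
    rw [IsStrictHenselization.ringKrullDim_eq (R := B) (S := StrictHens B),
      AdicExtra.ringKrullDim_adicCompletion, hA]
    simp)
  rw [← IsStrictHenselization.card_minimalPrimes (A := A) (S := StrictHens A),
    ← IsStrictHenselization.card_minimalPrimes (A := B) (S := StrictHens B)]
  exact (card_minimalPrimes_eq_iff_injOn.mpr (injOn_of_krullDimLE_one hmap hres)).symm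

end GrothLib.Hensel
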