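import Groth.Agent.Lib.Hensel.RankOne
import Mathlib.RingTheory.Etale.StandardEtale
import Mathlib.RingTheory.Ideal.Pure
import Mathlib.RingTheory.ZariskisMainTheorem
import Mathlib.RingTheory.Unramified.LocalStructure

/-!
# Lifting sections of étale algebras along henselian pairs

`EtaleLift A I`: every section modulo `I` of an étale `A`-algebra lifts.
-/

namespace GrothLib.Hensel

open scoped TensorProduct

universe u v w

theorem span_range_pow_eq_top {A : Type u} [CommRing A] {ι : Type*} {g : ι → A}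
    (h : Ideal.span (Set.range g) = ⊤) (n : ι → ℕ) :
    Ideal.span (Set.range fun i ↦ g i ^ n i) = ⊤ := by
  rw [← Ideal.radical_eq_top, eq_top_iff, ← h, Ideal.span_le]
  rintro _ ⟨i, rfl⟩
  exact ⟨n i, Ideal.subset_span ⟨i, rfl⟩⟩

variable {A : Type u} [CommRing A] {I : Ideal A}

/-- An unramified algebra with a section modulo `I` has an element cutting out the section. -/
theorem exists_sectionElem {A' : Type v} [CommRing A'] [Algebra A A']
    [Algebra.FormallyUnramified A A'] [Algebra.EssFiniteType A A'] (σ : A' →ₐ[A] A ⧸ I) :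
    ∃ ε : A', σ ε = 1 ∧ ∀ x, σ x = 0 → ε * x ∈ I.map (algebraMap A A') := by
  set J := I.map (algebraMap A A')
  let ι : A ⧸ I →ₐ[A] A' ⧸ J :=
    { Ideal.quotientMap J (algebraMap A A') Ideal.le_comap_map with
      commutes' := fun a ↦ by
        show Ideal.quotientMap J (algebraMap A A') Ideal.le_comap_map (Ideal.Quotient.mk I a) = _
        rw [Ideal.quotientMap_mk]; rfl }
  let Ψ : A' ⊗[A] A' →ₐ[A] A' ⧸ J :=
    Algebra.TensorProduct.productMap (ι.comp σ) (Ideal.Quotient.mkₐ A J)
  obtain ⟨ε, hε⟩ := Ideal.Quotient.mk_surjective (Ψ (Algebra.FormallyUnramified.elem A A'))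
  have hσJ : ∀ y ∈ J, σ y = 0 := fun y hy ↦ algHom_quotient_map_eq_zero σ hy
  let σ' : A' ⧸ J →ₐ[A] A ⧸ I := Ideal.Quotient.liftₐ J σ hσJ
  have hcomp : σ'.comp Ψ = σ.comp (Algebra.TensorProduct.lmul' A) := by
    refine Algebra.TensorProduct.ext' fun a b ↦ ?_
    have hι : ∀ z, σ' (ι z) = z := fun z ↦ by
      obtain ⟨z, rfl⟩ := Ideal.Quotient.mk_surjective z
      exact (σ'.comp ι).commutes z
    have := hι (σ a)
    simp [Ψ, σ'] at this ⊢
    rw [this]
  refine ⟨ε, ?_, fun x hx ↦ ?_⟩
  · have := AlgHom.congr_fun hcomp (Algebra.FormallyUnramified.elem A A')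
    simp only [AlgHom.comp_apply, Algebra.FormallyUnramified.lmul_elem, map_one, ← hε] at this
    exact this
  · have := congrArg Ψ (Algebra.FormallyUnramified.one_tmul_mul_elem (R := A) x)
    rw [map_mul, map_mul] at this
    simp only [Ψ, Algebra.TensorProduct.productMap_apply_tmul, map_one, AlgHom.comp_apply, hx,
      map_zero, one_mul, mul_one, zero_mul, Ideal.Quotient.mkₐ_eq_mk] at this
    rw [← Ideal.Quotient.eq_zero_iff_mem, map_mul, hε, mul_comm]
    exact this

/-- Lifting of sections of an étale algebra which is locally a localization of a finite one. -/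
theorem exists_lift_of_isLocalization (hI : I ≤ Ideal.jacobson ⊥) (hR : RootCond I)
    {B : Type v} [CommRing B] [Algebra A B] [Module.Finite A B]
    {A' : Type w} [CommRing A'] [Algebra A A'] [Algebra.Etale A A'] [Algebra B A']
    [IsScalarTower A B A'] {ι : Type*} [Finite ι] (g : ι → B)
    (hloc : ∀ i (x : A'), ∃ (k : ℕ) (b : B), algebraMap B A' (g i) ^ k * x = algebraMap B A' b)
    (hker : ∀ i (b : B), algebraMap B A' b = 0 → ∃ k : ℕ, g i ^ k * b = 0)
    (σ : A' →ₐ[A] A ⧸ I) (hg : Ideal.span (Set.range fun i ↦ σ (algebraMap B A' (g i))) = ⊤) :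
    ∃ τ : A' →ₐ[A] A, (Ideal.Quotient.mkₐ A I).comp τ = σ := by
  classical
  set β : B →ₐ[A] A' := IsScalarTower.toAlgHom A B A' with hβ
  set σB : B →ₐ[A] A ⧸ I := σ.comp β with hσB
  set IB := I.map (algebraMap A B)
  have hβ' : ∀ b, β b = algebraMap B A' b := fun _ ↦ rfl
  obtain ⟨ε, hε1, hε⟩ := exists_sectionElem σ
  obtain ⟨N, s, hs⟩ := Module.Finite.exists_fin (R := A) (M := B)
  have hIA' : ∀ i (y : A'), y ∈ I.map (algebraMap A A') →
      ∃ n : ℕ, ∃ b ∈ IB, algebraMap B A' (g i) ^ n * y = algebraMap B A' b := by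
    intro i y hy
    rw [IsScalarTower.algebraMap_eq A B A', ← Ideal.map_map] at hy
    induction hy using Submodule.span_induction with
    | mem y hy =>
      obtain ⟨b, hb, rfl⟩ := hy
      exact ⟨0, b, hb, by simp⟩
    | zero => exact ⟨0, 0, IB.zero_mem, by simp⟩
    | add y z _ _ hy hz =>
      obtain ⟨n, b, hb, hbe⟩ := hy
      obtain ⟨m, c, hc, hce⟩ := hz
      refine ⟨n + m, g i ^ m * b + g i ^ n * c,
        IB.add_mem (IB.mul_mem_left _ hb) (IB.mul_mem_left _ hc), ?_⟩
      simp only [map_add, map_mul, map_pow, ← hbe, ← hce]; ring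
    | smul a y _ hy =>
      obtain ⟨n, b, hb, hbe⟩ := hy
      obtain ⟨k, c, hce⟩ := hloc i a
      refine ⟨k + n, c * b, IB.mul_mem_left _ hb, ?_⟩
      simp only [map_mul, smul_eq_mul, ← hbe, ← hce]; ring
  -- the element cutting out the section in `B`
  choose as has using fun j ↦ Ideal.Quotient.mk_surjective (σB (s j))
  have hd : ∀ i, ∃ (d : B) (M : ℕ), σB d = σB (g i) ^ M ∧ ∀ x, σB x = 0 → d * x ∈ IB := by
    intro i
    obtain ⟨k, b, hb⟩ := hloc i ε
    have hj : ∀ j, ∃ m : ℕ, g i ^ m * b * (s j - algebraMap A B (as j)) ∈ IB := by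
      intro j
      set x := s j - algebraMap A B (as j)
      have hx : σ (β x) = 0 := by
        show σB x = 0
        simp [x, has]
      obtain ⟨n, c, hc, hce⟩ := hIA' i _ (Ideal.mul_mem_left _ (algebraMap B A' (g i) ^ k)
        (hε _ hx))
      have h0 : algebraMap B A' (g i ^ n * (b * x) - c) = 0 := by
        rw [map_sub, map_mul, map_mul, map_pow, ← hb, ← hce, hβ']; ring
      obtain ⟨m, hm⟩ := hker i _ h0
      refine ⟨m + n, ?_⟩
      have : g i ^ (m + n) * b * x = g i ^ m * c := by
        rw [mul_sub, sub_eq_zero] at hm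
        rw [← hm]; ring
      rw [this]; exact IB.mul_mem_left _ hc
    choose m hm using hj
    refine ⟨g i ^ (∑ j, m j) * b, (∑ j, m j) + k, ?_, fun x hx ↦ ?_⟩
    · have : σB b = σB (g i) ^ k := by
        have := congrArg σ hb
        rw [map_mul, map_pow, hε1, mul_one] at this
        exact this.symm
      rw [map_mul, map_pow, this, pow_add]
    · have hall : ∀ j, g i ^ (∑ j, m j) * b * (s j - algebraMap A B (as j)) ∈ IB := by
        intro j
        obtain ⟨t, ht⟩ := Nat.exists_eq_add_of_le (Finset.single_le_sum (f := m)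
          (fun _ _ ↦ Nat.zero_le _) (Finset.mem_univ j))
        have := IB.mul_mem_left (g i ^ t) (hm j)
        rw [ht, pow_add]
        simpa only [mul_assoc, mul_left_comm (g i ^ t)] using this
      obtain ⟨c, rfl⟩ := Submodule.mem_span_range_iff_exists_fun A |>.mp
        (show x ∈ Submodule.span A (Set.range s) by rw [hs]; trivial)
      have hc : ∑ j, c j * as j ∈ I := by
        rw [← Ideal.Quotient.eq_zero_iff_mem, map_sum, ← hx, map_sum]
        simp [has, Algebra.smul_def]
      have : g i ^ (∑ j, m j) * b * ∑ j, c j • s j =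
          (∑ j, algebraMap A B (c j) * (g i ^ (∑ j, m j) * b * (s j - algebraMap A B (as j)))) +
            algebraMap A B (∑ j, c j * as j) * (g i ^ (∑ j, m j) * b) := by
        rw [map_sum, Finset.sum_mul, ← Finset.sum_add_distrib, Finset.mul_sum]
        refine Finset.sum_congr rfl fun j _ ↦ ?_
        rw [Algebra.smul_def, map_mul]; ring
      rw [this]
      exact IB.add_mem (IB.sum_mem fun j _ ↦ IB.mul_mem_left _ (hall j))
        (IB.mul_mem_right _ (Ideal.mem_map_of_mem _ hc))
  choose d M hdM hdker using hd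
  have := Fintype.ofFinite ι
  have hspan : Ideal.span (Set.range fun i ↦ σB (g i) ^ M i) = ⊤ := span_range_pow_eq_top hg M
  obtain ⟨c, hc⟩ := Submodule.mem_span_range_iff_exists_fun (A ⧸ I) |>.mp
    ((Ideal.eq_top_iff_one _).mp hspan)
  choose c' hc' using fun i ↦ Ideal.Quotient.mk_surjective (c i)
  obtain ⟨e, he, heσ, -, hespan⟩ := exists_idem_of_section hI hR σB
    (∑ i, algebraMap A B (c' i) * d i) (by simp [hdM, hc', ← hc])
    (fun x hx ↦ by
      rw [Finset.sum_mul]
      exact IB.sum_mem fun i _ ↦ by rw [mul_assoc]; exact IB.mul_mem_left _ (hdker i x hx))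
  -- the image idempotent
  set e' := algebraMap B A' e with he'
  choose γ hγ using fun i ↦ hespan (g i)
  have hγtop : Ideal.span (Set.range γ) = ⊤ := by
    refine eq_top_of_sup_eq_top hI ?_
    have hmap : (Ideal.span (Set.range γ)).map (Ideal.Quotient.mk I) = ⊤ := by
      rw [Ideal.map_span, ← Set.range_comp, ← hg]
      congr 2
      funext i
      have := congrArg σB (hγ i)
      rw [map_mul, map_mul, heσ, AlgHom.commutes, one_mul, mul_one] at this
      exact this.symm
    have := congrArg (Ideal.comap (Ideal.Quotient.mk I)) hmap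
    rwa [Ideal.comap_map_of_surjective' _ Ideal.Quotient.mk_surjective, Ideal.mk_ker,
      Ideal.comap_top] at this
  have hrange : ∀ x : A', ∃ a : A, e' * x = algebraMap A A' a * e' := by
    intro x
    have hi : ∀ i, ∃ k : ℕ, ∃ a : A, algebraMap A A' (γ i ^ k) * (e' * x) = algebraMap A A' a * e' := by
      intro i
      obtain ⟨k, b, hb⟩ := hloc i x
      obtain ⟨a, ha⟩ := hespan b
      refine ⟨k, a, ?_⟩
      have h1 : e' * algebraMap B A' (g i) = algebraMap A A' (γ i) * e' := by
        rw [he', ← map_mul, hγ, map_mul, ← IsScalarTower.algebraMap_apply]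
      have h2 : e' * algebraMap B A' b = algebraMap A A' a * e' := by
        rw [he', ← map_mul, ha, map_mul, ← IsScalarTower.algebraMap_apply]
      have h3 : ∀ k : ℕ, algebraMap A A' (γ i ^ k) * e' = algebraMap B A' (g i) ^ k * e' := by
        intro k
        induction k with
        | zero => simp
        | succ k ih =>
          rw [pow_succ, map_mul, mul_assoc, ← h1, ← mul_assoc, ih, pow_succ]; ring
      rw [← mul_assoc, h3, ← h2, ← hb]; ring
    choose k a ha using hi
    obtain ⟨r, hr⟩ := Submodule.mem_span_range_iff_exists_fun A |>.mp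
      ((Ideal.eq_top_iff_one _).mp (span_range_pow_eq_top hγtop k))
    refine ⟨∑ i, r i * a i, ?_⟩
    calc e' * x = algebraMap A A' (∑ i, r i • γ i ^ k i) * (e' * x) := by rw [hr]; simp
      _ = _ := by
        simp only [map_sum, map_mul, Finset.sum_mul, smul_eq_mul, mul_assoc]
        exact Finset.sum_congr rfl fun i _ ↦ by rw [ha]
  let L := Localization.Away e'
  have he'i : IsIdempotentElem e' := he.map (algebraMap B A')
  have hone : algebraMap A' L e' = 1 :=
    (IsIdempotentElem.iff_eq_one_of_isUnit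
      (IsLocalization.Away.algebraMap_isUnit (S := L) e')).mp (he'i.map (algebraMap A' L))
  have hsurj : Function.Surjective (Algebra.ofId A L) := by
    intro y
    obtain ⟨x, rfl⟩ := IsLocalization.Away.algebraMap_surjective_of_isIdempotentElem
      (S := L) e' he'i y
    obtain ⟨a, ha⟩ := hrange x
    refine ⟨a, ?_⟩
    have := congrArg (algebraMap A' L) ha
    rw [map_mul, map_mul, hone, one_mul, mul_one] at this
    rw [this, Algebra.ofId_apply, ← IsScalarTower.algebraMap_apply]
  let σL : L →ₐ[A] A ⧸ I := IsLocalization.Away.liftAlgHom e' (f := σ) (by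
    have : σ e' = 1 := heσ
    rw [this]; exact isUnit_one)
  have hKle : RingHom.ker (Algebra.ofId A L) ≤ I := by
    intro a ha
    rw [← Ideal.Quotient.eq_zero_iff_mem]
    have : σL (algebraMap A L a) = Ideal.Quotient.mk I a := σL.commutes a
    rw [← this, show algebraMap A L a = 0 from ha, map_zero]
  let K : Ideal A := RingHom.ker (Algebra.ofId A L)
  have hpure : K.Pure :=
    Module.Flat.of_linearEquiv
      (Ideal.quotientKerAlgEquivOfSurjective hsurj).toLinearEquiv
  have hK : K = ⊥ := by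
    obtain ⟨x, hx, hxe⟩ := (Ideal.isIdempotentElem_iff_of_fg K
      (Algebra.FinitePresentation.ker_fG_of_surjective _ hsurj)).mp
      (Ideal.isIdempotentElem_of_pure K)
    replace hKle : K ≤ I := hKle
    rw [hxe] at hKle ⊢
    have := eq_zero_of_isIdempotentElem_of_mem_jacobson hx
      (hI (hKle (Submodule.mem_span_singleton_self x)))
    simp [this]
  let eqv : A ≃ₐ[A] L := AlgEquiv.ofBijective (Algebra.ofId A L)
    ⟨(RingHom.injective_iff_ker_eq_bot _).mpr hK, hsurj⟩
  refine ⟨eqv.symm.toAlgHom.comp (IsScalarTower.toAlgHom A A' L), ?_⟩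
  ext x
  obtain ⟨a, ha⟩ := eqv.surjective (algebraMap A' L x)
  have h1 : σL (algebraMap A' L x) = σ x := IsLocalization.lift_eq _ x
  have h2 : σL (eqv a) = Ideal.Quotient.mk I a := σL.commutes a
  simp only [AlgHom.comp_apply, IsScalarTower.toAlgHom_apply, AlgEquiv.coe_toAlgHom]
  rw [← ha, eqv.symm_apply_apply, ← h1, ← ha, h2]
  rfl

/-- Sections modulo `I` of étale algebras lift. -/
def EtaleLift (A : Type u) [CommRing A] (I : Ideal A) : Prop :=
  ∀ (A' : Type u) [CommRing A'] [Algebra A A'] [Algebra.Etale A A'] (σ : A' →ₐ[A] A ⧸ I),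
    ∃ τ : A' →ₐ[A] A, (Ideal.Quotient.mkₐ A I).comp τ = σ

/-- Gabber's condition implies lifting of sections of étale algebras. -/
theorem exists_lift_of_etale (hI : I ≤ Ideal.jacobson ⊥) (hR : RootCond I)
    {A' : Type v} [CommRing A'] [Algebra A A'] [Algebra.Etale A A'] (σ : A' →ₐ[A] A ⧸ I) :
    ∃ τ : A' →ₐ[A] A, (Ideal.Quotient.mkₐ A I).comp τ = σ := by
  classical
  have key : ∀ q : PrimeSpectrum A', ∃ S' : Subalgebra A A', S'.toSubmodule.FG ∧ ∃ r : S',
      r.1 ∉ q.asIdeal ∧ Function.Bijective (Localization.awayMap S'.val.toRingHom r) :=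
    fun q ↦ Algebra.QuasiFiniteAt.exists_fg_and_exists_notMem_and_awayMap_bijective q.asIdeal
  choose S hS r hr hbij using key
  obtain ⟨t, ht⟩ : ∃ t : Finset (PrimeSpectrum A'),
      Ideal.span ((fun q ↦ (r q).1) '' (t : Set (PrimeSpectrum A'))) = ⊤ := by
    have : Ideal.span (Set.range fun q ↦ (r q).1) = ⊤ := by
      by_contra h
      obtain ⟨M, hM, hle⟩ := Ideal.exists_le_maximal _ h
      exact hr ⟨M, hM.isPrime⟩ (hle (Ideal.subset_span ⟨_, rfl⟩))
    obtain ⟨u, hu, hu'⟩ := Submodule.mem_span_finite_of_mem_span ((Ideal.eq_top_iff_one _).mp this)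
    rw [← Set.image_univ] at hu
    obtain ⟨t, -, rfl⟩ := Finset.subset_set_image_iff.mp hu
    exact ⟨t, (Ideal.eq_top_iff_one _).mpr (by rw [← Finset.coe_image]; exact hu')⟩
  choose gen hgen using hS
  let T : Set A' := ⋃ q ∈ t, (gen q : Set A')
  let B : Subalgebra A A' := Algebra.adjoin A T
  have hBfin : B.toSubmodule.FG := by
    refine fg_adjoin_of_finite (t.finite_toSet.biUnion fun q _ ↦ (gen q).finite_toSet) ?_
    intro x hx
    obtain ⟨q, -, hxq⟩ := Set.mem_iUnion₂.mp hx
    refine IsIntegral.of_mem_of_fg (S q) ⟨gen q, hgen q⟩ x ?_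
    show x ∈ (S q).toSubmodule
    rw [← hgen q]
    exact Submodule.subset_span hxq
  have : Module.Finite A B := Module.Finite.iff_fg.mpr hBfin
  have hle : ∀ q ∈ t, S q ≤ B := by
    intro q hq x hx
    have hx' : x ∈ (S q).toSubmodule := hx
    rw [← hgen q] at hx'
    show x ∈ B.toSubmodule
    refine Submodule.span_le.mpr ?_ hx'
    intro y hy
    exact Algebra.subset_adjoin (Set.mem_biUnion hq hy)
  refine exists_lift_of_isLocalization hI hR (B := B) (ι := t)
    (fun q ↦ ⟨(r q.1).1, hle q.1 q.2 (r q.1).2⟩) (fun q x ↦ ?_)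
    (fun q b hb ↦ ⟨0, by simpa using Subtype.ext hb⟩) σ ?_
  · obtain ⟨b, m, hb⟩ := Localization.awayMap_surjective_iff.mp (hbij q.1).2 x
    exact ⟨m, ⟨b.1, hle q.1 q.2 b.2⟩, hb.symm⟩
  · have := congrArg (Ideal.map σ.toRingHom) ht
    rw [Ideal.map_span, Ideal.map_top, ← Set.image_comp] at this
    refine Eq.trans (congrArg Ideal.span ?_) this
    ext z; simp [Subalgebra.algebraMap_eq]

theorem etaleLift_of_rootCond (hI : I ≤ Ideal.jacobson ⊥) (hR : RootCond I) : EtaleLift A I :=
  fun _ _ _ _ σ ↦ exists_lift_of_etale hI hR σ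

theorem EtaleLift.of_henselianRing (I : Ideal A) [h : HenselianRing A I] : EtaleLift A I :=
  etaleLift_of_rootCond h.jac (rootCond_of_henselianRing I)

end GrothLib.Hensel
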