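import Groth.Agent.Lib.Hensel.Dim
import Groth.Agent.Lib.Hensel.Noetherian
import Mathlib.RingTheory.RegularLocalRing.Defs
import Mathlib.LinearAlgebra.Matrix.Rank

/-!
# Regularity of (strict) henselizations
-/

namespace GrothLib.Hensel

open IsLocalRing

universe u

/-- The embedding dimension is preserved by flat local maps with unramified closed fibre. -/
theorem spanFinrank_maximalIdeal_eq_of_flat {R S : Type u} [CommRing R] [IsLocalRing R]
    [IsNoetherianRing R] [CommRing S] [IsLocalRing S] [Algebra R S] [Module.Flat R S]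
    (hmax : (maximalIdeal R).map (algebraMap R S) = maximalIdeal S) :
    (maximalIdeal S).spanFinrank = (maximalIdeal R).spanFinrank := by
  classical
  have hfgR : (maximalIdeal R).FG := IsNoetherian.noetherian _
  refine le_antisymm (hmax ▸ Ideal.spanFinrank_map_le_of_fg _ hfgR) ?_
  obtain ⟨s, hscard, hs⟩ := Submodule.FG.exists_span_finset_card_eq_spanFinrank hfgR
  set n := (maximalIdeal R).spanFinrank
  let a : s → R := Subtype.val
  have hrange : Ideal.span (Set.range a) = maximalIdeal R := by
    rw [Subtype.range_coe]; exact hs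
  have hmin : ∀ c : s → R, ∑ i, c i * a i = 0 → ∀ i, c i ∈ maximalIdeal R := by
    intro c hc i
    by_contra hi
    have hu : IsUnit (c i) := by simpa using hi
    obtain ⟨v, hv⟩ := hu.exists_left_inv
    have hmem : (i : R) ∈ Ideal.span (↑(s.erase i) : Set R) := by
      rw [← Finset.add_sum_erase _ _ (Finset.mem_univ i), add_eq_zero_iff_eq_neg] at hc
      have hai : (i : R) = v * (c i * a i) := by rw [← mul_assoc, hv, one_mul]
      suffices v * (c i * a i) ∈ Ideal.span (↑(s.erase i) : Set R) by rwa [← hai] at this
      rw [hc]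
      refine Ideal.mul_mem_left _ _ (neg_mem (Ideal.sum_mem _ fun j hj ↦ Ideal.mul_mem_left _ _ ?_))
      exact Ideal.subset_span (Finset.mem_coe.mpr (Finset.mem_erase.mpr
        ⟨fun h ↦ Finset.ne_of_mem_erase hj (Subtype.ext h), j.2⟩))
    have heq : Ideal.span (↑(s.erase (i : R)) : Set R) = maximalIdeal R := by
      refine le_antisymm ((Ideal.span_mono (Finset.erase_subset _ _)).trans hs.le) ?_
      rw [← hs, Ideal.span_le]
      intro x hx
      by_cases hxi : x = (i : R)
      · exact hxi ▸ hmem
      · exact Ideal.subset_span (Finset.mem_coe.mpr (Finset.mem_erase.mpr ⟨hxi, hx⟩))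
    have hle : n ≤ (s.erase (i : R)).card := by
      have h := Submodule.spanFinrank_span_le_ncard_of_finite (R := R)
        (s.erase (i : R)).finite_toSet
      rw [Set.ncard_coe_finset] at h
      exact le_of_eq_of_le (congrArg Submodule.spanFinrank heq.symm) h
    rw [Finset.card_erase_of_mem i.2] at hle
    have : 0 < s.card := Finset.card_pos.mpr ⟨i, i.2⟩
    omega
  have hminS : ∀ c : s → S, ∑ i, c i * algebraMap R S (a i) = 0 →
      ∀ i, c i ∈ maximalIdeal S := by
    intro c hc i
    obtain ⟨k, d, z, hz, hd⟩ := Module.Flat.isTrivialRelation_of_sum_smul_eq_zero (R := R) (M := S)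
      (f := a) (x := c) (by simpa [Algebra.smul_def, mul_comm] using hc)
    rw [hz i, ← hmax]
    refine Ideal.sum_mem _ fun j _ ↦ ?_
    rw [Algebra.smul_def]
    exact Ideal.mul_mem_right _ _ (Ideal.mem_map_of_mem _
      (hmin (fun i ↦ d i j) (by simpa [mul_comm] using hd j) i))
  have hmapa : Ideal.span (Set.range fun i ↦ algebraMap R S (a i)) = maximalIdeal S := by
    rw [← hmax, ← hrange, Ideal.map_span, ← Set.range_comp]; rfl
  have hfgS : (maximalIdeal S).FG := hmax ▸ hfgR.map _
  obtain ⟨t, htcard, ht⟩ := Submodule.FG.exists_span_finset_card_eq_spanFinrank hfgS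
  have hD : ∀ l : t, ∃ c : s → S, ∑ i, c i * algebraMap R S (a i) = (l : S) := fun l ↦
    Ideal.mem_span_range_iff_exists_fun.mp (hmapa ▸ ht ▸ Ideal.subset_span l.2)
  choose D hD using hD
  have hC : ∀ i : s, ∃ c : t → S, ∑ l, c l * (l : S) = algebraMap R S (a i) := fun i ↦
    Ideal.mem_span_range_iff_exists_fun.mp (by
      rw [Subtype.range_coe]
      show _ ∈ Submodule.span S _
      rw [ht, ← hmax]
      exact Ideal.mem_map_of_mem _ (hrange ▸ Ideal.subset_span ⟨i, rfl⟩))
  choose C hC using hC
  let Cm : Matrix s t (ResidueField S) := Matrix.of fun i l ↦ residue S (C i l)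
  let Dm : Matrix t s (ResidueField S) := Matrix.of fun l j ↦ residue S (D l j)
  have hprod : Cm * Dm = 1 := by
    ext i j
    have h0 : ∑ j', ((∑ l, C i l * D l j') - if i = j' then 1 else 0) * algebraMap R S (a j') = 0 := by
      simp only [sub_mul, ite_mul, one_mul, zero_mul, Finset.sum_sub_distrib, Finset.sum_ite_eq,
        Finset.mem_univ, if_true, Finset.sum_mul, mul_assoc]
      rw [Finset.sum_comm]
      simp only [← Finset.mul_sum, hD, hC, sub_self]
    have h1 := residue_eq_zero_iff _ |>.mpr (hminS _ h0 j)
    rw [map_sub, sub_eq_zero, map_sum] at h1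
    rw [Matrix.mul_apply]
    simp only [Cm, Dm, Matrix.of_apply, ← map_mul]
    rw [h1, Matrix.one_apply]
    split_ifs <;> simp
  have hrank := (Matrix.rank_mul_le_left Cm Dm).trans (Matrix.rank_le_card_width Cm)
  rw [hprod, Matrix.rank_one, Fintype.card_coe, Fintype.card_coe] at hrank
  rw [← htcard, ← hscard]
  exact hrank

theorem isRegularLocalRing_iff_of_flat {R S : Type u} [CommRing R] [IsLocalRing R]
    [IsNoetherianRing R] [CommRing S] [IsLocalRing S] [IsNoetherianRing S] [Algebra R S]
    [Module.Flat R S] (hmax : (maximalIdeal R).map (algebraMap R S) = maximalIdeal S)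
    (hdim : ringKrullDim S = ringKrullDim R) : IsRegularLocalRing R ↔ IsRegularLocalRing S := by
  rw [isRegularLocalRing_iff, isRegularLocalRing_iff, spanFinrank_maximalIdeal_eq_of_flat hmax,
    hdim]

variable {R S : Type u} [CommRing R] [IsLocalRing R] [CommRing S] [IsLocalRing S] [Algebra R S]
  [IsLocalHom (algebraMap R S)] [IsNoetherianRing R]

theorem IsHenselization.isRegularLocalRing_iff [_root_.Hensel.IsHenselization R S] :
    IsRegularLocalRing R ↔ IsRegularLocalRing S :=
  have := IsHenselization.flat (R := R) (S := S)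
  have := (IsHenselization.isNoetherianRing_iff (R := R) (S := S)).mp inferInstance
  isRegularLocalRing_iff_of_flat IsHenselization.map_maximalIdeal IsHenselization.ringKrullDim_eq

theorem IsStrictHenselization.isRegularLocalRing_iff [_root_.Hensel.IsStrictHenselization R S] :
    IsRegularLocalRing R ↔ IsRegularLocalRing S :=
  have := IsStrictHenselization.flat (R := R) (S := S)
  have := (IsStrictHenselization.isNoetherianRing_iff (R := R) (S := S)).mp inferInstance
  isRegularLocalRing_iff_of_flat IsStrictHenselization.map_maximalIdeal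
    IsStrictHenselization.ringKrullDim_eq

end GrothLib.Hensel
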