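import Groth.Agent.Lib.Hensel.Lift
import Mathlib.RingTheory.Polynomial.UniversalFactorizationRing
import Mathlib.RingTheory.IntegralClosure.Algebra.Ideal

/-!
# Equivalent descriptions of henselian pairs

Factorization lifting, idempotent lifting, and the converse implications to `HenselianRing`.
-/

namespace GrothLib.Hensel

open Polynomial

universe u v

variable {A : Type u} [CommRing A] {I : Ideal A}

/-- A standard étale pair `(f, f')`. -/
noncomputable def simpleRootPair (f : A[X]) (hf : f.Monic) : StandardEtalePair A where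
  f := f
  monic_f := hf
  g := f.derivative
  cond := ⟨1, 0, 1, by simp⟩

theorem exists_root_of_exists_lift (f : A[X]) (hf : f.Monic) (a₀ : A) (h₁ : f.eval a₀ ∈ I)
    (h₂ : IsUnit (Ideal.Quotient.mk I (f.derivative.eval a₀)))
    (hlift : ∀ σ : (simpleRootPair f hf).Ring →ₐ[A] A ⧸ I,
      ∃ τ : (simpleRootPair f hf).Ring →ₐ[A] A, (Ideal.Quotient.mkₐ A I).comp τ = σ) :
    ∃ a : A, f.IsRoot a ∧ a - a₀ ∈ I := by
  set P := simpleRootPair f hf
  have hmap : P.HasMap (Ideal.Quotient.mk I a₀) := by
    rw [StandardEtalePair.HasMap]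
    simp only [← Ideal.Quotient.algebraMap_eq, aeval_algebraMap_apply_eq_algebraMap_eval]
    exact ⟨Ideal.Quotient.eq_zero_iff_mem.mpr h₁, h₂⟩
  obtain ⟨τ, hτ⟩ := hlift (P.lift _ hmap)
  refine ⟨τ P.X, ?_, ?_⟩
  · have := (StandardEtalePair.hasMap_X.map τ).1
    simpa [P, simpleRootPair, IsRoot] using this
  · rw [← Ideal.Quotient.eq]
    have := AlgHom.congr_fun hτ P.X
    simpa using this

theorem henselianRing_of_rootCond (hI : I ≤ Ideal.jacobson ⊥) (hR : RootCond I) :
    HenselianRing A I where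
  jac := hI
  is_henselian f hf a₀ h₁ h₂ :=
    exists_root_of_exists_lift f hf a₀ h₁ h₂ fun σ ↦ exists_lift_of_etale hI hR σ

theorem EtaleLift.le_jacobson (h : EtaleLift A I) : I ≤ Ideal.jacobson ⊥ := by
  refine le_jacobson_of_forall_isUnit_one_add fun a ha ↦ ?_
  have hu : IsUnit (Algebra.ofId A (A ⧸ I) (1 + a)) := by
    simp [Algebra.ofId_apply, Ideal.Quotient.eq_zero_iff_mem.mpr ha]
  have : Algebra.Etale A (Localization.Away (1 + a)) := .of_isLocalizationAway (1 + a)
  obtain ⟨τ, -⟩ := h (Localization.Away (1 + a))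
    (IsLocalization.Away.liftAlgHom (1 + a) (f := Algebra.ofId A (A ⧸ I)) hu)
  have := (IsLocalization.Away.algebraMap_isUnit (S := Localization.Away (1 + a)) (1 + a)).map τ
  simpa using this

theorem EtaleLift.henselianRing (h : EtaleLift A I) : HenselianRing A I where
  jac := h.le_jacobson
  is_henselian f hf a₀ h₁ h₂ := exists_root_of_exists_lift f hf a₀ h₁ h₂ fun σ ↦ h _ σ

theorem henselianRing_iff_etaleLift : HenselianRing A I ↔ EtaleLift A I :=
  ⟨fun _ ↦ .of_henselianRing I, EtaleLift.henselianRing⟩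

/-- A lift of a section into any henselian pair, for an algebra over another base. -/
theorem exists_algHom_lift {R : Type v} [CommRing R] [Algebra R A] [HenselianRing A I]
    {S : Type*} [CommRing S] [Algebra R S] [Algebra.Etale R S] (σ : S →ₐ[R] A ⧸ I) :
    ∃ τ : S →ₐ[R] A, (Ideal.Quotient.mkₐ R I).comp τ = σ := by
  let σA : TensorProduct R A S →ₐ[A] A ⧸ I :=
    Algebra.TensorProduct.lift (Algebra.ofId A (A ⧸ I)) σ fun _ _ ↦ .all _ _
  obtain ⟨τ, hτ⟩ := exists_lift_of_etale (HenselianRing.jac) (rootCond_of_henselianRing I) σA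
  refine ⟨(τ.restrictScalars R).comp Algebra.TensorProduct.includeRight, ?_⟩
  ext x
  simpa [σA] using AlgHom.congr_fun hτ (1 ⊗ₜ x)

/-- Coprime monic factorizations lift along henselian pairs. -/
theorem exists_factor_lift [HenselianRing A I] (f : A[X]) (hf : f.Monic) (g₀ h₀ : (A ⧸ I)[X])
    (hg : g₀.Monic) (hh : h₀.Monic) (hc : IsCoprime g₀ h₀)
    (he : f.map (Ideal.Quotient.mk I) = g₀ * h₀) :
    ∃ g h : A[X], g.Monic ∧ h.Monic ∧ IsCoprime g h ∧ f = g * h ∧
      g.map (Ideal.Quotient.mk I) = g₀ ∧ h.map (Ideal.Quotient.mk I) = h₀ := by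
  rcases subsingleton_or_nontrivial (A ⧸ I) with hsub | hnt
  · have hIT : I = ⊤ := Ideal.Quotient.subsingleton_iff.mp hsub
    have : Subsingleton A := by
      have := (HenselianRing.jac (I := I))
      rw [hIT, top_le_iff, Ideal.jacobson_eq_top_iff] at this
      exact Submodule.subsingleton_iff A |>.mp (subsingleton_of_bot_eq_top this.symm.symm)
    exact ⟨1, 1, monic_one, monic_one, isCoprime_one_left, Subsingleton.elim _ _,
      Subsingleton.elim _ _, Subsingleton.elim _ _⟩
  have := RingHom.domain_nontrivial (Ideal.Quotient.mk I)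
  have hn : f.natDegree = g₀.natDegree + h₀.natDegree := by
    rw [← hg.natDegree_mul hh, ← he, hf.natDegree_map]
  let p : MonicDegreeEq A f.natDegree := .mk f hf rfl
  let σ := (UniversalCoprimeFactorizationRing.homEquiv (A ⧸ I) _ _ hn p).symm
    ⟨(.mk g₀ hg rfl, .mk h₀ hh rfl), he.symm, hc⟩
  obtain ⟨τ, hτ⟩ := exists_lift_of_etale (HenselianRing.jac) (rootCond_of_henselianRing I) σ
  obtain ⟨hq, hqc⟩ := (UniversalCoprimeFactorizationRing.homEquiv A _ _ hn p τ).2
  refine ⟨_, _, MonicDegreeEq.monic _, MonicDegreeEq.monic _, hqc,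
    by rw [hq]; simp [p, MonicDegreeEq.mk], ?_, ?_⟩
  · have := UniversalCoprimeFactorizationRing.homEquiv_comp_fst (S := A) _ _ hn p τ
      (Ideal.Quotient.mkₐ A I)
    rw [hτ, Equiv.apply_symm_apply] at this
    exact (congrArg Subtype.val this).symm
  · have := UniversalCoprimeFactorizationRing.homEquiv_comp_snd (S := A) _ _ hn p τ
      (Ideal.Quotient.mkₐ A I)
    rw [hτ, Equiv.apply_symm_apply] at this
    exact (congrArg Subtype.val this).symm

section Idempotent

variable {B : Type v} [CommRing B] [Algebra A B] [Algebra.IsIntegral A B]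

/-- Idempotents of integral algebras lift along henselian pairs. -/
theorem exists_isIdempotentElem_lift [HenselianRing A I] {b : B}
    (hb : b * b - b ∈ I.map (algebraMap A B)) :
    ∃ e : B, IsIdempotentElem e ∧ e - b ∈ I.map (algebraMap A B) := by
  set IB := I.map (algebraMap A B)
  obtain ⟨p, hp, hpy, hpI⟩ := exists_monic_aeval_eq_zero_forall_mem_of_mem_map hb
  set n := p.natDegree with hn
  rcases subsingleton_or_nontrivial A with hA | hA
  · have : Subsingleton B := Module.subsingleton A B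
    exact ⟨b, Subsingleton.elim _ _, by simp⟩
  have hpmap : p.map (Ideal.Quotient.mk I) = X ^ n := by
    ext i
    rw [coeff_map, coeff_X_pow]
    split_ifs with h
    · subst h; rw [hp.coeff_natDegree, map_one]
    · exact Ideal.Quotient.eq_zero_iff_mem.mpr (hpI i h)
  have hq : (X * (X - 1) : A[X]).Monic := monic_X.mul (monic_X_sub_C 1)
  set f := p.comp (X * (X - 1)) with hf
  have hfm : f.Monic := hp.comp hq (by
    rw [← map_one (C : A →+* A[X]), monic_X.natDegree_mul (monic_X_sub_C 1)]; simp)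
  have hfb : aeval b f = 0 := by
    rw [hf, aeval_comp, map_mul, map_sub, aeval_X, map_one, mul_sub, mul_one, hpy]
  have hfmap : f.map (Ideal.Quotient.mk I) = X ^ n * (X - 1) ^ n := by
    rw [hf, map_comp, hpmap]; simp [mul_pow]
  have hcop : IsCoprime ((X : (A ⧸ I)[X]) ^ n) ((X - 1) ^ n) :=
    IsCoprime.pow ⟨1, -1, by ring⟩
  obtain ⟨g, h, -, -, ⟨a, c, hac⟩, hfgh, hgm, hhm⟩ := exists_factor_lift f hfm _ _
    (monic_X_pow n) ((monic_X_sub_C (1 : A ⧸ I)).pow n) hcop (by simpa using hfmap)
  have hgh : aeval b g * aeval b h = 0 := by rw [← map_mul, ← hfgh, hfb]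
  have hsum : aeval b a * aeval b g + aeval b c * aeval b h = 1 := by
    rw [← map_mul, ← map_mul, ← map_add, hac, map_one]
  refine ⟨aeval b a * aeval b g, ?_, ?_⟩
  · show _ * _ = _
    calc aeval b a * aeval b g * (aeval b a * aeval b g)
        = aeval b a * aeval b g * (aeval b a * aeval b g + aeval b c * aeval b h) -
          aeval b a * aeval b c * (aeval b g * aeval b h) := by ring
      _ = _ := by rw [hgh, hsum]; ring
  · -- modulo `I B`
    let φ := Ideal.Quotient.mk IB
    let κ : A ⧸ I →+* B ⧸ IB := Ideal.quotientMap IB (algebraMap A B) Ideal.le_comap_map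
    have hφ : ∀ q : A[X], φ (aeval b q) = eval₂ κ (φ b) (q.map (Ideal.Quotient.mk I)) := by
      intro q
      rw [aeval_def, hom_eval₂, eval₂_map]; rfl
    have he : φ b * φ b = φ b := by
      rw [← map_mul, Ideal.Quotient.eq]; exact hb
    have hs := congrArg φ hsum
    rw [← Ideal.Quotient.eq]
    show φ (aeval b a * aeval b g) = φ b
    rw [map_add, map_mul, map_mul, map_one, hφ g, hφ h, hgm, hhm, eval₂_pow, eval₂_pow,
      eval₂_sub, eval₂_X, eval₂_C, map_one] at hs
    rw [map_mul, hφ g, hgm, eval₂_pow, eval₂_X]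
    rcases Nat.eq_zero_or_pos n with h0 | h0
    · -- `p = 1`, so `B` is trivial
      rw [hn, hp.natDegree_eq_zero] at h0
      rw [h0, map_one] at hpy
      exact Subsingleton.elim (h := subsingleton_of_zero_eq_one (by rw [← map_one φ, hpy, map_zero]))
        _ _
    · obtain ⟨m, hm⟩ := Nat.exists_eq_add_of_le' h0
      have hz : φ b * (φ b - 1) ^ n = 0 := by
        rw [hm, pow_succ', ← mul_assoc, mul_sub, he, mul_one, sub_self, zero_mul]
      have hpow : φ b ^ n = φ b := by
        rw [hm]; exact IsIdempotentElem.pow_succ_eq m he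
      have := congrArg (φ b * ·) hs
      simp only [mul_add, mul_one] at this
      rw [mul_left_comm (φ b) (φ (aeval b c)), hz, mul_zero, add_zero, hpow,
        mul_left_comm (φ b), he] at this
      rw [hpow, this]

theorem idempotent_bijOn [HenselianRing A I] :
    Set.BijOn (Ideal.Quotient.mk (I.map (algebraMap A B)))
      {e : B | IsIdempotentElem e} {e | IsIdempotentElem e} := by
  refine ⟨fun e he ↦ he.map _, fun e he f hf h ↦ ?_, fun e' he' ↦ ?_⟩
  · exact eq_of_isIdempotentElem_of_sub_mem (map_le_jacobson_of_isIntegral HenselianRing.jac) he hf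
      (Ideal.Quotient.eq.mp h)
  · obtain ⟨b, rfl⟩ := Ideal.Quotient.mk_surjective e'
    obtain ⟨e, he, heb⟩ := exists_isIdempotentElem_lift (I := I) (b := b)
      (Ideal.Quotient.eq.mp (by rw [map_mul]; exact he'))
    exact ⟨e, he, Ideal.Quotient.eq.mpr heb⟩

end Idempotent

/-- A simple root lifts as soon as the idempotent cutting it out in `A[X]/(f)` does. -/
theorem exists_root_of_idem_lift (hI : I ≤ Ideal.jacobson ⊥) (f : A[X]) (hf : f.Monic) (a₀ : A)
    (h₁ : f.eval a₀ ∈ I) (h₂ : IsUnit (Ideal.Quotient.mk I (f.derivative.eval a₀)))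
    (H : ∀ d : AdjoinRoot f, d * d - d ∈ I.map (algebraMap A (AdjoinRoot f)) →
      (∀ r : A[X], d * aeval (AdjoinRoot.root f) r - algebraMap A (AdjoinRoot f) (r.eval a₀) * d
        ∈ I.map (algebraMap A (AdjoinRoot f))) →
      (∃ P : A[X], d = aeval (AdjoinRoot.root f) P ∧ P.eval a₀ = 1) →
      ∃ e, IsIdempotentElem e ∧ e - d ∈ I.map (algebraMap A (AdjoinRoot f))) :
    ∃ a : A, f.IsRoot a ∧ a - a₀ ∈ I := by
  rcases subsingleton_or_nontrivial A with hA | hA
  · exact ⟨a₀, Subsingleton.elim _ _, by simp⟩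
  let B := AdjoinRoot f
  have : Module.Finite A B := hf.finite_adjoinRoot
  set IB := I.map (algebraMap A B)
  obtain ⟨q, hq⟩ := X_sub_C_dvd_sub_C_eval (p := f) (a := a₀)
  have hq1 : q.eval a₀ = f.derivative.eval a₀ := by
    have := congrArg (fun r ↦ r.derivative.eval a₀) hq
    simpa using this.symm
  obtain ⟨w, hw⟩ := isUnit_of_isUnit_mk hI (a := q.eval a₀) (by rwa [hq1])
  set x : B := AdjoinRoot.root f
  have hxq : (x - algebraMap A B a₀) * aeval x q ∈ IB := by
    have : aeval x (f - C (f.eval a₀)) = (x - algebraMap A B a₀) * aeval x q := by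
      rw [hq]; simp
    rw [← this, map_sub, aeval_C, AdjoinRoot.aeval_eq, AdjoinRoot.mk_self, zero_sub]
    exact IB.neg_mem (Ideal.mem_map_of_mem _ h₁)
  set d : B := algebraMap A B ↑w⁻¹ * aeval x q
  have hd : ∀ r : A[X], d * aeval x r - algebraMap A B (r.eval a₀) * d ∈ IB := by
    intro r
    obtain ⟨s, hs⟩ := X_sub_C_dvd_sub_C_eval (p := r) (a := a₀)
    have : aeval x r - algebraMap A B (r.eval a₀) = (x - algebraMap A B a₀) * aeval x s := by
      simpa using congrArg (aeval x) hs
    have h2 : d * aeval x r - algebraMap A B (r.eval a₀) * d =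
        algebraMap A B ↑w⁻¹ * aeval x s * ((x - algebraMap A B a₀) * aeval x q) := by
      rw [mul_comm _ d, ← mul_sub, this]; ring
    rw [h2]
    exact IB.mul_mem_left _ hxq
  have hdd : d * d - d ∈ IB := by
    have := hd (C (↑w⁻¹ : A) * q)
    rwa [map_mul, aeval_C, eval_mul, eval_C, ← hw, Units.inv_mul, map_one, one_mul] at this
  obtain ⟨e, he, hed'⟩ := H d hdd hd
    ⟨C (↑w⁻¹ : A) * q, by rw [map_mul, aeval_C], by rw [eval_mul, eval_C, ← hw, Units.inv_mul]⟩
  have hed : Ideal.Quotient.mk IB e = Ideal.Quotient.mk IB d := Ideal.Quotient.eq.mpr hed'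
  have hspan := mul_mem_span_of_isIdempotentElem hI he (B := B) (by
    intro y
    obtain ⟨r, rfl⟩ := AdjoinRoot.mk_surjective y
    refine ⟨r.eval a₀, ?_⟩
    rw [← AdjoinRoot.aeval_eq, Algebra.smul_def]
    have h3 : e * aeval x r - algebraMap A B (r.eval a₀) * e =
        (e - d) * (aeval x r - algebraMap A B (r.eval a₀)) +
          (d * aeval x r - algebraMap A B (r.eval a₀) * d) := by ring
    rw [h3]
    exact IB.add_mem (IB.mul_mem_right _ hed') (hd r))
  -- `A → e B` is injective
  obtain ⟨P, hP⟩ := AdjoinRoot.mk_surjective e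
  let ψ : B →ₐ[A] A ⧸ I := AdjoinRoot.liftAlgHom f (Algebra.ofId A (A ⧸ I))
    (Ideal.Quotient.mk I a₀) (by
      show eval₂ (Ideal.Quotient.mk I) (Ideal.Quotient.mk I a₀) f = 0
      rw [eval₂_hom]; exact Ideal.Quotient.eq_zero_iff_mem.mpr h₁)
  have hψ : ∀ r : A[X], ψ (aeval x r) = Ideal.Quotient.mk I (r.eval a₀) := by
    intro r
    rw [← aeval_algHom_apply,
      show ψ x = algebraMap A (A ⧸ I) a₀ from AdjoinRoot.liftAlgHom_root ..,
      aeval_algebraMap_apply_eq_algebraMap_eval]
    rfl
  have hψe : ψ e = 1 := by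
    have hmem : e - d ∈ IB := Ideal.Quotient.eq.mp hed
    have := algHom_quotient_map_eq_zero ψ hmem
    rw [map_sub, sub_eq_zero] at this
    rw [this, show d = aeval x (C (↑w⁻¹ : A) * q) by simp [d], hψ, eval_mul, eval_C, ← hw,
      Units.inv_mul, map_one]
  have hinj : ∀ a : A, algebraMap A B a * e = 0 → a = 0 := by
    intro a ha
    set P' := P %ₘ f
    have hP' : aeval x P' = e := by
      rw [← hP, AdjoinRoot.aeval_eq]
      conv_rhs => rw [← modByMonic_add_div P f]
      simp [P']
    have hzero : C a * P' = 0 := by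
      rw [← hP', show algebraMap A B a * aeval x P' = aeval x (C a * P') by simp,
        AdjoinRoot.aeval_eq, AdjoinRoot.mk_eq_zero] at ha
      by_contra hne
      exact hf.not_dvd_of_degree_lt hne
        (((degree_mul_le _ _).trans (add_le_add_left degree_C_le _)).trans_lt
          (by simpa [P'] using degree_modByMonic_lt P hf)) ha
    have hu : IsUnit (P'.eval a₀) := by
      refine isUnit_of_isUnit_mk hI ?_
      rw [← hψ, hP', hψe]
      exact isUnit_one
    refine hu.mul_left_eq_zero.mp ?_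
    rw [← eval_C (a := a) (x := a₀), ← eval_mul, hzero, eval_zero]
  obtain ⟨α, hα⟩ := hspan x
  have hpow : ∀ r : A[X], e * aeval x r = algebraMap A B (r.eval α) * e := by
    intro r
    induction r using Polynomial.induction_on with
    | C a => simp [mul_comm]
    | add p q hp hq => simp [mul_add, hp, hq, add_mul]
    | monomial n a h =>
      rw [pow_succ, ← mul_assoc, map_mul, ← mul_assoc, h, mul_assoc, aeval_X, hα]
      simp only [eval_mul, map_mul, eval_X]
      ring
  refine ⟨α, ?_, ?_⟩
  · exact hinj _ (by rw [← hpow, AdjoinRoot.aeval_eq, AdjoinRoot.mk_self, mul_zero])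
  · rw [← Ideal.Quotient.eq]
    have := congrArg ψ hα
    rw [map_mul, map_mul, hψe, one_mul, mul_one, AlgHom.commutes] at this
    rw [show x = aeval x (X : A[X]) by simp, hψ, eval_X] at this
    exact this.symm

/-- Idempotent lifting for finite algebras characterises henselian pairs. -/
theorem henselianRing_of_idempotents_bijOn
    (H : ∀ (B : Type u) [CommRing B] [Algebra A B], Module.Finite A B →
      Set.BijOn (Ideal.Quotient.mk (I.map (algebraMap A B)))
        {e : B | IsIdempotentElem e} {e | IsIdempotentElem e}) :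
    HenselianRing A I := by
  have hI : I ≤ Ideal.jacobson ⊥ := by
    refine le_jacobson_of_forall_isUnit_one_add fun a ha ↦ ?_
    set J := Ideal.span {1 + a}
    have hone : (1 : A ⧸ J) ∈ I.map (algebraMap A (A ⧸ J)) := by
      have h1 : algebraMap A (A ⧸ J) (-a) ∈ I.map (algebraMap A (A ⧸ J)) :=
        Ideal.mem_map_of_mem _ (I.neg_mem ha)
      rwa [show algebraMap A (A ⧸ J) (-a) = 1 by
        rw [← map_one (algebraMap A (A ⧸ J)), Ideal.Quotient.algebraMap_eq,
          Ideal.Quotient.eq, Ideal.mem_span_singleton]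
        exact ⟨-1, by ring⟩] at h1
    have := (H (A ⧸ J) inferInstance).injOn (show IsIdempotentElem (1 : A ⧸ J) from .one)
      (show IsIdempotentElem (0 : A ⧸ J) from .zero) (by
        rw [map_one, map_zero, ← map_one (Ideal.Quotient.mk _)]
        exact Ideal.Quotient.eq_zero_iff_mem.mpr hone)
    rw [← Ideal.span_singleton_eq_top, ← Ideal.Quotient.subsingleton_iff]
    exact subsingleton_of_zero_eq_one this.symm
  refine ⟨hI, fun f hf a₀ h₁ h₂ ↦ exists_root_of_idem_lift hI f hf a₀ h₁ h₂ fun d hd _ _ ↦ ?_⟩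
  have := hf.finite_adjoinRoot
  obtain ⟨e, he, hed⟩ := (H (AdjoinRoot f) inferInstance).surjOn
    (show IsIdempotentElem (Ideal.Quotient.mk (I.map (algebraMap A (AdjoinRoot f))) d) by
      show _ * _ = _
      rw [← map_mul]; exact Ideal.Quotient.eq.mpr hd)
  exact ⟨e, he, Ideal.Quotient.eq.mp hed⟩

end GrothLib.Hensel
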