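import Groth.Agent.Lib.Hensel.Hull
import Groth.Prelude.Def_PBC
import Mathlib.RingTheory.Etale.Basic

/-!
# The hull is formally étale and ind-étale
-/

namespace GrothLib.Hensel

open CategoryTheory CategoryTheory.Limits

universe u

variable (A C : Type u) [CommRing A] [CommRing C] [Algebra A C]

theorem Hull.formallyEtale : Algebra.FormallyEtale A (Hull A C) := by
  refine Algebra.FormallyEtale.iff_comp_bijective.mpr fun B _ _ I hI ↦ ⟨fun f g h ↦ ?_, fun γ ↦ ?_⟩
  · refine Hull.algHom_ext fun N ↦ (Algebra.FormallyEtale.comp_bijective A N.Ring I hI).1 ?_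
    show (Ideal.Quotient.mkₐ A I).comp (f.comp (Hull.ι N)) =
      (Ideal.Quotient.mkₐ A I).comp (g.comp (Hull.ι N))
    rw [← AlgHom.comp_assoc, ← AlgHom.comp_assoc]
    exact congrArg (fun k : Hull A C →ₐ[A] B ⧸ I ↦ k.comp (Hull.ι N)) h
  · choose l hl using fun N : Nbhd A C ↦
      (Algebra.FormallyEtale.comp_bijective A N.Ring I hI).2 (γ.comp (Hull.ι N))
    have hcomp : ∀ {N M : Nbhd A C} (f : N ⟶ M), (l M).comp f.map = l N := fun {N M} f ↦ by
      refine (Algebra.FormallyEtale.comp_bijective A N.Ring I hI).1 ?_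
      show (Ideal.Quotient.mkₐ A I).comp ((l M).comp f.map) = (Ideal.Quotient.mkₐ A I).comp (l N)
      rw [← AlgHom.comp_assoc, hl, hl, AlgHom.comp_assoc]
      exact congrArg γ.comp (AlgHom.ext (Hull.ι_map f))
    refine ⟨Hull.desc l hcomp, Hull.algHom_ext fun N ↦ AlgHom.ext fun x ↦ ?_⟩
    simp only [AlgHom.comp_apply, Hull.desc_ι]
    exact AlgHom.congr_fun (hl N) x

/-- The diagram of algebras. -/
noncomputable def Nbhd.underDiagram : Nbhd A C ⥤ Under (CommRingCat.of A) where
  obj N := Under.mk (CommRingCat.ofHom (algebraMap A N.Ring))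
  map {N M} f := Under.homMk (CommRingCat.ofHom f.map.toRingHom) (by
    ext a
    exact f.map.commutes a)
  map_id N := by ext x; rfl
  map_comp f g := by ext x; rfl

/-- The cocone under `A` with vertex the hull. -/
noncomputable def Hull.underCocone : Cocone (Nbhd.underDiagram A C) where
  pt := Under.mk (CommRingCat.ofHom (algebraMap A (Hull A C)))
  ι :=
    { app := fun N ↦ Under.homMk (CommRingCat.ofHom (Hull.ι N).toRingHom) (by
        ext a
        exact (Hull.ι N).commutes a)
      naturality := fun N M f ↦ by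
        ext x
        exact Hull.ι_map f x }

/-- The algebra maps underlying a cocone under `A`. -/
noncomputable def Hull.underLeg (s : Cocone (Nbhd.underDiagram A C)) (N : Nbhd A C) :
    letI : Algebra A s.pt.right := s.pt.hom.hom.toAlgebra
    N.Ring →ₐ[A] s.pt.right :=
  letI : Algebra A s.pt.right := s.pt.hom.hom.toAlgebra
  { (s.ι.app N).right.hom with
    commutes' := fun a ↦
      RingHom.congr_fun (congrArg CommRingCat.Hom.hom (Under.w (s.ι.app N))) a }

theorem Hull.underLeg_comp (s : Cocone (Nbhd.underDiagram A C)) {N M : Nbhd A C} (f : N ⟶ M) :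
    letI : Algebra A s.pt.right := s.pt.hom.hom.toAlgebra
    (Hull.underLeg A C s M).comp f.map = Hull.underLeg A C s N :=
  letI : Algebra A s.pt.right := s.pt.hom.hom.toAlgebra
  AlgHom.ext fun x ↦ RingHom.congr_fun (congrArg (fun g ↦ g.right.hom) (s.w f)) x

/-- The hull is a colimit in algebras. -/
noncomputable def Hull.underCoconeIsColimit : IsColimit (Hull.underCocone A C) where
  desc s :=
    letI : Algebra A s.pt.right := s.pt.hom.hom.toAlgebra
    Under.homMk (CommRingCat.ofHom
      (Hull.desc (Hull.underLeg A C s) (Hull.underLeg_comp A C s)).toRingHom) (by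
        ext a
        exact (Hull.desc (Hull.underLeg A C s) (Hull.underLeg_comp A C s)).commutes a)
  fac s N := by
    let _ : Algebra A s.pt.right := s.pt.hom.hom.toAlgebra
    ext x
    exact Hull.desc_ι (Hull.underLeg A C s) (Hull.underLeg_comp A C s) N x
  uniq s m hm := by
    let _ : Algebra A s.pt.right := s.pt.hom.hom.toAlgebra
    ext x
    obtain ⟨N, a, rfl⟩ := Hull.exists_ι x
    exact (RingHom.congr_fun (congrArg (fun g ↦ g.right.hom) (hm N)) a).trans
      (Hull.desc_ι (Hull.underLeg A C s) (Hull.underLeg_comp A C s) N a).symm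

theorem Hull.isIndEtale : EtPBC.IsIndEtale A (Hull A C) := by
  refine ⟨Nbhd A C, inferInstance, inferInstance, Nbhd.underDiagram A C, Hull.underCocone A C,
    Hull.underCoconeIsColimit A C, fun N ↦ ?_, ⟨Iso.refl _⟩⟩
  have h : (algebraMap A N.Ring).toAlgebra = (inferInstance : Algebra A N.Ring) :=
    Algebra.algebra_ext _ _ fun _ ↦ rfl
  show @Algebra.Etale A N.Ring _ _ (algebraMap A N.Ring).toAlgebra
  rw [h]
  exact N.etale

variable {A}

theorem isIndEtale_of_algEquiv {B B' : Type u} [CommRing B] [Algebra A B] [CommRing B']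
    [Algebra A B'] (h : EtPBC.IsIndEtale A B) (e : B ≃ₐ[A] B') : EtPBC.IsIndEtale A B' := by
  obtain ⟨J, i1, i2, D, c, hc, het, ⟨i⟩⟩ := h
  refine ⟨J, i1, i2, D, c, hc, het, ⟨i ≪≫ Under.isoMk e.toRingEquiv.toCommRingCatIso ?_⟩⟩
  ext a
  exact e.commutes a

end GrothLib.Hensel
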