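import Groth.Agent.Lib.Hensel.HullExtra
import Groth.Agent.Lib.Hensel.Local
import Groth.Agent.Lib.Hensel.PairHull
import Groth.Prelude.Def_Hensel
import Mathlib.RingTheory.Unramified.LocalRing

/-!
# Henselization and strict henselization of local rings

For a field `C` with a local map `R → C`, `Hull R C` is a henselian local ring with maximal ideal
generated by that of `R`.  `C` the residue field gives the henselization, `C` a separable closure
of the residue field gives the strict henselization.
-/

namespace GrothLib.Hensel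

open IsLocalRing Polynomial

universe u

instance isLocalHom_algebraMap_residueField {R : Type u} [CommRing R] [IsLocalRing R] :
    IsLocalHom (algebraMap R (ResidueField R)) :=
  inferInstanceAs (IsLocalHom (residue R))

theorem isLocalHom_algebraMap_of_residueField {R : Type u} [CommRing R] [IsLocalRing R]
    (C : Type u) [Field C] [Algebra R C] [Algebra (ResidueField R) C]
    [IsScalarTower R (ResidueField R) C] : IsLocalHom (algebraMap R C) := by
  rw [IsScalarTower.algebraMap_eq R (ResidueField R) C]
  infer_instance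

namespace FieldHull

variable {R : Type u} [CommRing R] [IsLocalRing R] {C : Type u} [Field C] [Algebra R C]

theorem isUnit_iff (x : Hull R C) : IsUnit x ↔ Hull.proj x ≠ 0 :=
  ⟨fun h ↦ (h.map Hull.proj).ne_zero, fun h ↦ Hull.isUnit_of_isUnit_proj h.isUnit⟩

instance : Nontrivial (Hull R C) := (Hull.proj (A := R) (C := C)).toRingHom.domain_nontrivial

instance : IsLocalRing (Hull R C) := by
  refine .of_nonunits_add fun {a b} ha hb ↦ ?_
  simp only [mem_nonunits_iff, isUnit_iff, ne_eq, not_not] at *
  rw [map_add, ha, hb, add_zero]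

theorem maximalIdeal_eq :
    maximalIdeal (Hull R C) = RingHom.ker (Hull.proj : Hull R C →ₐ[R] C).toRingHom := by
  ext x
  simp [mem_maximalIdeal, mem_nonunits_iff, isUnit_iff]

instance : IsLocalHom (Hull.proj : Hull R C →ₐ[R] C).toRingHom :=
  ⟨fun _ h ↦ Hull.isUnit_of_isUnit_proj h⟩

instance [IsLocalHom (algebraMap R C)] : IsLocalHom (algebraMap R (Hull R C)) :=
  ⟨fun r h ↦ isUnit_of_map_unit (algebraMap R C) r (by
    simpa using h.map (Hull.proj : Hull R C →ₐ[R] C))⟩

instance henselianLocalRing : HenselianLocalRing (Hull R C) := by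
  refine henselianLocalRing_of_henselianRing ?_
  rw [maximalIdeal_eq]
  exact Hull.henselianRing

theorem map_maximalIdeal [IsLocalHom (algebraMap R C)] :
    (maximalIdeal R).map (algebraMap R (Hull R C)) = maximalIdeal (Hull R C) := by
  refine le_antisymm (((local_hom_TFAE _).out 0 2 rfl rfl).mp inferInstance) fun x hx ↦ ?_
  rw [maximalIdeal_eq] at hx
  obtain ⟨N, a, rfl⟩ := Hull.exists_ι x
  have hq : (RingHom.ker N.pt.toRingHom).IsPrime := RingHom.ker_isPrime _
  have ha : a ∈ RingHom.ker N.pt.toRingHom := (Hull.proj_ι N a).symm.trans hx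
  let S := Localization.AtPrime (RingHom.ker N.pt.toRingHom)
  have : IsLocalHom (algebraMap R S) := ⟨fun r hr ↦ by
    rw [IsScalarTower.algebraMap_apply R N.Ring S,
      IsLocalization.AtPrime.isUnit_to_map_iff S (RingHom.ker N.pt.toRingHom)] at hr
    refine isUnit_of_map_unit (algebraMap R C) r ?_
    have h : N.pt (algebraMap R N.Ring r) ≠ 0 := hr
    rw [AlgHom.commutes] at h
    exact h.isUnit⟩
  have h := IsLocalization.AtPrime.to_map_mem_maximal_iff S (RingHom.ker N.pt.toRingHom) a |>.mpr ha
  rw [← Algebra.FormallyUnramified.map_maximalIdeal (R := R) (S := S),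
    IsScalarTower.algebraMap_eq R N.Ring S, ← Ideal.map_map,
    IsLocalization.mem_map_algebraMap_iff (RingHom.ker N.pt.toRingHom).primeCompl] at h
  obtain ⟨⟨⟨b, hb⟩, ⟨s, hs⟩⟩, he⟩ := h
  rw [← map_mul, IsLocalization.eq_iff_exists (RingHom.ker N.pt.toRingHom).primeCompl] at he
  obtain ⟨⟨c, hc⟩, he⟩ := he
  have hcs : N.pt (c * s) ≠ 0 := by
    rw [map_mul]; exact mul_ne_zero hc hs
  have hmem := Ideal.mem_map_of_mem (Hull.ι N).toRingHom
    (show c * (a * s) ∈ (maximalIdeal R).map (algebraMap R N.Ring) by
      rw [show c * (a * s) = c * b from he]; exact Ideal.mul_mem_left _ _ hb)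
  rw [Ideal.map_map, show (Hull.ι N).toRingHom.comp (algebraMap R N.Ring) =
    algebraMap R (Hull R C) from (Hull.ι N).comp_algebraMap] at hmem
  have hmem' : Hull.ι N (c * s) * Hull.ι N a ∈
      (maximalIdeal R).map (algebraMap R (Hull R C)) := by
    rw [← map_mul, show c * s * a = c * (a * s) by ring]; exact hmem
  exact (Ideal.unit_mul_mem_iff_mem _ (Hull.isUnit_of_isUnit_proj
    (by rw [Hull.proj_ι]; exact hcs.isUnit))).mp hmem'

section Residue

variable [Algebra (ResidueField R) C] [IsScalarTower R (ResidueField R) C]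

instance : IsLocalHom (algebraMap R C) := isLocalHom_algebraMap_of_residueField C

/-- The residue field of the hull maps to `C`. -/
noncomputable def residueMap : ResidueField (Hull R C) →ₐ[ResidueField R] C where
  toRingHom := ResidueField.lift (Hull.proj : Hull R C →ₐ[R] C).toRingHom
  commutes' r := by
    obtain ⟨r, rfl⟩ := residue_surjective r
    show ResidueField.lift (Hull.proj : Hull R C →ₐ[R] C).toRingHom
      (residue (Hull R C) (algebraMap R (Hull R C) r)) = _
    rw [ResidueField.lift_residue_apply]
    exact ((Hull.proj : Hull R C →ₐ[R] C).commutes r).trans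
      (IsScalarTower.algebraMap_apply R (ResidueField R) C r)

theorem residueMap_residue (x : Hull R C) : residueMap (residue (Hull R C) x) = Hull.proj x :=
  ResidueField.lift_residue_apply _ _

theorem exists_nbhd_of_isSeparable [Algebra.IsSeparable (ResidueField R) C] (c : C) :
    ∃ (N : Nbhd R C) (a : N.Ring), N.pt a = c := by
  have hsep : IsSeparable (ResidueField R) c := Algebra.IsSeparable.isSeparable _ c
  set g := minpoly (ResidueField R) c
  have hg : g.Monic := minpoly.monic hsep.isIntegral
  obtain ⟨f, hf, -, hfm⟩ := lifts_and_degree_eq_and_monic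
    ((Polynomial.map_surjective (residue R) residue_surjective g) |> fun ⟨f, hf⟩ ↦
      (⟨f, hf⟩ : g ∈ Polynomial.lifts (residue R))) hg
  let P := simpleRootPair f hfm
  have hev : ∀ q : R[X], aeval c q = aeval c (q.map (residue R)) := fun q ↦
    (aeval_map_algebraMap (ResidueField R) c q).symm
  have hmap : P.HasMap c := by
    refine ⟨?_, ?_⟩
    · rw [hev]
      show aeval c (f.map (residue R)) = 0
      rw [hf]; exact minpoly.aeval _ _
    · rw [hev]
      show IsUnit (aeval c (f.derivative.map (residue R)))
      rw [← derivative_map, hf]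
      exact (hsep.aeval_derivative_ne_zero (minpoly.aeval _ _)).isUnit
  refine ⟨Nbhd.ofEtale P.Ring (P.lift c hmap), Nbhd.ofEtaleEquiv P.Ring (P.lift c hmap) P.X, ?_⟩
  exact (AlgHom.congr_fun (Nbhd.ofEtale_pt P.Ring (P.lift c hmap)) P.X).trans (P.lift_X _ hmap)

variable [Algebra.IsSeparable (ResidueField R) C]

theorem residueMap_bijective : Function.Bijective (residueMap : ResidueField (Hull R C) → C) := by
  refine ⟨RingHom.injective _, fun c ↦ ?_⟩
  obtain ⟨x, rfl⟩ := Hull.proj_surjective (exists_nbhd_of_isSeparable (R := R)) c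
  exact ⟨residue _ x, residueMap_residue x⟩

/-- The residue field of the hull is `C`. -/
noncomputable def residueEquiv : ResidueField (Hull R C) ≃ₐ[ResidueField R] C :=
  AlgEquiv.ofBijective residueMap residueMap_bijective

theorem residueEquiv_residue (x : Hull R C) : residueEquiv (residue (Hull R C) x) = Hull.proj x :=
  residueMap_residue x

end Residue

end FieldHull

theorem isSepClosure_of_algEquiv {k K L : Type u} [Field k] [Field K] [Field L] [Algebra k K]
    [Algebra k L] (e : K ≃ₐ[k] L) [hK : IsSepClosure k K] : IsSepClosure k L := by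
  have : IsSepClosed K := hK.sep_closed
  have : Algebra.IsSeparable k K := hK.separable
  refine ⟨IsSepClosed.of_exists_root L fun p hp hirr hsep ↦ ?_, AlgEquiv.Algebra.isSeparable e⟩
  obtain ⟨x, hx⟩ := IsSepClosed.exists_root (p.map e.symm.toRingEquiv.toRingHom) (by
    rw [Polynomial.degree_map]
    exact hirr.degree_pos.ne') hsep.map
  refine ⟨e x, ?_⟩
  rw [IsRoot, eval_map] at hx
  have h := congrArg e.toRingEquiv.toRingHom hx
  rw [hom_eval₂, map_zero] at h
  rw [eval_eq_sum_range] 
  rw [eval₂_eq_sum_range] at h
  simpa using h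

end GrothLib.Hensel
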