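import Groth.Agent.Lib.Hensel.BranchCount
import Mathlib.RingTheory.LocalProperties.Reduced
import Groth.Agent.Lib.Hensel.Henselization
import Groth.Prelude.Def_Brnch
import Groth.Prelude.Def_Hensel

/-!
# Branches of a local ring and minimal primes of its (strict) henselization
-/

namespace GrothLib.Hensel

open scoped TensorProduct
open IsLocalRing

universe u

/-- The total ring of fractions of a reduced ring with finitely many minimal primes is absolutely
flat. -/
theorem absFlat_fractionRing (B : Type u) [CommRing B] [IsReduced B]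
    (hfin : (minimalPrimes B).Finite) : AbsFlat (FractionRing B) := by
  have : IsReduced (FractionRing B) := inferInstanceAs (IsReduced (Localization (nonZeroDivisors B)))
  have hmin : ∀ q : Ideal (FractionRing B), q.IsPrime →
      q.comap (algebraMap B (FractionRing B)) ∈ minimalPrimes B := by
    intro q hq
    obtain ⟨-, hdisj⟩ :=
      (IsLocalization.isPrime_iff_isPrime_disjoint (nonZeroDivisors B) (FractionRing B) q).mp hq
    have hsub : (q.comap (algebraMap B (FractionRing B)) : Set B) ⊆
        ⋃ i ∈ (↑hfin.toFinset : Set (Ideal B)), (i : Set B) := by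
      intro x hx
      by_contra hnot
      simp only [Set.Finite.coe_toFinset, Set.mem_iUnion, SetLike.mem_coe, not_exists] at hnot
      refine Set.disjoint_right.mp hdisj hx ?_
      rw [SetLike.mem_coe, mem_nonZeroDivisors_iff_right]
      intro y hy
      have hmem : y ∈ sInf (⊥ : Ideal B).minimalPrimes := by
        rw [Ideal.mem_sInf]
        intro p hp
        exact (hp.1.1.mem_or_mem (hy ▸ p.zero_mem)).resolve_right (hnot p hp)
      rw [Ideal.sInf_minimalPrimes] at hmem
      obtain ⟨n, hn⟩ := hmem
      exact IsNilpotent.eq_zero ⟨n, hn⟩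
    obtain ⟨i, hi, hle⟩ := (Ideal.subset_union_prime (f := id) ⊥ ⊥
      (fun i hi _ _ ↦ (hfin.mem_toFinset.mp hi).1.1)).mp hsub
    rw [hfin.mem_toFinset] at hi
    exact hi.1.1 |> fun h ↦ (le_antisymm hle (hi.2 ⟨hq.comap _, bot_le⟩ hle)) ▸ hi
  refine absFlat_of_isReduced _ fun q hq ↦ ?_
  obtain ⟨m, hm, hle⟩ := Ideal.exists_le_maximal q hq.ne_top
  have h := le_antisymm (Ideal.comap_mono hle)
    ((hmin m hm.isPrime).2 ⟨hq.comap _, bot_le⟩ (Ideal.comap_mono hle))
  have h' : q = m := by
    rw [← IsLocalization.map_under (nonZeroDivisors B) (FractionRing B) q,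
      ← IsLocalization.map_under (nonZeroDivisors B) (FractionRing B) m]
    exact congrArg _ h
  rwa [h']

section NormRed

variable (A : Type u) [CommRing A]

/-- The normalization of the reduction as an algebra map into the total ring of fractions. -/
noncomputable def normVal : CAlg2.normRed A →ₐ[A] FractionRing (CAlg2.red A) :=
  (integralClosure (CAlg2.red A) (FractionRing (CAlg2.red A))).val.restrictScalars A

theorem normVal_injective : Function.Injective (normVal A) := Subtype.val_injective

instance isIntegral_normRed : Algebra.IsIntegral A (CAlg2.normRed A) :=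
  have : Algebra.IsIntegral A (CAlg2.red A) :=
    ⟨fun x ↦ by obtain ⟨a, rfl⟩ := Ideal.Quotient.mk_surjective x; exact isIntegral_algebraMap⟩
  Algebra.IsIntegral.trans (CAlg2.red A)

theorem exists_normVal_eq (k : FractionRing (CAlg2.red A)) (hk : IsIntegral A k) :
    ∃ r, normVal A r = k := ⟨⟨k, hk.tower_top⟩, rfl⟩

theorem isReduced_red : IsReduced (CAlg2.red A) :=
  (Ideal.isRadical_iff_quotient_reduced _).mp (Ideal.radical_isRadical ⊥)

theorem finite_minimalPrimes_red (h : (minimalPrimes A).Finite) :
    (minimalPrimes (CAlg2.red A)).Finite := by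
  refine Set.Finite.of_finite_image (f := Ideal.comap (Ideal.Quotient.mk (nilradical A))) ?_
    (Ideal.comap_injective_of_surjective _ Ideal.Quotient.mk_surjective).injOn
  refine h.subset ?_
  rintro - ⟨p, hp, rfl⟩
  refine ⟨⟨hp.1.1.comap _, bot_le⟩, fun q hq hle ↦ ?_⟩
  have hn : nilradical A ≤ q := by
    intro x hx
    obtain ⟨n, hn⟩ := mem_nilradical.mp hx
    exact hq.1.mem_of_pow_mem n (hn ▸ q.zero_mem)
  have hc : (q.map (Ideal.Quotient.mk (nilradical A))).comap (Ideal.Quotient.mk _) = q := by
    rw [Ideal.comap_map_of_surjective' _ Ideal.Quotient.mk_surjective, Ideal.mk_ker,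
      sup_eq_left.mpr hn]
  have hprime : (q.map (Ideal.Quotient.mk (nilradical A))).IsPrime :=
    have := hq.1
    Ideal.map_isPrime_of_surjective Ideal.Quotient.mk_surjective (by rw [Ideal.mk_ker]; exact hn)
  have : q.map (Ideal.Quotient.mk (nilradical A)) ≤ p := by
    rw [Ideal.map_le_iff_le_comap]; exact hle
  exact (Ideal.comap_mono (hp.2 ⟨hprime, bot_le⟩ this)).trans hc.le

theorem algebraMap_eq_zero_red (a : A) (ha : algebraMap A (FractionRing (CAlg2.red A)) a = 0) :
    IsNilpotent a := by
  rw [IsScalarTower.algebraMap_apply A (CAlg2.red A)] at ha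
  exact mem_nilradical.mp (Ideal.Quotient.eq_zero_iff_mem.mp
    ((IsFractionRing.injective _ _) (ha.trans (map_zero _).symm)))

theorem exists_unit_mul_eq_red (k : FractionRing (CAlg2.red A)) :
    ∃ d a, IsUnit (algebraMap A (FractionRing (CAlg2.red A)) d) ∧
      k * algebraMap A _ d = algebraMap A _ a := by
  obtain ⟨⟨a, d⟩, h⟩ := IsLocalization.surj (nonZeroDivisors (CAlg2.red A)) k
  obtain ⟨a', rfl⟩ := Ideal.Quotient.mk_surjective a
  obtain ⟨d', hd'⟩ := Ideal.Quotient.mk_surjective (d : CAlg2.red A)
  have e : ∀ b, algebraMap A (FractionRing (CAlg2.red A)) b =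
      algebraMap (CAlg2.red A) _ (Ideal.Quotient.mk _ b) := fun b ↦
    IsScalarTower.algebraMap_apply A (CAlg2.red A) _ b
  refine ⟨d', a', ?_, ?_⟩
  · rw [e, hd']; exact IsLocalization.map_units _ d
  · rw [e, e, hd']; exact h

/-- If `A` has infinitely many minimal primes, so does any faithfully flat algebra. -/
theorem enatCard_minimalPrimes_eq_top (S : Type u) [CommRing S] [Algebra A S]
    [Module.FaithfullyFlat A S] (h : ¬(minimalPrimes A).Finite) :
    ENat.card (minimalPrimes S) = ⊤ := by
  have : Infinite (minimalPrimes A) := Set.infinite_coe_iff.mpr h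
  have hex : ∀ p : minimalPrimes A, ∃ r : minimalPrimes S, r.1.comap (algebraMap A S) = p.1 := by
    rintro ⟨p, hp⟩
    have := hp.1.1
    obtain ⟨⟨P, hP⟩, hPp⟩ := PrimeSpectrum.comap_surjective_of_faithfullyFlat (A := A) (B := S) ⟨p, hp.1.1⟩
    obtain ⟨r, hr, hrP⟩ := Ideal.exists_minimalPrimes_le (bot_le : ⊥ ≤ P)
    have hle : r.comap (algebraMap A S) ≤ p :=
      (Ideal.comap_mono hrP).trans (congrArg PrimeSpectrum.asIdeal hPp).le
    exact ⟨⟨r, hr⟩, le_antisymm hle (hp.2 ⟨hr.1.1.comap _, bot_le⟩ hle)⟩
  choose f hf using hex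
  have : Infinite (minimalPrimes S) :=
    Infinite.of_injective f fun p q h ↦ Subtype.ext (by rw [← hf p, ← hf q, h])
  exact ENat.card_eq_top_of_infinite

theorem card_sigma_emb_eq_card_algHom [IsLocalRing A] :
    ENat.card (Σ m' : MaximalSpectrum (CAlg2.normRed A), Brnch.Emb A m') =
      ENat.card (CAlg2.normRed A →ₐ[A] AlgebraicClosure (ResidueField A)) := by
  have hcl : ∀ a, Brnch.toClosure A a = algebraMap A (AlgebraicClosure (ResidueField A)) a :=
    fun a ↦ (IsScalarTower.algebraMap_apply A (ResidueField A) _ a).symm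
  have hres : ∀ (m : MaximalSpectrum (CAlg2.normRed A)) (a : A),
      Brnch.toResidue A m a = Ideal.Quotient.mk m.asIdeal (algebraMap A (CAlg2.normRed A) a) :=
    fun m a ↦ rfl
  let F : (Σ m' : MaximalSpectrum (CAlg2.normRed A), Brnch.Emb A m') →
      (CAlg2.normRed A →ₐ[A] AlgebraicClosure (ResidueField A)) := fun x ↦
    { toRingHom := x.2.1.comp (Ideal.Quotient.mk x.1.asIdeal)
      commutes' := fun a ↦ by
        show x.2.1 (Ideal.Quotient.mk x.1.asIdeal (algebraMap A (CAlg2.normRed A) a)) = _
        rw [← hres, ← hcl]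
        exact RingHom.congr_fun x.2.2 a }
  have hker : ∀ x : (Σ m' : MaximalSpectrum (CAlg2.normRed A), Brnch.Emb A m'),
      RingHom.ker (F x).toRingHom = x.1.asIdeal := fun x ↦ by
    let : Field (CAlg2.normRed A ⧸ x.1.asIdeal) :=
      have := x.1.isMaximal; Ideal.Quotient.field _
    ext r
    show x.2.1 (Ideal.Quotient.mk x.1.asIdeal r) = 0 ↔ _
    rw [map_eq_zero, Ideal.Quotient.eq_zero_iff_mem]
  refine ENat.card_congr (Equiv.ofBijective F ⟨?_, fun σ ↦ ?_⟩)
  · rintro ⟨m, σ, hσ⟩ ⟨m', τ, hτ⟩ h
    obtain rfl : m = m' := MaximalSpectrum.ext (by rw [← hker ⟨m, σ, hσ⟩, h, hker ⟨m', τ, hτ⟩])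
    have : σ = τ := Ideal.Quotient.ringHom_ext (RingHom.ext fun r ↦ AlgHom.congr_fun h r)
    subst this
    rfl
  · have := RingHom.ker_isPrime σ.toRingHom
    have hmax : (RingHom.ker σ.toRingHom).IsMaximal := by
      refine Ideal.isMaximal_of_isIntegral_of_isMaximal_comap (R := A) _ ?_
      convert maximalIdeal.isMaximal A
      ext a
      show σ (algebraMap A (CAlg2.normRed A) a) = 0 ↔ _
      rw [σ.commutes, IsScalarTower.algebraMap_apply A (ResidueField A), map_eq_zero,
        IsLocalRing.ResidueField.algebraMap_eq, IsLocalRing.residue_eq_zero_iff]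
    exact ⟨⟨⟨_, hmax⟩, Ideal.Quotient.lift _ σ.toRingHom fun r hr ↦ hr,
      RingHom.ext fun a ↦ by
        show σ (algebraMap A (CAlg2.normRed A) a) = Brnch.toClosure A a
        rw [hcl]; exact σ.commutes a⟩, AlgHom.ext fun r ↦ rfl⟩

end NormRed

theorem EtaleStages.of_algEquiv {A S T : Type u} [CommRing A] [CommRing S] [Algebra A S]
    [CommRing T] [Algebra A T] (h : EtaleStages A S) (e : S ≃ₐ[A] T) : EtaleStages A T := by
  classical
  intro s
  obtain ⟨N, _, _, _, φ, hφ⟩ := h (s.image e.symm)
  refine ⟨N, ‹_›, ‹_›, ‹_›, e.toAlgHom.comp φ, fun x hx ↦ ?_⟩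
  obtain ⟨n, hn⟩ := hφ _ (Finset.mem_image_of_mem _ hx)
  exact ⟨n, by show e (φ n) = x; rw [show φ n = e.symm x from hn, e.apply_symm_apply]⟩

theorem Hull.etaleStages (A C : Type u) [CommRing A] [CommRing C] [Algebra A C] :
    EtaleStages A (Hull A C) := fun s ↦ by
  obtain ⟨N, a, ha⟩ := Hull.exists_ι_family (fun x : s ↦ (x : Hull A C))
  exact ⟨N.Ring, inferInstance, inferInstance, inferInstance, Hull.ι N,
    fun x hx ↦ ⟨a ⟨x, hx⟩, ha ⟨x, hx⟩⟩⟩

variable {A S : Type u} [CommRing A] [IsLocalRing A] [CommRing S] [IsLocalRing S] [Algebra A S]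
  [IsLocalHom (algebraMap A S)]

theorem IsHenselization.etaleStages [_root_.Hensel.IsHenselization A S] : EtaleStages A S :=
  (Hull.etaleStages A (ResidueField A)).of_algEquiv IsHenselization.nonempty_hens_algEquiv.some

theorem IsStrictHenselization.etaleStages [_root_.Hensel.IsStrictHenselization A S] :
    EtaleStages A S :=
  (Hull.etaleStages A (SeparableClosure (ResidueField A))).of_algEquiv
    IsStrictHenselization.nonempty_strictHens_algEquiv.some

/-- Minimal primes of a henselization are the branches. -/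
theorem IsHenselization.card_minimalPrimes [hS : _root_.Hensel.IsHenselization A S] :
    ENat.card (minimalPrimes S) = Brnch.numBranches A := by
  have := IsHenselization.faithfullyFlat (R := A) (S := S)
  rw [Brnch.numBranches]
  split_ifs with h
  · have := isReduced_red A
    have hK := absFlat_fractionRing _ (finite_minimalPrimes_red A h)
    have : HenselianLocalRing S := hS.henselian
    rw [card_minimalPrimes_eq_card_primeSpectrum IsHenselization.etaleStages hK
        (algebraMap_eq_zero_red A) (exists_unit_mul_eq_red A),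
      card_primeSpectrum_eq_card_maximalSpectrum IsHenselization.etaleStages hK (normVal A)
        (normVal_injective A) (exists_normVal_eq A) (exists_unit_mul_eq_red A),
      card_maximalSpectrum_tensor (IsHenselization.exists_sub_mem (R := A))]
  · exact enatCard_minimalPrimes_eq_top A S h

/-- Minimal primes of a strict henselization are the geometric branches. -/
theorem IsStrictHenselization.card_minimalPrimes [hS : _root_.Hensel.IsStrictHenselization A S] :
    ENat.card (minimalPrimes S) = Brnch.numGeomBranches A := by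
  have := IsStrictHenselization.faithfullyFlat (R := A) (S := S)
  rw [Brnch.numGeomBranches]
  split_ifs with h
  · have := isReduced_red A
    have hK := absFlat_fractionRing _ (finite_minimalPrimes_red A h)
    have : HenselianLocalRing S := hS.henselian
    let e := (IsStrictHenselization.nonempty_strictHens_algEquiv (R := A) (S := S)).some
    let Ω := AlgebraicClosure (ResidueField A)
    let C := SeparableClosure (ResidueField A)
    let ι : C →ₐ[A] Ω :=
      ((separableClosure (ResidueField A) Ω).val : C →ₐ[ResidueField A] Ω).restrictScalars A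
    let π : S →ₐ[A] Ω := ι.comp ((Hull.proj (A := A) (C := C)).comp e.symm.toAlgHom)
    have hπ : ∀ s, π s = 0 ↔ s ∈ maximalIdeal S := fun s ↦ by
      rw [mem_maximalIdeal, mem_nonunits_iff, ← MulEquiv.isUnit_map e.symm,
        FieldHull.isUnit_iff, not_not]
      exact map_eq_zero_iff ι Subtype.val_injective
    have hsurj : ∀ c : C, ∃ s, Hull.proj (A := A) (C := C) (e.symm s) = c := fun c ↦ by
      obtain ⟨x, hx⟩ :=
        Hull.proj_surjective (FieldHull.exists_nbhd_of_isSeparable (R := A) (C := C)) c
      exact ⟨e x, by rw [AlgEquiv.symm_apply_apply]; exact hx⟩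
    have hpi : ∀ x : Ω, ∃ (n : ℕ) (s : S), x ^ (ringExpChar Ω) ^ n = π s := by
      intro x
      have : ExpChar (separableClosure (ResidueField A) Ω) (ringExpChar Ω) :=
        RingHom.expChar (separableClosure (ResidueField A) Ω).val.toRingHom Subtype.val_injective _
      obtain ⟨n, c, hc⟩ := IsPurelyInseparable.pow_mem (separableClosure (ResidueField A) Ω)
        (ringExpChar Ω) x
      obtain ⟨s, hs⟩ := hsurj c
      exact ⟨n, s, hc.symm.trans (congrArg Subtype.val hs.symm)⟩
    rw [card_minimalPrimes_eq_card_primeSpectrum IsStrictHenselization.etaleStages hK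
        (algebraMap_eq_zero_red A) (exists_unit_mul_eq_red A),
      card_primeSpectrum_eq_card_maximalSpectrum IsStrictHenselization.etaleStages hK (normVal A)
        (normVal_injective A) (exists_normVal_eq A) (exists_unit_mul_eq_red A),
      card_maximalSpectrum_tensor_eq_card_algHom π hπ hpi, card_sigma_emb_eq_card_algHom]
  · exact enatCard_minimalPrimes_eq_top A S h

end GrothLib.Hensel
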