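import Groth.Agent.Lib.Hensel.Properties
import Mathlib.LinearAlgebra.Matrix.Charpoly.Basic
import Mathlib.RingTheory.AdjoinRoot

/-!
# Lifting idempotent matrices along henselian pairs
-/

namespace GrothLib.Hensel

open Polynomial

universe u

/-- Idempotent matrices lift along henselian pairs. -/
theorem exists_idempotent_matrix_lift {A : Type u} [CommRing A] (I : Ideal A) [HenselianRing A I]
    {n : Type*} [Fintype n] [DecidableEq n] (M : Matrix n n (A ⧸ I)) (hM : IsIdempotentElem M) :
    ∃ E : Matrix n n A, IsIdempotentElem E ∧ E.map (Ideal.Quotient.mk I) = M := by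
  rcases subsingleton_or_nontrivial A with hA | hA
  · exact ⟨0, .zero, by ext i j; exact Subsingleton.elim _ _⟩
  choose E₀ hE₀ using fun i j ↦ Ideal.Quotient.mk_surjective (M i j)
  let X₀ : Matrix n n A := Matrix.of E₀
  have hX₀ : X₀.map (Ideal.Quotient.mk I) = M := Matrix.ext hE₀
  let K := RingHom.ker (aeval X₀ : A[X] →ₐ[A] Matrix n n A).toRingHom
  let B := A[X] ⧸ K
  let h : B →+* Matrix n n A :=
    Ideal.Quotient.lift K (aeval X₀ : A[X] →ₐ[A] Matrix n n A).toRingHom fun _ ha ↦ ha
  have hinj : Function.Injective h := RingHom.lift_injective_of_ker_le_ideal K _ le_rfl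
  have hcp : X₀.charpoly ∈ K := Matrix.aeval_self_charpoly X₀
  have hfin : Module.Finite A B := by
    have := (Matrix.charpoly_monic X₀).finite_adjoinRoot
    have : Module.Finite A (A[X] ⧸ Ideal.span {X₀.charpoly}) := this
    exact Module.Finite.of_surjective
      (Ideal.Quotient.factorₐ A ((Ideal.span_singleton_le_iff_mem K).mpr hcp)).toLinearMap
      (Ideal.Quotient.factor_surjective ((Ideal.span_singleton_le_iff_mem K).mpr hcp))
  let f : B →+* Matrix n n (A ⧸ I) := (Ideal.Quotient.mk I).mapMatrix.comp h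
  let J := RingHom.ker f
  set IB := I.map (algebraMap A B)
  have hJ : J ≤ IB.radical := by
    intro x hx
    obtain ⟨p, rfl⟩ := Ideal.Quotient.mk_surjective x
    set Y := aeval X₀ p
    have hY : Y.map (Ideal.Quotient.mk I) = 0 := hx
    have hchar : Y.charpoly.map (Ideal.Quotient.mk I) = X ^ Fintype.card n := by
      rw [← Matrix.charpoly_map, hY, Matrix.charpoly_zero]
    have hz : aeval (Ideal.Quotient.mkₐ A K p) Y.charpoly = 0 := by
      rw [aeval_algHom_apply, Ideal.Quotient.mkₐ_eq_mk, Ideal.Quotient.eq_zero_iff_mem]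
      show aeval X₀ (aeval p Y.charpoly) = 0
      rw [← aeval_algHom_apply]
      exact Matrix.aeval_self_charpoly Y
    refine ⟨Fintype.card n, ?_⟩
    have hmap : (Y.charpoly.map (algebraMap A B)).map (Ideal.Quotient.mk IB) = X ^ Fintype.card n := by
      rw [Polynomial.map_map]
      have : (Ideal.Quotient.mk IB).comp (algebraMap A B) =
          (Ideal.quotientMap IB (algebraMap A B) Ideal.le_comap_map).comp (Ideal.Quotient.mk I) :=
        RingHom.ext fun a ↦ rfl
      rw [this, ← Polynomial.map_map, hchar, Polynomial.map_pow, Polynomial.map_X]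
    rw [← Ideal.Quotient.eq_zero_iff_mem]
    have h1 := congrArg (Ideal.Quotient.mk IB) hz
    rw [map_zero, aeval_def, hom_eval₂, ← eval_map, ← Polynomial.map_map, hmap] at h1
    rw [map_pow]
    let _ : CommRing (B ⧸ IB) := Ideal.Quotient.commRing IB
    have h3 : ∀ z : B ⧸ IB, eval z ((X : (B ⧸ IB)[X]) ^ Fintype.card n) = z ^ Fintype.card n :=
      fun z ↦ by simp
    exact (h3 _).symm.trans h1
  have hB₁ : HenselianRing B IB := henselianRing_of_isIntegral I B
  have hB₂ : HenselianRing B IB.radical :=
    (henselianRing_iff_of_radical_eq (Ideal.radical_idem IB).symm).mp hB₁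
  have hB₃ : HenselianRing B J := henselianRing_of_le hJ
  set b : B := Ideal.Quotient.mk K X
  have hfb : f b = M := by
    show (h (Ideal.Quotient.mk K X)).map (Ideal.Quotient.mk I) = M
    rw [Ideal.Quotient.lift_mk]
    show (aeval X₀ (X : A[X])).map (Ideal.Quotient.mk I) = M
    rw [aeval_X, hX₀]
  obtain ⟨e, he, heJ⟩ := exists_isIdempotentElem_lift (A := B) (I := J) (B := B) (b := b) (by
    rw [Algebra.algebraMap_self, Ideal.map_id]
    show f (b * b - b) = 0
    rw [map_sub, map_mul, hfb, hM.eq, sub_self])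
  refine ⟨h e, he.map h, ?_⟩
  rw [Algebra.algebraMap_self, Ideal.map_id] at heJ
  have : f (e - b) = 0 := heJ
  rw [map_sub, sub_eq_zero, hfb] at this
  exact this

end GrothLib.Hensel
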