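import Groth.Agent.Lib.Hensel.PairHull
import Mathlib.RingTheory.ZariskisMainTheorem
import Mathlib.RingTheory.LocalRing.ResidueField.Fiber
import Mathlib.RingTheory.Localization.LocalizationLocalization

/-!
# Quasi-finiteness away from a closed subset
-/

namespace GrothLib.Hensel

universe u

variable {A R : Type u} [CommRing A] [CommRing R] [Algebra A R] [Algebra.FiniteType A R]

/-- Quasi-finite at all primes implies quasi-finite. -/
theorem quasiFinite_of_forall_quasiFiniteAt
    (h : ∀ (P : Ideal R) [P.IsPrime], Algebra.QuasiFiniteAt A P) : Algebra.QuasiFinite A R := by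
  refine Algebra.QuasiFinite.iff_finite_comap_preimage_singleton.mpr fun p ↦ ?_
  let e := PrimeSpectrum.preimageHomeomorphFiber A R p
  have : DiscreteTopology (PrimeSpectrum.comap (algebraMap A R) ⁻¹' {p}) := by
    refine discreteTopology_iff_isOpen_singleton.mpr ?_
    rintro ⟨q, rfl⟩
    have := h q.asIdeal
    exact (Algebra.quasiFiniteAt_iff_isOpen_singleton_fiber q).mp this
  have : CompactSpace (PrimeSpectrum.comap (algebraMap A R) ⁻¹' {p}) := e.symm.compactSpace
  exact Set.finite_coe_iff.mp finite_of_compact_of_discrete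

theorem exists_notMem_quasiFinite (q : Ideal R) [q.IsPrime] [Algebra.QuasiFiniteAt A q] :
    ∃ r ∉ q, Algebra.QuasiFinite A (Localization.Away r) := by
  obtain ⟨S', hS', r, hrp, H⟩ :=
    Algebra.QuasiFiniteAt.exists_fg_and_exists_notMem_and_awayMap_bijective (R := A) q
  have : Module.Finite A S' := ⟨(Submodule.fg_top _).mpr hS'⟩
  have : Algebra.QuasiFinite A (Localization.Away r) := .trans _ S' _
  exact ⟨r.1, hrp, .of_surjective_algHom (Localization.awayMapₐ S'.val r) H.2⟩

/-- A quasi-finite neighbourhood of a closed subset of quasi-finite points. -/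
theorem exists_sub_one_mem_quasiFinite (K : Ideal R)
    (h : ∀ (p : Ideal R) [p.IsPrime], K ≤ p → Algebra.QuasiFiniteAt A p) :
    ∃ g : R, 1 - g ∈ K ∧ Algebra.QuasiFinite A (Localization.Away g) := by
  let J : Ideal R := Ideal.span {r | Algebra.QuasiFinite A (Localization.Away r)}
  have htop : J ⊔ K = ⊤ := by
    by_contra hne
    obtain ⟨m, hm, hle⟩ := Ideal.exists_le_maximal _ hne
    have := h m (le_sup_right.trans hle)
    obtain ⟨r, hr, hq⟩ := exists_notMem_quasiFinite (A := A) m
    exact hr (hle (Ideal.mem_sup_left (Ideal.subset_span hq)))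
  obtain ⟨g, hg, k, hk, hgk⟩ := Submodule.mem_sup.mp ((Ideal.eq_top_iff_one _).mp htop)
  refine ⟨g, by rw [← hgk, add_sub_cancel_left]; exact hk, ?_⟩
  have : Algebra.FiniteType A (Localization.Away g) := .trans (S := R) ‹_› inferInstance
  refine quasiFinite_of_forall_quasiFiniteAt fun P _ ↦ ?_
  let p := P.comap (algebraMap R (Localization.Away g))
  have hgp : g ∉ p := fun hgp ↦ (inferInstance : P.IsPrime).ne_top
    (Ideal.eq_top_of_isUnit_mem _ hgp (IsLocalization.Away.algebraMap_isUnit g))
  obtain ⟨r, hr, hrp⟩ : ∃ r, Algebra.QuasiFinite A (Localization.Away r) ∧ r ∉ p := by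
    by_contra hne
    simp only [not_exists, not_and, not_not] at hne
    exact hgp (Ideal.span_le.mpr hne hg)
  let f : Localization.Away r →ₐ[R] Localization.AtPrime p :=
    IsLocalization.Away.liftAlgHom r (f := Algebra.ofId _ _) <|
      IsLocalization.map_units (M := p.primeCompl) (Localization.AtPrime p) ⟨r, hrp⟩
  have hp : Algebra.QuasiFiniteAt A p := by
    refine .of_forall_exists_mul_mem_range (f.restrictScalars A) fun x ↦ ?_
    obtain ⟨x, ⟨s, hs⟩, rfl⟩ := IsLocalization.exists_mk'_eq p.primeCompl x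
    exact ⟨algebraMap _ _ s, by simpa using IsLocalization.map_units _ ⟨s, hs⟩,
      algebraMap _ _ x, by simp⟩
  have : IsLocalization.AtPrime (Localization.AtPrime P) p :=
    IsLocalization.isLocalization_isLocalization_atPrime_isLocalization (Submonoid.powers g) _ P
  exact (Algebra.QuasiFinite.iff_of_algEquiv ((IsLocalization.algEquiv p.primeCompl
    (Localization.AtPrime p) (Localization.AtPrime P)).restrictScalars A)).mp hp

/-- Inverting an element congruent to one does not change the quotient. -/
theorem quotientMap_bijective_away {S : Type u} [CommRing S] (K : Ideal S) {g : S} (h : 1 - g ∈ K) :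
    Function.Bijective (Ideal.quotientMap (K.map (algebraMap S (Localization.Away g)))
      (algebraMap S (Localization.Away g)) Ideal.le_comap_map) := by
  have hgK : ∀ n : ℕ, 1 - g ^ n ∈ K := fun n ↦ by
    obtain ⟨c, hc⟩ := sub_dvd_pow_sub_pow (1 : S) g n
    rw [one_pow] at hc
    exact hc ▸ K.mul_mem_right c h
  refine GrothLib.Hensel.quotientMap_bijective_of K (fun x ↦ ?_) fun a ha ↦ ?_
  · obtain ⟨r, ⟨_, n, rfl⟩, rfl⟩ := IsLocalization.exists_mk'_eq (Submonoid.powers g) x
    refine ⟨r, ?_⟩
    set z := IsLocalization.mk' (Localization.Away g) r (⟨g ^ n, n, rfl⟩ : Submonoid.powers g)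
    have hz : z * algebraMap S _ (g ^ n) = algebraMap S _ r := IsLocalization.mk'_spec _ _ _
    rw [← hz, show z - z * algebraMap S _ (g ^ n) = z * algebraMap S _ (1 - g ^ n) by
      rw [map_sub, map_one]; ring]
    exact Ideal.mul_mem_left _ _ (Ideal.mem_map_of_mem _ (hgK n))
  · obtain ⟨⟨⟨b, hb⟩, ⟨_, n, rfl⟩⟩, hab⟩ :=
      (IsLocalization.mem_map_algebraMap_iff (Submonoid.powers g) _).mp ha
    obtain ⟨⟨_, l, rfl⟩, hl⟩ := (IsLocalization.eq_iff_exists (Submonoid.powers g) (Localization.Away g)).mp
      (show algebraMap S (Localization.Away g) (a * g ^ n) = algebraMap S _ b by rw [map_mul]; exact hab)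
    rw [show a = a * (1 - g ^ (l + n)) + g ^ l * (a * g ^ n) by ring, show g ^ l * (a * g ^ n) = g ^ l * b from hl]
    exact add_mem (K.mul_mem_left _ (hgK _)) (K.mul_mem_left _ hb)


end GrothLib.Hensel
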