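import Groth.Agent.Lib.Hensel.SmoothCriterion
import Groth.Agent.Lib.Hensel.PairNbhd
import Groth.Agent.Lib.Hensel.IdemMatrix
import Groth.Agent.Lib.Hensel.QuasiFiniteNhd
import Mathlib.RingTheory.Etale.Kaehler
import Mathlib.RingTheory.Smooth.Basic
import Mathlib.RingTheory.Finiteness.Nakayama

/-!
# Smooth algebras lift along surjections of rings
-/

namespace GrothLib.Hensel

open KaehlerDifferential TensorProduct

universe u

/-- Idempotent matrices over `P ⧸ K` lift to an étale neighbourhood of `(P, K)`. -/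
theorem exists_idempotent_matrix_nbhd {P : Type u} [CommRing P] (K : Ideal P) {ι : Type u}
    [Fintype ι] [DecidableEq ι] (e : Matrix ι ι P)
    (he : IsIdempotentElem (e.map (Ideal.Quotient.mk K))) :
    ∃ (P' : Type u) (_ : CommRing P') (_ : Algebra P P'), Algebra.Etale P P' ∧
      Function.Bijective
        (Ideal.quotientMap (K.map (algebraMap P P')) (algebraMap P P') Ideal.le_comap_map) ∧
      ∃ E : Matrix ι ι P', IsIdempotentElem E ∧
        ∀ i j, E i j - algebraMap P P' (e i j) ∈ K.map (algebraMap P P') := by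
  classical
  let H := Hull P (P ⧸ K)
  have : HenselianRing H (RingHom.ker (Hull.proj : H →ₐ[P] P ⧸ K).toRingHom) := by
    rw [PairHull.ker_proj]; exact (PairHull.isPairHenselization P K).1
  let q : (H ⧸ RingHom.ker (Hull.proj : H →ₐ[P] P ⧸ K).toRingHom) ≃+* P ⧸ K :=
    RingHom.quotientKerEquivOfSurjective PairHull.proj_surjective
  obtain ⟨E, hE, hEM⟩ := exists_idempotent_matrix_lift
    (RingHom.ker (Hull.proj : H →ₐ[P] P ⧸ K).toRingHom)
    (q.symm.toRingHom.mapMatrix (e.map (Ideal.Quotient.mk K)))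
    (he.map q.symm.toRingHom.mapMatrix)
  have hproj : ∀ i j, Hull.proj (E i j) = Ideal.Quotient.mk K (e i j) := fun i j ↦ by
    have h := congrFun (congrFun hEM i) j
    exact (congrArg q h).trans (q.apply_symm_apply _)
  obtain ⟨N, a, ha⟩ := Hull.exists_ι_family fun x : ι × ι ↦ E x.1 x.2
  let E₁ : Matrix ι ι N.Ring := Matrix.of fun i j ↦ a (i, j)
  have hι : (Hull.ι N).toRingHom.mapMatrix E₁ = E := Matrix.ext fun i j ↦ ha (i, j)
  have hz : ∀ x ∈ (Finset.univ : Finset (ι × ι)), Hull.ι N ((E₁ * E₁ - E₁) x.1 x.2) = 0 := by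
    intro x _
    have : (Hull.ι N).toRingHom.mapMatrix (E₁ * E₁ - E₁) = 0 := by
      rw [map_sub, map_mul, hι, hE.eq, sub_self]
    exact congrFun (congrFun this x.1) x.2
  obtain ⟨M, f, hf⟩ := Hull.exists_map_eq_zero_family _ (fun x : ι × ι ↦ (E₁ * E₁ - E₁) x.1 x.2) hz
  obtain ⟨P', _, _, _, hbij, φ, σ, hσ⟩ := exists_bijective_refine (I := K) M.pt
  let ψ : N.Ring →ₐ[P] P' := φ.comp f.map
  refine ⟨P', inferInstance, inferInstance, inferInstance, hbij, ψ.toRingHom.mapMatrix E₁, ?_, ?_⟩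
  · have h0 : ψ.toRingHom.mapMatrix (E₁ * E₁ - E₁) = 0 := Matrix.ext fun i j ↦ by
      show φ (f.map ((E₁ * E₁ - E₁) i j)) = 0
      rw [hf (i, j) (Finset.mem_univ _), map_zero]
    rwa [map_sub, map_mul, sub_eq_zero] at h0
  · intro i j
    obtain ⟨b, hb⟩ := hbij.2 (Ideal.Quotient.mk _ (ψ (E₁ i j)))
    obtain ⟨b, rfl⟩ := Ideal.Quotient.mk_surjective b
    rw [Ideal.quotientMap_mk, Ideal.Quotient.eq] at hb
    have h1 := algHom_quotient_map_eq_zero σ hb
    rw [map_sub, σ.commutes, sub_eq_zero] at h1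
    have h2 : σ (ψ (E₁ i j)) = Ideal.Quotient.mk K (e i j) := by
      show σ (φ (f.map (a (i, j)))) = _
      rw [← AlgHom.comp_apply σ φ, hσ, ← Hull.proj_ι, Hull.ι_map, ha]
      exact hproj i j
    have h3 : b - e i j ∈ K := Ideal.Quotient.eq.mp (h1.trans h2)
    show ψ (E₁ i j) - _ ∈ _
    rw [show ψ (E₁ i j) - algebraMap P P' (e i j) =
      algebraMap P P' (b - e i j) - (algebraMap P P' b - ψ (E₁ i j)) by rw [map_sub]; ring]
    exact sub_mem (Ideal.mem_map_of_mem _ h3) hb

section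

variable {R : Type u} [CommRing R] (I : Ideal R) {P : Type u} [CommRing P] [Algebra R P]
  [Algebra.Smooth R P] {A₀ : Type u} [CommRing A₀] [Algebra (R ⧸ I) A₀] [Algebra R A₀]
  [IsScalarTower R (R ⧸ I) A₀] [Algebra.Smooth (R ⧸ I) A₀]

/-- The conormal data of a presentation of a smooth algebra. -/
theorem exists_conormal_data (π : P →ₐ[R] A₀) (hπ : Function.Surjective π) :
    ∃ (ι : Type u) (_ : Fintype ι) (g : ι → P) (L : Ω[P⁄R] →ₗ[P] (ι → P)),
      (∀ i, g i ∈ RingHom.ker π) ∧
      RingHom.ker π ≤ Ideal.span (Set.range g) ⊔ I.map (algebraMap R P) ∧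
      (∀ i, ∑ k, L (D R P (g i)) k * g k - g i ∈
        RingHom.ker π ^ 2 ⊔ I.map (algebraMap R P)) ∧
      ∀ i k, ∑ j, L (D R P (g i)) j * L (D R P (g j)) k - L (D R P (g i)) k ∈ RingHom.ker π := by
  classical
  set K := RingHom.ker π
  have hIK : I.map (algebraMap R P) ≤ K := by
    rw [Ideal.map_le_iff_le_comap]
    intro r hr
    show π (algebraMap R P r) = 0
    rw [π.commutes, IsScalarTower.algebraMap_apply R (R ⧸ I) A₀, Ideal.Quotient.algebraMap_eq,
      Ideal.Quotient.eq_zero_iff_mem.mpr hr, map_zero]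
  let P₀ := P ⧸ I.map (algebraMap R P)
  let π₀ : P₀ →ₐ[R ⧸ I] A₀ := (Ideal.Quotient.liftₐ _ π fun a ha ↦
    RingHom.mem_ker.mp (hIK ha)).extendScalarsOfSurjective Ideal.Quotient.mk_surjective
  have hπ₀ : Function.Surjective π₀ := fun x ↦ by
    obtain ⟨y, rfl⟩ := hπ x; exact ⟨Ideal.Quotient.mk _ y, rfl⟩
  have : Algebra.FinitePresentation (R ⧸ I) P₀ :=
    .equiv (Algebra.TensorProduct.quotIdealMapEquivQuotTensor P I).symm
  obtain ⟨s, hs⟩ := Algebra.FinitePresentation.ker_fG_of_surjective π₀ hπ₀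
  choose g hg using fun x : ↥s ↦ Ideal.Quotient.mk_surjective (x : P₀)
  have hgK : ∀ i, g i ∈ K := fun i ↦ by
    have : (i : P₀) ∈ RingHom.ker π₀ := hs.le (Ideal.subset_span i.2)
    rw [← hg i] at this
    exact this
  have hKle : K ≤ Ideal.span (Set.range g) ⊔ I.map (algebraMap R P) := by
    intro x hx
    have hmap : RingHom.ker π₀ ≤ (Ideal.span (Set.range g)).map (Ideal.Quotient.mk _) := by
      refine hs.ge.trans (Ideal.span_le.mpr fun y hy ↦ ?_)
      rw [show y = Ideal.Quotient.mk _ (g ⟨y, hy⟩) from (hg ⟨y, hy⟩).symm]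
      exact Ideal.mem_map_of_mem _ (Ideal.subset_span ⟨⟨y, hy⟩, rfl⟩)
    have := hmap (show Ideal.Quotient.mk _ x ∈ RingHom.ker π₀ from hx)
    rwa [Ideal.mem_quotient_iff_mem_sup] at this
  set K₂ := K ^ 2 ⊔ I.map (algebraMap R P)
  let Q := P ⧸ K₂
  have hK₂ : K₂ ≤ K := sup_le (Ideal.pow_le_self two_ne_zero) hIK
  let _ : Algebra (R ⧸ I) Q := (Ideal.Quotient.lift I (algebraMap R Q) fun r hr ↦
    Ideal.Quotient.eq_zero_iff_mem.mpr (Ideal.mem_sup_right (Ideal.mem_map_of_mem _ hr))).toAlgebra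
  have : IsScalarTower R (R ⧸ I) Q := .of_algebraMap_eq fun _ ↦ rfl
  let π₁ : Q →ₐ[R ⧸ I] A₀ := (Ideal.Quotient.liftₐ _ π fun a ha ↦
    RingHom.mem_ker.mp (hK₂ ha)).extendScalarsOfSurjective Ideal.Quotient.mk_surjective
  have hπ₁ : Function.Surjective π₁ := fun x ↦ by
    obtain ⟨y, rfl⟩ := hπ x; exact ⟨Ideal.Quotient.mk _ y, rfl⟩
  have hnil : RingHom.ker π₁ ^ 2 = ⊥ := by
    have : RingHom.ker π₁ ≤ K.map (Ideal.Quotient.mk K₂) := fun z hz ↦ by
      obtain ⟨z, rfl⟩ := Ideal.Quotient.mk_surjective z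
      exact Ideal.mem_map_of_mem _ hz
    refine le_bot_iff.mp ((Ideal.pow_right_mono this 2).trans ?_)
    rw [← Ideal.map_pow]
    exact (Ideal.map_mono le_sup_left).trans (le_of_eq (Ideal.map_quotient_self K₂))
  obtain ⟨σ, hσ⟩ : ∃ σ : A₀ →ₐ[R ⧸ I] Q, π₁.comp σ = AlgHom.id _ _ :=
    ⟨Algebra.FormallySmooth.liftOfSurjective (AlgHom.id _ _) π₁ hπ₁ ⟨2, hnil⟩,
      Algebra.FormallySmooth.comp_liftOfSurjective _ _ _ _⟩
  let δ₀ : P →ₗ[R] Q := (Ideal.Quotient.mkₐ R K₂).toLinearMap -
    ((σ.restrictScalars R).comp π).toLinearMap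
  have hδ₀ : ∀ x, δ₀ x = Ideal.Quotient.mk K₂ x - σ (π x) := fun _ ↦ rfl
  have hδπ : ∀ x, π₁ (δ₀ x) = 0 := fun x ↦ by
    rw [hδ₀, map_sub, show π₁ (σ (π x)) = π x from AlgHom.congr_fun hσ (π x)]
    exact sub_self _
  have hsmul : ∀ (x : P) (q : Q), x • q = Ideal.Quotient.mk K₂ x * q := fun x q ↦
    Algebra.smul_def x q
  let δ : Derivation R P Q := Derivation.mk' δ₀ fun x y ↦ by
    have h0 : δ₀ x * δ₀ y = 0 := by
      have : δ₀ x * δ₀ y ∈ RingHom.ker π₁ ^ 2 := by
        rw [pow_two]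
        exact Ideal.mul_mem_mul (RingHom.mem_ker.mpr (hδπ x)) (RingHom.mem_ker.mpr (hδπ y))
      rw [hnil] at this
      exact this
    rw [hsmul, hsmul]
    rw [hδ₀, hδ₀] at h0
    rw [hδ₀, hδ₀, hδ₀, map_mul, map_mul, map_mul]
    linear_combination (-1 : Q) * h0
  let μ : (↥s → P) →ₗ[P] Q := Fintype.linearCombination P fun k ↦ Ideal.Quotient.mk K₂ (g k)
  have hrange : ∀ ω, δ.liftKaehlerDifferential ω ∈ LinearMap.range μ := by
    intro ω
    suffices h : ∀ q : Q, π₁ q = 0 → q ∈ LinearMap.range μ by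
      have hspan : ω ∈ Submodule.span P (Set.range (D R P)) := by
        rw [KaehlerDifferential.span_range_derivation]; trivial
      induction hspan using Submodule.span_induction with
      | mem y hy =>
        obtain ⟨x, rfl⟩ := hy
        rw [Derivation.liftKaehlerDifferential_comp_D]
        exact h _ (hδπ x)
      | zero => rw [map_zero]; exact zero_mem _
      | add y z _ _ hy hz => rw [map_add]; exact add_mem hy hz
      | smul c y _ hy => rw [map_smul]; exact Submodule.smul_mem _ c hy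
    intro q hq
    obtain ⟨x, rfl⟩ := Ideal.Quotient.mk_surjective q
    obtain ⟨y, hy, z, hz, rfl⟩ := Submodule.mem_sup.mp (hKle (show x ∈ K from hq))
    obtain ⟨c, rfl⟩ := (Submodule.mem_span_range_iff_exists_fun P).mp hy
    refine ⟨c, ?_⟩
    rw [map_add, Ideal.Quotient.eq_zero_iff_mem.mpr (Ideal.mem_sup_right hz), add_zero]
    simp only [μ, Fintype.linearCombination_apply, map_sum, smul_eq_mul, map_mul, hsmul]
  obtain ⟨L, hL⟩ := Module.projective_lifting_property μ.rangeRestrict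
    (δ.liftKaehlerDifferential.codRestrict _ hrange) μ.surjective_rangeRestrict
  have hL' : ∀ x, Ideal.Quotient.mk K₂ (∑ k, L (D R P x) k * g k) = δ₀ x := by
    intro x
    have h := congrArg Subtype.val (LinearMap.congr_fun hL (D R P x))
    simp only [LinearMap.comp_apply, LinearMap.codRestrict_apply,
      Derivation.liftKaehlerDifferential_comp_D] at h
    rw [show δ₀ x = δ x from rfl, ← h]
    show _ = μ (L (D R P x))
    simp only [μ, Fintype.linearCombination_apply, map_sum, map_mul, hsmul]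
  have hzero : ∀ x ∈ K₂, ∀ k, L (D R P x) k ∈ K := by
    intro x hx
    obtain ⟨y, hy, z, hz, rfl⟩ := Submodule.mem_sup.mp hx
    clear hx
    have hy' : ∀ k, L (D R P y) k ∈ K := by
      rw [pow_two] at hy
      refine Submodule.mul_induction_on hy (fun a ha b hb k ↦ ?_) (fun a b ha hb k ↦ ?_)
      ·
        simp only [Derivation.leibniz, map_add, map_smul, Pi.add_apply, Pi.smul_apply, smul_eq_mul]
        exact add_mem (K.mul_mem_right _ ha) (K.mul_mem_right _ hb)
      · rw [map_add, map_add]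
        exact add_mem (ha k) (hb k)
    have hz' : ∀ k, L (D R P z) k ∈ K := by
      induction hz using Submodule.span_induction with
      | mem a ha =>
        obtain ⟨r, -, rfl⟩ := ha
        intro k
        rw [Derivation.map_algebraMap, map_zero]
        exact K.zero_mem
      | zero => intro k; rw [map_zero (D R P), map_zero]; exact K.zero_mem
      | add a b _ _ ha hb => intro k; rw [map_add, map_add]; exact add_mem (ha k) (hb k)
      | smul c a ha' ha =>
        intro k
        simp only [smul_eq_mul, Derivation.leibniz, map_add, map_smul, Pi.add_apply, Pi.smul_apply]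
        exact add_mem (K.mul_mem_left _ (ha k)) (K.mul_mem_right _ (hIK ha'))
    intro k
    rw [map_add, map_add]
    exact add_mem (hy' k) (hz' k)
  have hLK : ∀ i, ∑ k, L (D R P (g i)) k * g k - g i ∈ K₂ := fun i ↦ by
    rw [← Ideal.Quotient.eq, hL', hδ₀, RingHom.mem_ker.mp (hgK i), map_zero, sub_zero]
  refine ⟨↥s, inferInstance, g, L, hgK, hKle, hLK, fun i k ↦ ?_⟩
  have key := hzero _ (hLK i) k
  simp only [map_sub, map_sum, Derivation.leibniz, map_add, map_smul, Pi.sub_apply, Finset.sum_apply,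
    Pi.add_apply, Pi.smul_apply, smul_eq_mul, Finset.sum_add_distrib] at key
  have hrest : ∑ j, g j * L (D R P (L (D R P (g i)) j)) k ∈ K :=
    sum_mem fun j _ ↦ K.mul_mem_right _ (hgK j)
  convert sub_mem key hrest using 1
  ring

theorem exists_linearMap_extend {P' : Type u} [CommRing P'] [Algebra P P'] [Algebra R P']
    [IsScalarTower R P P'] [Algebra.FormallyEtale P P'] {ι : Type u}
    (L : Ω[P⁄R] →ₗ[P] (ι → P)) :
    ∃ L' : Ω[P'⁄R] →ₗ[P'] (ι → P'),
      ∀ x k, L' (D R P' (algebraMap P P' x)) k = algebraMap P P' (L (D R P x) k) := by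
  refine ⟨(((Algebra.linearMap P P').compLeft ι) ∘ₗ L).liftBaseChange P' ∘ₗ
    (tensorKaehlerEquivOfFormallyEtale R P P').symm.toLinearMap, fun x k ↦ ?_⟩
  simp [tensorKaehlerEquivOfFormallyEtale_symm_D_algebraMap]

/-- A smooth algebra over `R ⧸ I`, presented as a quotient of a smooth `R`-algebra, is the reduction of
a smooth `R`-algebra. -/
theorem exists_smooth_lift_of_surjective (π : P →ₐ[R] A₀) (hπ : Function.Surjective π) :
    ∃ (Z : Type u) (_ : CommRing Z) (_ : Algebra R Z) (φ : Z →ₐ[R] A₀), Algebra.Smooth R Z ∧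
      Function.Surjective φ ∧ RingHom.ker φ = I.map (algebraMap R Z) := by
  classical
  obtain ⟨ι, _, g, L, hgK, hKle, hLg, hidem⟩ := exists_conormal_data I π hπ
  let K : Ideal P := RingHom.ker π
  let e : Matrix ι ι P := Matrix.of fun i k ↦ L (D R P (g i)) k
  have he : IsIdempotentElem (e.map (Ideal.Quotient.mk K)) := by
    refine Matrix.ext fun i k ↦ ?_
    simp only [Matrix.mul_apply, Matrix.map_apply, ← map_mul, ← map_sum]
    exact Ideal.Quotient.eq.mpr (hidem i k)
  obtain ⟨P', _, _, het, hbij, E, hE, hEe⟩ := exists_idempotent_matrix_nbhd K e he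
  let a : Ideal P' := K.map (algebraMap P P')
  let _ : Algebra R P' := ((algebraMap P P').comp (algebraMap R P)).toAlgebra
  have : IsScalarTower R P P' := .of_algebraMap_eq' rfl
  have hIK : I.map (algebraMap R P) ≤ K := by
    rw [Ideal.map_le_iff_le_comap]
    intro r hr
    show π (algebraMap R P r) = 0
    rw [π.commutes, IsScalarTower.algebraMap_apply R (R ⧸ I) A₀, Ideal.Quotient.algebraMap_eq,
      Ideal.Quotient.eq_zero_iff_mem.mpr hr, map_zero]
  set IP' := I.map (algebraMap R P') with hIP'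
  have hIP'' : (I.map (algebraMap R P)).map (algebraMap P P') = IP' := by
    rw [Ideal.map_map, ← IsScalarTower.algebraMap_eq]
  have hIa : IP' ≤ a := hIP''.ge.trans (Ideal.map_mono hIK)
  obtain ⟨L', hL'⟩ := exists_linearMap_extend (P' := P') L
  let g' : ι → P' := fun i ↦ algebraMap P P' (g i)
  have hg' : ∀ i, g' i ∈ a := fun i ↦ Ideal.mem_map_of_mem _ (hgK i)
  let f : ι → P' := E.mulVec g'
  have hfE : E.mulVec f = f := by
    show E.mulVec (E.mulVec g') = E.mulVec g'
    rw [Matrix.mulVec_mulVec, hE.eq]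
  let M : Matrix ι ι P' := Matrix.of fun i ↦ L' (D R P' (f i))
  let q := Ideal.Quotient.mk a
  have hqE : ∀ i j, q (E i j) = q (algebraMap P P' (e i j)) := fun i j ↦
    Ideal.Quotient.eq.mpr (hEe i j)
  have hM : q.mapMatrix M = q.mapMatrix E := by
    refine Matrix.ext fun i k ↦ ?_
    show q (L' (D R P' (∑ j, E i j * g' j)) k) = q (E i k)
    simp only [map_sum, Derivation.leibniz, map_add, map_smul, Finset.sum_apply, Pi.add_apply,
      Pi.smul_apply, smul_eq_mul, map_mul]
    have h0 : ∀ j, q (g' j) = 0 := fun j ↦ Ideal.Quotient.eq_zero_iff_mem.mpr (hg' j)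
    simp only [h0, zero_mul, add_zero, g', hL']
    have hee := congrArg (fun X : Matrix ι ι P' ↦ q (X i k)) hE.eq
    simp only [Matrix.mul_apply, map_sum, map_mul] at hee
    rw [← hee]
    exact Finset.sum_congr rfl fun j _ ↦ congrArg _ (hqE j k).symm
  set T := E * M * E + (1 - E)
  have hTdet : q T.det = 1 := by
    rw [RingHom.map_det]
    have : q.mapMatrix T = 1 := by
      simp only [T, map_add, map_mul, map_sub, map_one, hM]
      rw [(hE.map q.mapMatrix).eq, (hE.map q.mapMatrix).eq, add_sub_cancel]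
    rw [this, Matrix.det_one]
  set Q := Ideal.span (Set.range f) ⊔ IP'
  have hQa : Q ≤ a := sup_le (Ideal.span_le.mpr (Set.range_subset_iff.mpr fun i ↦
    sum_mem fun j _ ↦ a.mul_mem_left _ (hg' j))) hIa
  have hag : a ≤ Ideal.span (Set.range g') ⊔ IP' := by
    refine (Ideal.map_mono hKle).trans ?_
    rw [Ideal.map_sup, hIP'', Ideal.map_span, ← Set.range_comp]
    rfl
  have hgQ : ∀ i, g' i ∈ Q ⊔ a * a := by
    intro i
    have h1 : algebraMap P P' (∑ k, L (D R P (g i)) k * g k - g i) ∈ a * a ⊔ IP' := by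
      have := Ideal.mem_map_of_mem (algebraMap P P') (hLg i)
      rwa [Ideal.map_sup, hIP'', Ideal.map_pow, pow_two] at this
    have h2 : ∀ k, (E i k - algebraMap P P' (e i k)) * g' k ∈ a * a := fun k ↦
      Ideal.mul_mem_mul (hEe i k) (hg' k)
    have h3 : f i - g' i ∈ a * a ⊔ IP' := by
      have : f i - g' i = ∑ k, (E i k - algebraMap P P' (e i k)) * g' k +
          algebraMap P P' (∑ k, L (D R P (g i)) k * g k - g i) := by
        simp only [f, g', e, Matrix.mulVec, dotProduct, Matrix.of_apply, sub_mul,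
          Finset.sum_sub_distrib, map_sub, map_sum, map_mul]
        ring
      rw [this]
      exact add_mem (Ideal.mem_sup_left (sum_mem fun k _ ↦ h2 k)) h1
    have h4 : a * a ⊔ IP' ≤ Q ⊔ a * a := sup_le le_sup_right (le_sup_right.trans le_sup_left)
    have h5 : f i ∈ Q ⊔ a * a :=
      Ideal.mem_sup_left (Ideal.mem_sup_left (Ideal.subset_span ⟨i, rfl⟩))
    simpa using sub_mem h5 (h4 h3)
  have hab : a.map (Ideal.Quotient.mk Q) =
      Ideal.span (Set.range (Ideal.Quotient.mk Q ∘ g')) := by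
    rw [Set.range_comp, ← Ideal.map_span]
    refine le_antisymm ((Ideal.map_mono hag).trans ?_)
      (Ideal.map_mono (Ideal.span_le.mpr (Set.range_subset_iff.mpr hg')))
    rw [Ideal.map_sup, show IP'.map (Ideal.Quotient.mk Q) = ⊥ from le_bot_iff.mp
      ((Ideal.map_mono le_sup_right).trans (le_of_eq (Ideal.map_quotient_self Q))), sup_bot_eq]
  obtain ⟨rb, hrb, hrb0⟩ := Submodule.exists_sub_one_mem_and_smul_eq_zero_of_fg_of_le_smul
    (a.map (Ideal.Quotient.mk Q)) (a.map (Ideal.Quotient.mk Q))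
    (hab ▸ Submodule.fg_span (Set.finite_range _)) (by
      rw [smul_eq_mul]
      conv_lhs => rw [hab, Set.range_comp, ← Ideal.map_span]
      refine (Ideal.map_mono (Ideal.span_le.mpr (Set.range_subset_iff.mpr hgQ))).trans ?_
      rw [Ideal.map_sup, Ideal.map_quotient_self, bot_sup_eq, Ideal.map_mul])
  obtain ⟨r, rfl⟩ := Ideal.Quotient.mk_surjective rb
  have hr1 : r - 1 ∈ a := by
    rw [← map_one (Ideal.Quotient.mk Q), ← map_sub, Ideal.mem_quotient_iff_mem_sup] at hrb
    exact (sup_le le_rfl hQa) hrb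
  have hra : ∀ x ∈ a, r * x ∈ Q := fun x hx ↦ by
    rw [← Ideal.Quotient.eq_zero_iff_mem, map_mul]
    exact hrb0 _ (Ideal.mem_map_of_mem _ hx)
  set u := T.det * r
  let θ : P' →ₐ[R] A₀ := (Ideal.Quotient.liftₐ K π fun _ hx ↦ hx).comp
    ((pointOfBijective hbij).restrictScalars R)
  have hθs : Function.Surjective θ := fun x ↦ by
    obtain ⟨y, rfl⟩ := hπ x
    refine ⟨algebraMap P P' y, ?_⟩
    show Ideal.Quotient.liftₐ K π (fun _ hx ↦ hx) (pointOfBijective hbij (algebraMap P P' y)) = π y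
    rw [(pointOfBijective hbij).commutes]
    rfl
  have hθk : ∀ x, θ x = 0 ↔ x ∈ a := by
    intro x
    constructor
    · intro hx
      have hinj : Function.Injective (Ideal.Quotient.liftₐ K π fun _ hx ↦ hx) :=
        RingHom.lift_injective_of_ker_le_ideal _ _ le_rfl
      have h1 : pointOfBijective hbij x = 0 := hinj (hx.trans (map_zero _).symm)
      have h2 : (RingEquiv.ofBijective _ hbij).symm (Ideal.Quotient.mk a x) = 0 := h1
      rw [RingEquiv.symm_apply_eq, map_zero, Ideal.Quotient.eq_zero_iff_mem] at h2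
      exact h2
    · intro hx
      have h1 : pointOfBijective hbij x = 0 := by
        show (RingEquiv.ofBijective _ hbij).symm (Ideal.Quotient.mk a x) = 0
        rw [Ideal.Quotient.eq_zero_iff_mem.mpr hx, map_zero]
      show Ideal.Quotient.liftₐ K π (fun _ hx ↦ hx) (pointOfBijective hbij x) = 0
      rw [h1, map_zero]
  have hθu : θ u = 1 := by
    have h : u - 1 ∈ a := by
      rw [← Ideal.Quotient.eq_zero_iff_mem, map_sub, map_mul, map_one]
      show q T.det * q r - 1 = 0
      rw [hTdet, one_mul, Ideal.Quotient.eq.mpr hr1, map_one, sub_self]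
    have := (hθk _).mpr h
    rwa [map_sub, map_one, sub_eq_zero] at this
  let P'' := Localization.Away u
  let ψ : P'' →ₐ[R] A₀ := IsLocalization.Away.liftAlgHom u (f := θ) (by rw [hθu]; exact isUnit_one)
  have hψ : ∀ x, ψ (algebraMap P' P'' x) = θ x := fun x ↦ IsLocalization.lift_eq _ _
  have hψk : ∀ z, ψ z = 0 → z ∈ a.map (algebraMap P' P'') := by
    intro z hz
    obtain ⟨⟨x, s⟩, hx⟩ := IsLocalization.surj (Submonoid.powers u) z
    have : θ x = 0 := by rw [← hψ, ← hx, map_mul, hz, zero_mul]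
    have h2 := Ideal.mem_map_of_mem (algebraMap P' P'') ((hθk x).mp this)
    rw [← hx] at h2
    exact (Ideal.mul_unit_mem_iff_mem _ (IsLocalization.map_units _ s)).mp h2
  have : Algebra.Etale P' P'' := Algebra.Etale.of_isLocalizationAway u
  have : Algebra.Smooth R P' := Algebra.Smooth.comp R P P'
  have : Algebra.Smooth R P'' := Algebra.Smooth.comp R P' P''
  obtain ⟨L'', hL''⟩ := exists_linearMap_extend (R := R) (P := P') (P' := P'') L'
  let f'' : ι → P'' := fun i ↦ algebraMap P' P'' (f i)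
  let E'' : Matrix ι ι P'' := (algebraMap P' P'').mapMatrix E
  have hE'' : IsIdempotentElem E'' := hE.map _
  have hf'' : E''.mulVec f'' = f'' := funext fun i ↦ by
    have := congrArg (algebraMap P' P'') (congrFun hfE i)
    simpa [Matrix.mulVec, dotProduct, f'', E''] using this
  have hM'' : Matrix.of (fun i ↦ L'' (D R P'' (f'' i))) = (algebraMap P' P'').mapMatrix M :=
    Matrix.ext fun i k ↦ hL'' (f i) k
  have hT'' : IsUnit (E'' * Matrix.of (fun i ↦ L'' (D R P'' (f'' i))) * E'' + (1 - E'')).det := by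
    rw [hM'', show E'' * (algebraMap P' P'').mapMatrix M * E'' + (1 - E'') =
      (algebraMap P' P'').mapMatrix T by simp only [T, E'', map_add, map_mul, map_sub, map_one],
      ← RingHom.map_det]
    exact isUnit_of_mul_isUnit_left (y := algebraMap P' P'' r) (by
      rw [← map_mul]; exact IsLocalization.Away.algebraMap_isUnit u)
  have := formallySmooth_quotient_of_matrix f'' E'' hE'' hf'' L'' hT''
  set J := Ideal.span (Set.range f'')
  have : Algebra.FinitePresentation R (P'' ⧸ J) :=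
    Algebra.FinitePresentation.quotient (Submodule.fg_span (Set.finite_range _))
  have hJ : ∀ z ∈ J, ψ z = 0 := by
    suffices J ≤ RingHom.ker ψ from fun z hz ↦ this hz
    rw [Ideal.span_le]
    rintro _ ⟨i, rfl⟩
    show ψ (algebraMap P' P'' (f i)) = 0
    rw [hψ]
    exact (hθk _).mpr (hQa (Ideal.mem_sup_left (Ideal.subset_span ⟨i, rfl⟩)))
  refine ⟨P'' ⧸ J, inferInstance, inferInstance, Ideal.Quotient.liftₐ J ψ hJ, ⟨‹_›, ‹_›⟩, ?_, ?_⟩
  · intro x
    obtain ⟨y, rfl⟩ := hθs x
    exact ⟨Ideal.Quotient.mk J (algebraMap P' P'' y), hψ y⟩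
  · refine le_antisymm (fun z hz ↦ ?_) ?_
    · obtain ⟨z, rfl⟩ := Ideal.Quotient.mk_surjective z
      have h1 := hψk z hz
      have h2 : a.map (algebraMap P' P'') ≤ J ⊔ I.map (algebraMap R P'') := by
        rw [Ideal.map_le_iff_le_comap]
        intro x hx
        have h3 := Ideal.mem_map_of_mem (algebraMap P' P'') (hra x hx)
        rw [Ideal.map_sup, Ideal.map_span, ← Set.range_comp, hIP', Ideal.map_map,
          ← IsScalarTower.algebraMap_eq, map_mul] at h3
        show algebraMap P' P'' x ∈ J ⊔ I.map (algebraMap R P'')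
        refine (Ideal.unit_mul_mem_iff_mem _ ?_).mp h3
        exact isUnit_of_mul_isUnit_right (x := algebraMap P' P'' T.det) (by
          rw [← map_mul]; exact IsLocalization.Away.algebraMap_isUnit u)
      rw [IsScalarTower.algebraMap_eq R P'' (P'' ⧸ J), ← Ideal.map_map, Ideal.Quotient.algebraMap_eq,
        Ideal.mem_quotient_iff_mem_sup, sup_comm]
      exact h2 h1
    · rw [Ideal.map_le_iff_le_comap]
      intro r hr
      show Ideal.Quotient.liftₐ J ψ hJ (algebraMap R _ r) = 0
      rw [AlgHom.commutes, IsScalarTower.algebraMap_apply R (R ⧸ I) A₀, Ideal.Quotient.algebraMap_eq,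
        Ideal.Quotient.eq_zero_iff_mem.mpr hr, map_zero]

end

/-- Smooth algebras lift along surjections of rings. -/
theorem exists_smooth_lift {R : Type u} [CommRing R] (I : Ideal R) (A₀ : Type u) [CommRing A₀]
    [Algebra (R ⧸ I) A₀] [Algebra R A₀] [IsScalarTower R (R ⧸ I) A₀]
    [Algebra.Smooth (R ⧸ I) A₀] :
    ∃ (Z : Type u) (_ : CommRing Z) (_ : Algebra R Z) (φ : Z →ₐ[R] A₀), Algebra.Smooth R Z ∧
      Function.Surjective φ ∧ RingHom.ker φ = I.map (algebraMap R Z) := by
  obtain ⟨n, p, hp, -⟩ := (inferInstance : Algebra.FinitePresentation (R ⧸ I) A₀).out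
  have : Algebra.Smooth R (MvPolynomial (Fin n) R) :=
    ⟨inferInstance, inferInstance⟩
  refine exists_smooth_lift_of_surjective I (P := MvPolynomial (Fin n) R)
    (MvPolynomial.aeval fun i ↦ p (MvPolynomial.X i)) fun x ↦ ?_
  obtain ⟨y, rfl⟩ := hp x
  obtain ⟨z, rfl⟩ := MvPolynomial.map_surjective (Ideal.Quotient.mk I) Ideal.Quotient.mk_surjective y
  refine ⟨z, ?_⟩
  have : p = MvPolynomial.aeval fun i ↦ p (MvPolynomial.X i) := MvPolynomial.algHom_ext fun i ↦ by simp
  conv_rhs => rw [this]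
  exact (MvPolynomial.aeval_map_algebraMap (R ⧸ I) _ z).symm

end GrothLib.Hensel
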