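import Groth.Agent.Lib.Hensel.PairFP
import Mathlib.RingTheory.TensorProduct.Quotient
import Mathlib.RingTheory.Etale.Basic

/-!
# Truncations of Henselian finitely presented algebras
-/

namespace GrothLib.Hensel

open scoped TensorProduct

universe u

variable {A : Type u} [CommRing A]

section

variable {B : Type u} [CommRing B] [Algebra A B] {J : Ideal A}

/-- An `A`-algebra map to an algebra killed by `J` factors through `B ⧸ JB`. -/
theorem map_le_ker_of_map_eq_bot {E : Type u} [CommRing E] [Algebra A E]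
    (hE : J.map (algebraMap A E) = ⊥) (v : B →ₐ[A] E) :
    J.map (algebraMap A B) ≤ RingHom.ker v := by
  rw [← RingHom.ker_coe_toRingHom, ← Ideal.map_eq_bot_iff_le_ker, Ideal.map_map]
  simpa [v.comp_algebraMap] using hE

theorem exists_lift_of_formallySmooth [Algebra.FormallySmooth (A ⧸ J) (B ⧸ J.map (algebraMap A B))]
    {E C : Type u} [CommRing E] [CommRing C] [Algebra A E] [Algebra A C]
    (hE : J.map (algebraMap A E) = ⊥) (hC : J.map (algebraMap A C) = ⊥)
    (p : E →ₐ[A] C) (hp : Function.Surjective p) (hker : IsNilpotent (RingHom.ker p))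
    (u : B →ₐ[A] C) : ∃ v : B →ₐ[A] E, p.comp v = u := by
  let _ : Algebra (A ⧸ J) E := (Ideal.Quotient.lift J (algebraMap A E) fun a ha ↦
    (Ideal.map_eq_bot_iff_le_ker _).mp hE ha).toAlgebra
  let _ : Algebra (A ⧸ J) C := (Ideal.Quotient.lift J (algebraMap A C) fun a ha ↦
    (Ideal.map_eq_bot_iff_le_ker _).mp hC ha).toAlgebra
  have : IsScalarTower A (A ⧸ J) E := .of_algebraMap_eq fun _ ↦ rfl
  have : IsScalarTower A (A ⧸ J) C := .of_algebraMap_eq fun _ ↦ rfl
  let p' : E →ₐ[A ⧸ J] C := p.extendScalarsOfSurjective Ideal.Quotient.mk_surjective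
  let u' : (B ⧸ J.map (algebraMap A B)) →ₐ[A ⧸ J] C :=
    (Ideal.Quotient.liftₐ _ u fun a ha ↦
      map_le_ker_of_map_eq_bot hC u ha).extendScalarsOfSurjective Ideal.Quotient.mk_surjective
  obtain ⟨v', hv'⟩ : ∃ v', p'.comp v' = u' :=
    ⟨Algebra.FormallySmooth.liftOfSurjective u' p' hp hker,
      Algebra.FormallySmooth.comp_liftOfSurjective _ _ _ _⟩
  refine ⟨(v'.restrictScalars A).comp (Ideal.Quotient.mkₐ A _), AlgHom.ext fun x ↦ ?_⟩
  exact AlgHom.congr_fun hv' (Ideal.Quotient.mk _ x)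

theorem unique_lift_of_formallyUnramified
    [Algebra.FormallyUnramified (A ⧸ J) (B ⧸ J.map (algebraMap A B))]
    {E C : Type u} [CommRing E] [CommRing C] [Algebra A E] [Algebra A C]
    (hE : J.map (algebraMap A E) = ⊥) (p : E →ₐ[A] C) (hker : IsNilpotent (RingHom.ker p))
    {v w : B →ₐ[A] E} (h : p.comp v = p.comp w) : v = w := by
  let _ : Algebra (A ⧸ J) E := (Ideal.Quotient.lift J (algebraMap A E) fun a ha ↦
    (Ideal.map_eq_bot_iff_le_ker _).mp hE ha).toAlgebra
  have : IsScalarTower A (A ⧸ J) E := .of_algebraMap_eq fun _ ↦ rfl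
  let v' : (B ⧸ J.map (algebraMap A B)) →ₐ[A ⧸ J] E :=
    (Ideal.Quotient.liftₐ _ v fun a ha ↦
      map_le_ker_of_map_eq_bot hE v ha).extendScalarsOfSurjective Ideal.Quotient.mk_surjective
  let w' : (B ⧸ J.map (algebraMap A B)) →ₐ[A ⧸ J] E :=
    (Ideal.Quotient.liftₐ _ w fun a ha ↦
      map_le_ker_of_map_eq_bot hE w ha).extendScalarsOfSurjective Ideal.Quotient.mk_surjective
  have heq : v' = w' := by
    refine Algebra.FormallyUnramified.lift_unique_of_ringHom (p : E →+* C) hker v' w' ?_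
    refine Ideal.Quotient.ringHom_ext (RingHom.ext fun x ↦ ?_)
    exact AlgHom.congr_fun h x
  exact AlgHom.ext fun x ↦ AlgHom.congr_fun heq (Ideal.Quotient.mk _ x)

theorem formallySmooth_quotient_of_lift
    (h : ∀ (E C : Type u) [CommRing E] [CommRing C] [Algebra A E] [Algebra A C],
      J.map (algebraMap A E) = ⊥ → J.map (algebraMap A C) = ⊥ →
      ∀ p : E →ₐ[A] C, Function.Surjective p → RingHom.ker p ^ 2 = ⊥ →
      ∀ u : B →ₐ[A] C, ∃ v : B →ₐ[A] E, p.comp v = u) :
    Algebra.FormallySmooth (A ⧸ J) (B ⧸ J.map (algebraMap A B)) := by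
  refine Algebra.FormallySmooth.iff_comp_surjective.mpr fun E _ _ K hK u ↦ ?_
  let _ : Algebra A E := ((algebraMap (A ⧸ J) E).comp (Ideal.Quotient.mk J)).toAlgebra
  have : IsScalarTower A (A ⧸ J) E := .of_algebraMap_eq fun _ ↦ rfl
  have hE : J.map (algebraMap A E) = ⊥ := by
    rw [IsScalarTower.algebraMap_eq A (A ⧸ J) E, ← Ideal.map_map, Ideal.Quotient.algebraMap_eq,
      Ideal.map_quotient_self, Ideal.map_bot]
  have hC : J.map (algebraMap A (E ⧸ K)) = ⊥ := by
    rw [IsScalarTower.algebraMap_eq A E (E ⧸ K), ← Ideal.map_map, hE, Ideal.map_bot]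
  have : IsScalarTower A (A ⧸ J) (E ⧸ K) := .of_algebraMap_eq fun _ ↦ rfl
  obtain ⟨v, hv⟩ := h E (E ⧸ K) hE hC (Ideal.Quotient.mkₐ A K) (Ideal.Quotient.mkₐ_surjective A K)
    ((congrArg (· ^ 2) (Ideal.mk_ker (I := K))).trans hK)
    ((u.restrictScalars A).comp (Ideal.Quotient.mkₐ A _))
  let v' : (B ⧸ J.map (algebraMap A B)) →ₐ[A ⧸ J] E :=
    (Ideal.Quotient.liftₐ _ v fun a ha ↦
      map_le_ker_of_map_eq_bot hE v ha).extendScalarsOfSurjective Ideal.Quotient.mk_surjective
  refine ⟨v', AlgHom.ext fun x ↦ ?_⟩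
  obtain ⟨x, rfl⟩ := Ideal.Quotient.mk_surjective x
  exact AlgHom.congr_fun hv x

theorem formallyEtale_quotient_of_lift
    (h : ∀ (E C : Type u) [CommRing E] [CommRing C] [Algebra A E] [Algebra A C],
      J.map (algebraMap A E) = ⊥ → J.map (algebraMap A C) = ⊥ →
      ∀ p : E →ₐ[A] C, Function.Surjective p → RingHom.ker p ^ 2 = ⊥ →
      ∀ u : B →ₐ[A] C, ∃! v : B →ₐ[A] E, p.comp v = u) :
    Algebra.FormallyEtale (A ⧸ J) (B ⧸ J.map (algebraMap A B)) := by
  refine Algebra.FormallyEtale.iff_comp_bijective.mpr fun E _ _ K hK ↦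
    ⟨fun v₁ v₂ hv ↦ ?_, Algebra.FormallySmooth.iff_comp_surjective.mp
      (formallySmooth_quotient_of_lift fun E C _ _ _ _ hE hC p hp hk u ↦
        (h E C hE hC p hp hk u).exists) K hK⟩
  let _ : Algebra A E := ((algebraMap (A ⧸ J) E).comp (Ideal.Quotient.mk J)).toAlgebra
  have : IsScalarTower A (A ⧸ J) E := .of_algebraMap_eq fun _ ↦ rfl
  have hE : J.map (algebraMap A E) = ⊥ := by
    rw [IsScalarTower.algebraMap_eq A (A ⧸ J) E, ← Ideal.map_map, Ideal.Quotient.algebraMap_eq,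
      Ideal.map_quotient_self, Ideal.map_bot]
  have hC : J.map (algebraMap A (E ⧸ K)) = ⊥ := by
    rw [IsScalarTower.algebraMap_eq A E (E ⧸ K), ← Ideal.map_map, hE, Ideal.map_bot]
  let π := Ideal.Quotient.mkₐ A (J.map (algebraMap A B))
  have := (h E (E ⧸ K) hE hC (Ideal.Quotient.mkₐ A K) (Ideal.Quotient.mkₐ_surjective A K)
    ((congrArg (· ^ 2) (Ideal.mk_ker (I := K))).trans hK)
    ((Ideal.Quotient.mkₐ A K).comp ((v₁.restrictScalars A).comp π))).unique
    (y₁ := (v₁.restrictScalars A).comp π) (y₂ := (v₂.restrictScalars A).comp π) rfl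
    (AlgHom.ext fun x ↦ (AlgHom.congr_fun hv (π x)).symm)
  refine AlgHom.ext fun x ↦ ?_
  obtain ⟨x, rfl⟩ := Ideal.Quotient.mk_surjective x
  exact AlgHom.congr_fun this x

end

theorem finitePresentation_quotient_pow {I : Ideal A} {R₀ B : Type u} [CommRing R₀] [Algebra A R₀]
    [Algebra.FinitePresentation A R₀] [CommRing B] [Algebra R₀ B] [Algebra A B]
    [IsScalarTower A R₀ B]
    (hB : Hens2.IsPairHenselization R₀ (I.map (algebraMap A R₀)) B) (r : ℕ) :
    Algebra.FinitePresentation (A ⧸ I ^ r) (B ⧸ (I ^ r).map (algebraMap A B)) := by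
  have : Algebra.FinitePresentation (A ⧸ I ^ r) (R₀ ⧸ (I ^ r).map (algebraMap A R₀)) :=
    .equiv (Algebra.TensorProduct.quotIdealMapEquivQuotTensor R₀ (I ^ r)).symm
  have hmap : ((I.map (algebraMap A R₀)) ^ r).map (algebraMap R₀ B) =
      (I ^ r).map (algebraMap A B) := by
    rw [← Ideal.map_pow, Ideal.map_map, ← IsScalarTower.algebraMap_eq]
  let f : (R₀ ⧸ (I ^ r).map (algebraMap A R₀)) →ₐ[A] B ⧸ (I ^ r).map (algebraMap A B) :=
    Ideal.quotientMapₐ _ (IsScalarTower.toAlgHom A R₀ B) (by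
      rw [← Ideal.map_le_iff_le_comap]
      show Ideal.map (algebraMap R₀ B) _ ≤ _
      rw [Ideal.map_map, ← IsScalarTower.algebraMap_eq])
  have hf : Function.Bijective f := by
    have h := IsPairHenselization.quotientMap_pow_bijective hB r
    constructor
    · intro x y hxy
      obtain ⟨x, rfl⟩ := Ideal.Quotient.mk_surjective x
      obtain ⟨y, rfl⟩ := Ideal.Quotient.mk_surjective y
      have hxy' : algebraMap R₀ B x - algebraMap R₀ B y ∈ (I ^ r).map (algebraMap A B) :=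
        Ideal.Quotient.eq.mp hxy
      rw [Ideal.Quotient.eq, Ideal.map_pow]
      refine IsPairHenselization.mem_pow_of_algebraMap_mem hB ?_
      rwa [map_sub, hmap]
    · intro z
      obtain ⟨z, rfl⟩ := Ideal.Quotient.mk_surjective z
      obtain ⟨x, hx⟩ := h.2 (Ideal.Quotient.mk _ z)
      obtain ⟨x, rfl⟩ := Ideal.Quotient.mk_surjective x
      refine ⟨Ideal.Quotient.mk _ x, Ideal.Quotient.eq.mpr ?_⟩
      rw [← hmap]
      exact Ideal.Quotient.eq.mp hx
  exact .equiv ((AlgEquiv.ofBijective f hf).extendScalarsOfSurjective Ideal.Quotient.mk_surjective)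

end GrothLib.Hensel
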