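import Groth.Agent.Lib.Hensel.FlatNhd
import Groth.Agent.Lib.Hensel.HFPFormal
import Groth.Agent.Lib.LocProp.FibreSmooth
import Groth.Agent.Lib.Flatness.Fibre
import Mathlib.RingTheory.Etale.Locus
import Mathlib.RingTheory.Flat.FaithfullyFlat.Algebra
import Mathlib.RingTheory.Kaehler.Basic

/-!
# Flat Henselian finitely presented algebras
-/

namespace GrothLib.Hensel

open TensorProduct

universe u

variable {A R B : Type u} [CommRing A] [CommRing R] [CommRing B] [Algebra A R] [Algebra R B]
  [Algebra A B] [IsScalarTower A R B]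

theorem exists_prime_over_of_le {K : Ideal R} (hB : Hens2.IsPairHenselization R K B) (p : Ideal R)
    [p.IsPrime] (hp : K ≤ p) : ∃ q : Ideal B, q.IsPrime ∧ q.comap (algebraMap R B) = p := by
  have h := IsPairHenselization.quotientMap_bijective hB
  let e := RingEquiv.ofBijective _ h
  let f : B →+* R ⧸ p :=
    (Ideal.Quotient.factor hp).comp (e.symm.toRingHom.comp (Ideal.Quotient.mk _))
  refine ⟨RingHom.ker f, RingHom.ker_isPrime f, ?_⟩
  ext x
  have : e.symm (Ideal.Quotient.mk _ (algebraMap R B x)) = Ideal.Quotient.mk K x := by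
    rw [RingEquiv.symm_apply_eq]
    rfl
  rw [Ideal.mem_comap, RingHom.mem_ker]
  show Ideal.Quotient.factor hp (e.symm (Ideal.Quotient.mk _ (algebraMap R B x))) = 0 ↔ _
  rw [this, Ideal.Quotient.factor_mk, Ideal.Quotient.eq_zero_iff_mem]

theorem flat_atPrime_of_flat {K : Ideal R} (hB : Hens2.IsPairHenselization R K B)
    [Module.Flat A B] (p : Ideal R) [p.IsPrime] (hp : K ≤ p) :
    Module.Flat A (Localization.AtPrime p) := by
  obtain ⟨q, hq, hqp⟩ := exists_prime_over_of_le hB p hp
  have := IsPairHenselization.flat hB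
  have : q.LiesOver p := ⟨hqp.symm⟩
  let := Localization.AtPrime.algebraOfLiesOver p q
  have : Module.Flat (Localization.AtPrime p) (Localization.AtPrime q) := inferInstance
  have : Module.FaithfullyFlat (Localization.AtPrime p) (Localization.AtPrime q) :=
    Module.FaithfullyFlat.of_flat_of_isLocalHom
  have : Module.Flat B (Localization.AtPrime q) := IsLocalization.flat _ q.primeCompl
  have : Module.Flat A (Localization.AtPrime q) := Module.Flat.trans A B _
  exact GrothLib.Flatness.flat_of_faithfullyFlat (R := A) (S := Localization.AtPrime p)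
    (M := Localization.AtPrime q)

/-- Henselizations are insensitive to inverting an element congruent to one. -/
theorem exists_isPairHenselization_away {K : Ideal R} (hB : Hens2.IsPairHenselization R K B) (g : R)
    (hg : 1 - g ∈ K) :
    ∃ (_ : Algebra (Localization.Away g) B) (_ : IsScalarTower R (Localization.Away g) B),
      Hens2.IsPairHenselization (Localization.Away g) (K.map (algebraMap R (Localization.Away g))) B := by
  have hu : IsUnit (algebraMap R B g) := by
    have h := hB.1.jac (Ideal.mem_map_of_mem (algebraMap R B) hg)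
    rw [Ideal.mem_jacobson_bot] at h
    simpa [map_sub] using h (-1)
  let _ : Algebra (Localization.Away g) B := (IsLocalization.Away.lift g hu).toAlgebra
  have : IsScalarTower R (Localization.Away g) B :=
    .of_algebraMap_eq fun r ↦ (IsLocalization.Away.lift_eq g hu r).symm
  refine ⟨inferInstance, inferInstance, isPairHenselization_mk ?_ ?_ ?_⟩
  · rw [Ideal.map_map, ← IsScalarTower.algebraMap_eq]
    exact hB.1
  · intro C _ J f hC hf
    obtain ⟨φ, hφ, -⟩ := hB.2 C J (f.comp (algebraMap R _)) hC (by rw [← Ideal.map_map]; exact hf)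
    refine ⟨φ, IsLocalization.ringHom_ext (Submonoid.powers g) ?_⟩
    rw [RingHom.comp_assoc, ← IsScalarTower.algebraMap_eq, hφ]
  · intro C _ J g₁ g₂ hC hJ h
    refine IsPairHenselization.ringHom_ext hB J (hJ := hC) ?_ ?_
    · rw [IsScalarTower.algebraMap_eq R (Localization.Away g) B, ← RingHom.comp_assoc, h,
        RingHom.comp_assoc]
    · rw [IsScalarTower.algebraMap_eq R (Localization.Away g) B, ← RingHom.comp_assoc, ← Ideal.map_map]
      exact hJ

theorem isSmoothAt_of_flat_of_smooth_quotient [Algebra.FinitePresentation A R] (I : Ideal A)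
    [Algebra.Smooth (A ⧸ I) (R ⧸ I.map (algebraMap A R))] (p : Ideal R) [p.IsPrime]
    (hp : I.map (algebraMap A R) ≤ p) (hflat : Module.Flat A (Localization.AtPrime p)) :
    Algebra.IsSmoothAt A p := by
  let P := p.under A
  have hIP : I ≤ P := Ideal.map_le_iff_le_comap.mp hp
  let _ : Algebra (A ⧸ I) P.ResidueField := (Ideal.Quotient.lift I (algebraMap A P.ResidueField)
    fun a ha ↦ Ideal.algebraMap_residueField_eq_zero.mpr (hIP ha)).toAlgebra
  have : IsScalarTower A (A ⧸ I) P.ResidueField := .of_algebraMap_eq fun _ ↦ rfl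
  have : Algebra.Smooth (A ⧸ I) ((A ⧸ I) ⊗[A] R) :=
    .of_equiv (Algebra.TensorProduct.quotIdealMapEquivQuotTensor R I)
  have : Algebra.Smooth P.ResidueField (P.Fiber R) :=
    .of_equiv (Algebra.TensorProduct.cancelBaseChange A (A ⧸ I) P.ResidueField P.ResidueField R)
  have aux : ∀ (Q : Ideal (P.Fiber R)) [Q.IsPrime] (p' : Ideal R) [p'.IsPrime],
      Q.comap (Algebra.TensorProduct.includeRight (R := A) (A := P.ResidueField) (B := R)) = p' →
      Module.Flat A (Localization.AtPrime p') → Algebra.IsSmoothAt A p' := by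
    intro Q _ p' _ hh hfl
    subst hh
    exact GrothLib.LocProp.isSmoothAt_of_flat_of_fibre P Q
      (inferInstanceAs (Algebra.FormallySmooth P.ResidueField (Localization.AtPrime Q))) hfl
  let q₀ : P.primesOver R := ⟨p, inferInstance, ⟨rfl⟩⟩
  exact aux (PrimeSpectrum.primesOverOrderIsoFiber A R P q₀).asIdeal p
    (congrArg Subtype.val ((PrimeSpectrum.primesOverOrderIsoFiber A R P).symm_apply_apply q₀)) hflat

theorem exists_smul_eq_zero_kaehler [Algebra.FiniteType A R] (I : Ideal A)
    [Algebra.FormallyUnramified (A ⧸ I) (R ⧸ I.map (algebraMap A R))] :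
    ∃ g : R, 1 - g ∈ I.map (algebraMap A R) ∧ ∀ x : Ω[R⁄A], g • x = 0 := by
  set K := I.map (algebraMap A R)
  let M := Ω[R⁄A] ⧸ (K • ⊤ : Submodule R Ω[R⁄A])
  let _ : Module (A ⧸ I) M := Module.compHom M (algebraMap (A ⧸ I) (R ⧸ K))
  have : IsScalarTower A (A ⧸ I) M := .of_algebraMap_smul fun a m ↦ by
    show algebraMap (A ⧸ I) (R ⧸ K) (algebraMap A (A ⧸ I) a) • m = a • m
    rw [← IsScalarTower.algebraMap_apply A (A ⧸ I) (R ⧸ K),
      IsScalarTower.algebraMap_apply A R (R ⧸ K), algebraMap_smul, algebraMap_smul]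
  have : IsScalarTower (A ⧸ I) (R ⧸ K) M := .of_algebraMap_smul fun _ _ ↦ rfl
  let π : Ω[R⁄A] →ₗ[R] M := Submodule.mkQ _
  let d : Derivation A R M := π.compDer (KaehlerDifferential.D A R)
  have hd : ∀ x ∈ K, d x = 0 := by
    intro x hx
    induction hx using Submodule.span_induction with
    | mem y hy =>
      obtain ⟨a, _, rfl⟩ := hy
      exact d.map_algebraMap a
    | zero => exact map_zero d
    | add y z _ _ hy hz => rw [map_add, hy, hz, add_zero]
    | smul c y hyK hy =>
      rw [smul_eq_mul, d.leibniz, hy, smul_zero, zero_add]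
      exact (Submodule.Quotient.mk_eq_zero _).mpr
        (Submodule.smul_mem_smul hyK Submodule.mem_top)
  let dA : (R ⧸ K) →ₗ[A] M :=
    Submodule.liftQ (K.restrictScalars A) d.toLinearMap fun x hx ↦ hd x hx
  let dQ : Derivation (A ⧸ I) (R ⧸ K) M := Derivation.mk'
    { toFun := dA
      map_add' := dA.map_add
      map_smul' := fun a x ↦ by
        obtain ⟨a, rfl⟩ := Ideal.Quotient.mk_surjective a
        rw [RingHom.id_apply, ← Ideal.Quotient.algebraMap_eq, algebraMap_smul, algebraMap_smul,
          map_smul] }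
    fun x y ↦ by
      obtain ⟨x, rfl⟩ := Ideal.Quotient.mk_surjective x
      obtain ⟨y, rfl⟩ := Ideal.Quotient.mk_surjective y
      exact d.leibniz x y
  have h0 : dQ = 0 := by
    rw [← dQ.liftKaehlerDifferential_comp]
    ext x
    simp [Subsingleton.elim (KaehlerDifferential.D (A ⧸ I) (R ⧸ K) x) 0]
  have hle : (⊤ : Submodule R Ω[R⁄A]) ≤ K • ⊤ := by
    rw [← KaehlerDifferential.span_range_derivation A R, Submodule.span_le]
    rintro _ ⟨x, rfl⟩
    rw [KaehlerDifferential.span_range_derivation]
    exact (Submodule.Quotient.mk_eq_zero _).mp (Derivation.congr_fun h0 (Ideal.Quotient.mk K x))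
  obtain ⟨r, hr, hr0⟩ := Submodule.exists_sub_one_mem_and_smul_eq_zero_of_fg_of_le_smul K ⊤
    Module.Finite.fg_top hle
  exact ⟨r, by rw [← neg_sub]; exact K.neg_mem hr, fun x ↦ hr0 x trivial⟩

theorem exists_away_etale_of_flat_atPrime [Algebra.FinitePresentation A R] (I : Ideal A)
    [Algebra.Etale (A ⧸ I) (R ⧸ I.map (algebraMap A R))]
    (h : ∀ (p : Ideal R) [p.IsPrime], I.map (algebraMap A R) ≤ p →
      Module.Flat A (Localization.AtPrime p)) :
    ∃ g : R, 1 - g ∈ I.map (algebraMap A R) ∧ Algebra.Etale A (Localization.Away g) := by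
  obtain ⟨g₀, hg₀, hΩ⟩ := exists_smul_eq_zero_kaehler (R := R) I
  obtain ⟨g, hg, hsub⟩ := exists_one_sub_mem_basicOpen_subset (I.map (algebraMap A R))
    (Algebra.isOpen_etaleLocus (R := A) (A := R)) fun p hp ↦ by
      rw [Algebra.etaleLocus_eq_unramfiedLocus_inter_smoothLocus]
      refine ⟨?_, isSmoothAt_of_flat_of_smooth_quotient I p.asIdeal hp (h p.asIdeal hp)⟩
      rw [Algebra.unramifiedLocus_eq_compl_support, Set.mem_compl_iff,
        Module.notMem_support_iff']
      refine fun x ↦ ⟨g₀, fun hgp ↦ p.isPrime.ne_top' ((Ideal.eq_top_iff_one _).mpr ?_), hΩ x⟩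
      simpa using p.asIdeal.add_mem (hp hg₀) hgp
  exact ⟨g, hg, Algebra.basicOpen_subset_etaleLocus_iff_etale.mp hsub⟩

theorem exists_away_smooth_of_flat_atPrime [Algebra.FinitePresentation A R] (I : Ideal A)
    [Algebra.Smooth (A ⧸ I) (R ⧸ I.map (algebraMap A R))]
    (h : ∀ (p : Ideal R) [p.IsPrime], I.map (algebraMap A R) ≤ p →
      Module.Flat A (Localization.AtPrime p)) :
    ∃ g : R, 1 - g ∈ I.map (algebraMap A R) ∧ Algebra.Smooth A (Localization.Away g) := by
  obtain ⟨g, hg, hsub⟩ := exists_one_sub_mem_basicOpen_subset (I.map (algebraMap A R))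
    (Algebra.isOpen_smoothLocus (R := A) (A := R)) fun p hp ↦
      isSmoothAt_of_flat_of_smooth_quotient I p.asIdeal hp (h p.asIdeal hp)
  exact ⟨g, hg, Algebra.basicOpen_subset_smoothLocus_iff_smooth.mp hsub⟩

/-- The reduction of the presenting algebra agrees with the reduction of its henselization. -/
theorem exists_quotient_algEquiv {I : Ideal A}
    (hB : Hens2.IsPairHenselization R (I.map (algebraMap A R)) B) :
    Nonempty ((R ⧸ I.map (algebraMap A R)) ≃ₐ[A ⧸ I] B ⧸ I.map (algebraMap A B)) := by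
  have hmap : (I.map (algebraMap A R)).map (algebraMap R B) = I.map (algebraMap A B) := by
    rw [Ideal.map_map, ← IsScalarTower.algebraMap_eq]
  let e : (R ⧸ I.map (algebraMap A R)) ≃+* B ⧸ I.map (algebraMap A B) :=
    (RingEquiv.ofBijective _ (IsPairHenselization.quotientMap_bijective hB)).trans
      (Ideal.quotEquivOfEq hmap)
  refine ⟨AlgEquiv.ofRingEquiv (f := e) fun a ↦ ?_⟩
  obtain ⟨a, rfl⟩ := Ideal.Quotient.mk_surjective a
  show Ideal.Quotient.mk _ (algebraMap R B (algebraMap A R a)) = Ideal.Quotient.mk _ (algebraMap A B a)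
  rw [← IsScalarTower.algebraMap_apply A R B]

end GrothLib.Hensel
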