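import Groth.Agent.Lib.Hensel.Reduced
import Mathlib.RingTheory.QuasiFinite.Basic
import Mathlib.RingTheory.Etale.QuasiFinite
import Mathlib.RingTheory.KrullDimension.Zero
import Mathlib.RingTheory.Smooth.IntegralClosure
import Mathlib.RingTheory.Flat.Basic

/-!
# Absolutely flat rings and primes of ind-étale base changes

Reduced rings all of whose primes are maximal are absolutely flat, the property is preserved by
(ind-)étale base change, and the primes of `S ⊗ R'` below a common prime are controlled by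
idempotents when `R'` is integrally closed in an absolutely flat ring.
-/

namespace GrothLib.Hensel

open scoped TensorProduct

universe u

/-- Every element is the product of a unit and an idempotent, in the form `a * a * a' = a`. -/
def AbsFlat (L : Type*) [CommRing L] : Prop := ∀ a : L, ∃ a', a * a * a' = a

theorem absFlat_of_isReduced (L : Type*) [CommRing L] [IsReduced L]
    (hmax : ∀ q : Ideal L, q.IsPrime → q.IsMaximal) : AbsFlat L := by
  intro a
  let J : Ideal L :=
    { carrier := {t | ∃ b, (t - a * b) * a = 0}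
      add_mem' := fun {x y} ⟨b, hb⟩ ⟨c, hc⟩ ↦ ⟨b + c, by linear_combination hb + hc⟩
      zero_mem' := ⟨0, by simp⟩
      smul_mem' := fun r x ⟨b, hb⟩ ↦ ⟨r * b, by simp only [smul_eq_mul]; linear_combination r * hb⟩ }
  suffices (1 : L) ∈ J by
    obtain ⟨b, hb⟩ := this
    exact ⟨b, by linear_combination -hb⟩
  by_contra h1
  obtain ⟨m, hm, hle⟩ := Ideal.exists_le_maximal J fun h ↦ h1 (h ▸ Submodule.mem_top)
  let M : Submonoid L :=
    { carrier := {x | ∃ t ∉ m, ∃ n : ℕ, x = t * a ^ n}
      one_mem' := ⟨1, fun h ↦ hm.ne_top ((Ideal.eq_top_iff_one m).mpr h), 0, by simp⟩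
      mul_mem' := fun {x y} ⟨t, ht, n, hx⟩ ⟨s, hs, k, hy⟩ ↦
        ⟨t * s, fun h ↦ (hm.isPrime.mem_or_mem h).elim ht hs, n + k, by rw [hx, hy, pow_add]; ring⟩ }
  have hdisj : Disjoint ((⊥ : Ideal L) : Set L) M := by
    rw [Set.disjoint_left]
    rintro x hx ⟨t, ht, n, rfl⟩
    rw [SetLike.mem_coe, Ideal.mem_bot] at hx
    have hta : t * a = 0 := IsNilpotent.eq_zero ⟨n + 1, by
      rw [mul_pow, pow_succ t, pow_succ a]
      linear_combination (t ^ n * a) * hx⟩
    exact ht (hle ⟨0, by linear_combination hta⟩)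
  obtain ⟨P, hP, -, hPd⟩ := Ideal.exists_le_prime_disjoint ⊥ M hdisj
  have hPm : P ≤ m := fun t ht ↦ by_contra fun h ↦
    Set.disjoint_left.mp hPd ht ⟨t, h, 0, by simp⟩
  have hPm' : P = m := (hmax P hP).eq_of_le hm.ne_top hPm
  have ha : a ∈ m := hle ⟨1, by simp⟩
  exact Set.disjoint_left.mp hPd (hPm' ▸ ha)
    ⟨1, fun h ↦ hm.ne_top ((Ideal.eq_top_iff_one m).mpr h), 1, by simp⟩

theorem absFlat_of_field (L : Type*) [Field L] : AbsFlat L := fun a ↦ ⟨a⁻¹, by
  rcases eq_or_ne a 0 with rfl | h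
  · simp
  · field_simp⟩

theorem AbsFlat.isReduced {L : Type*} [CommRing L] (h : AbsFlat L) : IsReduced L := by
  refine ⟨fun a ⟨n, hn⟩ ↦ ?_⟩
  obtain ⟨b, hb⟩ := h a
  have : ∀ k : ℕ, a = a ^ (k + 1) * b ^ k := fun k ↦ by
    induction k with
    | zero => simp
    | succ k ih =>
      conv_lhs => rw [ih]
      rw [pow_succ, pow_succ b, pow_succ a (k+1), pow_succ a k]
      linear_combination -(a ^ k * b ^ k) * hb
  rw [this n, pow_succ, hn]; simp

theorem AbsFlat.eq_of_le {L : Type*} [CommRing L] (h : AbsFlat L) {q q' : Ideal L} [hq : q.IsPrime]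
    [hq' : q'.IsPrime] (hle : q ≤ q') : q = q' := by
  refine le_antisymm hle fun a ha ↦ ?_
  obtain ⟨b, hb⟩ := h a
  have h0 : a * (1 - a * b) = 0 := by linear_combination -hb
  refine (hq.mem_or_mem (h0 ▸ q.zero_mem)).resolve_right fun h1 ↦
    hq'.ne_top ((Ideal.eq_top_iff_one q').mpr ?_)
  simpa using q'.add_mem (hle h1) (q'.mul_mem_right b ha)

theorem AbsFlat.isMaximal {L : Type*} [CommRing L] (h : AbsFlat L) (q : Ideal L) [q.IsPrime] :
    q.IsMaximal := by
  obtain ⟨m, hm, hle⟩ := Ideal.exists_le_maximal q (Ideal.IsPrime.ne_top ‹_›)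
  rwa [h.eq_of_le hle]

theorem AbsFlat.of_surjective {L L' : Type*} [CommRing L] [CommRing L'] (h : AbsFlat L)
    (f : L →+* L') (hf : Function.Surjective f) : AbsFlat L' := fun a ↦ by
  obtain ⟨x, rfl⟩ := hf a
  obtain ⟨y, hy⟩ := h x
  exact ⟨f y, by rw [← map_mul, ← map_mul, hy]⟩

variable {A : Type u} [CommRing A] {K : Type u} [CommRing K] [Algebra A K]

theorem absFlat_tensor_of_etale (hK : AbsFlat K) (N : Type u) [CommRing N] [Algebra A N]
    [Algebra.Etale A N] : AbsFlat (N ⊗[A] K) := by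
  have := hK.isReduced
  have : IsReduced (K ⊗[A] N) := isReduced_of_etale K (K ⊗[A] N)
  have h : AbsFlat (K ⊗[A] N) := absFlat_of_isReduced _ fun q hq ↦ by
    obtain ⟨m, hm, hle⟩ := Ideal.exists_le_maximal q hq.ne_top
    have h2 : q.under K = m.under K := hK.eq_of_le (Ideal.comap_mono hle)
    rwa [Algebra.QuasiFinite.eq_of_le_of_under_eq (R := K) q m hle h2]
  exact h.of_surjective (Algebra.TensorProduct.comm A K N).toRingEquiv.toRingHom
    (Algebra.TensorProduct.comm A K N).surjective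

/-- Every finite family of elements of `S` comes from an étale `A`-algebra. -/
def EtaleStages (A S : Type u) [CommRing A] [CommRing S] [Algebra A S] : Prop :=
  ∀ s : Finset S, ∃ (N : Type u) (_ : CommRing N) (_ : Algebra A N) (_ : Algebra.Etale A N)
    (φ : N →ₐ[A] S), ∀ x ∈ s, x ∈ φ.range

variable {S : Type u} [CommRing S] [Algebra A S]

theorem EtaleStages.exists_tensor (hS : EtaleStages A S) {M : Type u} [CommRing M] [Algebra A M]
    (z : S ⊗[A] M) : ∃ (N : Type u) (_ : CommRing N) (_ : Algebra A N) (_ : Algebra.Etale A N)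
      (φ : N →ₐ[A] S) (w : N ⊗[A] M), Algebra.TensorProduct.map φ (AlgHom.id A M) w = z := by
  classical
  obtain ⟨T, rfl⟩ := TensorProduct.exists_finset z
  obtain ⟨N, _, _, _, φ, hφ⟩ := hS (T.image Prod.fst)
  choose g hg using fun i : T ↦ hφ i.1.1 (Finset.mem_image_of_mem _ i.2)
  refine ⟨N, ‹_›, ‹_›, ‹_›, φ, ∑ i : T, g i ⊗ₜ i.1.2, ?_⟩
  rw [map_sum, ← Finset.sum_coe_sort T (fun i ↦ i.1 ⊗ₜ[A] i.2)]
  exact Finset.sum_congr rfl fun i _ ↦ by
    rw [Algebra.TensorProduct.map_tmul, AlgHom.id_apply]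
    exact congrArg (fun t ↦ t ⊗ₜ[A] i.1.2) (hg i)

theorem EtaleStages.absFlat_tensor (hS : EtaleStages A S) (hK : AbsFlat K) :
    AbsFlat (S ⊗[A] K) := fun z ↦ by
  obtain ⟨N, _, _, _, φ, w, rfl⟩ := hS.exists_tensor z
  obtain ⟨b, hb⟩ := absFlat_tensor_of_etale hK N w
  exact ⟨Algebra.TensorProduct.map φ (AlgHom.id A K) b, by rw [← map_mul, ← map_mul, hb]⟩

variable {R' : Type u} [CommRing R'] [Algebra A R']

/-- Idempotents of an étale base change of `K` come from the base change of the integral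
closure. -/
theorem exists_idem_of_etale (hK : AbsFlat K) (iv : R' →ₐ[A] K) (hiv : Function.Injective iv)
    (hmem : ∀ k : K, IsIntegral A k → ∃ r, iv r = k) {N : Type u} [CommRing N] [Algebra A N]
    [Algebra.Etale A N] (a : N ⊗[A] R') :
    ∃ (e : N ⊗[A] R') (b : N ⊗[A] K), a * (1 - e) = 0 ∧
      Algebra.TensorProduct.map (AlgHom.id A N) iv e =
        Algebra.TensorProduct.map (AlgHom.id A N) iv a * b := by
  set j := Algebra.TensorProduct.map (AlgHom.id A N) iv
  have hj : Function.Injective j :=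
    Module.Flat.lTensor_preserves_injective_linearMap (M := N) iv.toLinearMap hiv
  obtain ⟨b, hb⟩ := absFlat_tensor_of_etale hK N (j a)
  have hidem : IsIdempotentElem (j a * b) := by
    show _ * _ = _
    linear_combination b * hb
  have hint : IsIntegral N (j a * b) := ⟨Polynomial.X * (Polynomial.X - 1),
    Polynomial.monic_X.mul (Polynomial.monic_X_sub_C 1), by
    rw [← Polynomial.aeval_def, map_mul, map_sub, Polynomial.aeval_X, map_one, mul_sub, hidem.eq,
      mul_one, sub_self]⟩
  obtain ⟨w, hw⟩ := (TensorProduct.toIntegralClosure_bijective_of_smooth (R := A) (S := N)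
    (B := K)).2 ⟨_, hint⟩
  have hw' : Algebra.TensorProduct.map (AlgHom.id N N) (integralClosure A K).val w = j a * b :=
    congrArg Subtype.val hw
  choose g hg using fun k : integralClosure A K ↦ hmem k k.2
  obtain ⟨e, he⟩ : ∃ e, j e = j a * b := by
    rw [← hw']
    clear hw hw' hint hidem
    induction w using TensorProduct.induction_on with
    | zero => exact ⟨0, by simp⟩
    | tmul n k => exact ⟨n ⊗ₜ g k, by simp [j, hg]⟩
    | add w w' hw hw' =>
      obtain ⟨x, hx⟩ := hw
      obtain ⟨x', hx'⟩ := hw'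
      exact ⟨x + x', by rw [map_add, map_add, hx, hx']⟩
  exact ⟨e, b, hj (by rw [map_mul, map_sub, map_one, he, map_zero]; linear_combination -hb), he⟩

/-- Two primes of `S ⊗ K` whose traces on `S ⊗ R'` lie in a common prime have equal traces. -/
theorem comap_eq_of_le_common (hS : EtaleStages A S) (hK : AbsFlat K) (iv : R' →ₐ[A] K)
    (hiv : Function.Injective iv) (hmem : ∀ k : K, IsIntegral A k → ∃ r, iv r = k)
    {q₁ q₂ : Ideal (S ⊗[A] K)} [h₁ : q₁.IsPrime] [h₂ : q₂.IsPrime] {P : Ideal (S ⊗[A] R')}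
    [hP : P.IsPrime] (hle₁ : q₁.comap (Algebra.TensorProduct.map (AlgHom.id A S) iv) ≤ P)
    (hle₂ : q₂.comap (Algebra.TensorProduct.map (AlgHom.id A S) iv) ≤ P) :
    q₁.comap (Algebra.TensorProduct.map (AlgHom.id A S) iv) =
      q₂.comap (Algebra.TensorProduct.map (AlgHom.id A S) iv) := by
  set j := Algebra.TensorProduct.map (AlgHom.id A S) iv
  have key : ∀ {q q' : Ideal (S ⊗[A] K)}, q.IsPrime → q'.IsPrime → q.comap j ≤ P →
      q'.comap j ≤ P → q.comap j ≤ q'.comap j := by
    intro q q' hq hq' hl hl' z hz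
    by_contra hz'
    obtain ⟨N, _, _, _, φ, a, rfl⟩ := hS.exists_tensor z
    obtain ⟨e, b, hae, he⟩ := exists_idem_of_etale hK iv hiv hmem a
    set Φ := Algebra.TensorProduct.map φ (AlgHom.id A R')
    have hsq : ∀ x : N ⊗[A] R', j (Φ x) = Algebra.TensorProduct.map φ (AlgHom.id A K)
        (Algebra.TensorProduct.map (AlgHom.id A N) iv x) := fun x ↦ by
      induction x using TensorProduct.induction_on with
      | zero => simp
      | tmul s r => simp [j, Φ]
      | add x y hx hy => simp only [map_add, hx, hy]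
    have h1 : Φ e ∈ P := hl (by
      show j (Φ e) ∈ q
      rw [hsq, he, map_mul, ← hsq]
      exact q.mul_mem_right _ hz)
    have h0 : Φ a * (1 - Φ e) = 0 := by
      simpa only [map_mul, map_sub, map_one, map_zero] using congrArg Φ hae
    have h2 : 1 - Φ e ∈ P := hl' (((hq'.comap j).mem_or_mem (h0 ▸ Submodule.zero_mem _)).resolve_left hz')
    exact hP.ne_top ((Ideal.eq_top_iff_one P).mpr (by simpa using P.add_mem h2 h1))
  exact le_antisymm (key h₁ h₂ hle₁ hle₂) (key h₂ h₁ hle₂ hle₁)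

end GrothLib.Hensel
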