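import Mathlib.RingTheory.Henselian
import Mathlib.RingTheory.Flat.EquationalCriterion
import Mathlib.RingTheory.Flat.FaithfullyFlat.Algebra
import Mathlib.LinearAlgebra.TensorProduct.Pi
import Mathlib.RingTheory.Spectrum.Prime.Basic

/-!
# Decompositions of punctured spectra descend to henselian rings

If `R` is henselian and `B` is faithfully flat over `R` with the same residue field and maximal
ideal (for example the completion), then a splitting of the punctured spectrum of `B` comes from
a splitting of the punctured spectrum of `R`.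
-/

namespace GrothLib.Hensel

open IsLocalRing
open scoped TensorProduct

universe u

variable {R B : Type u} [CommRing R] [CommRing B] [Algebra R B]

/-- Multiplying a compatible family by elements of the ideal of the `x i` gives multiples of `x`. -/
theorem exists_mul_eq_mul_of_mem {d : ℕ} (x g : Fin d → B) (hg : ∀ i j, g i * x j = g j * x i)
    (P : Ideal B) {ε : B} (hε : ε ∈ P * Ideal.span (Set.range x)) :
    ∃ c ∈ P, ∀ i, ε * g i = c * x i := by
  induction hε using Submodule.mul_induction_on' with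
  | mem_mul_mem p hp q hq =>
    obtain ⟨s, rfl⟩ := Ideal.mem_span_range_iff_exists_fun.mp hq
    refine ⟨p * ∑ j, s j * g j, P.mul_mem_right _ hp, fun i ↦ ?_⟩
    rw [mul_assoc, mul_assoc, Finset.sum_mul, Finset.sum_mul]
    exact congrArg _ (Finset.sum_congr rfl fun j _ ↦ by rw [mul_assoc, mul_assoc, ← hg i j, mul_comm (g i)])
  | add a _ b _ ha hb =>
    obtain ⟨c, hc, hc'⟩ := ha
    obtain ⟨c', hc₁, hc₂⟩ := hb
    exact ⟨c + c', P.add_mem hc hc₁, fun i ↦ by rw [add_mul, add_mul, hc', hc₂]⟩

/-- Multiples of a vector descend along faithfully flat maps. -/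
theorem exists_eq_mul_of_map [Module.FaithfullyFlat R B] {d : ℕ} (y w : Fin d → R) (Q : Ideal R)
    {c : B} (hc : c ∈ Q.map (algebraMap R B))
    (h : ∀ i, algebraMap R B (y i) = c * algebraMap R B (w i)) :
    ∃ t ∈ Q, ∀ i, y i = t * w i := by
  let φ : Q →ₗ[R] (Fin d → R) := LinearMap.pi fun i ↦ (Q.subtype).smulRight (w i)
  let e : B ⊗[R] (Fin d → R) ≃ₗ[B] (Fin d → B) := TensorProduct.piScalarRight R B B (Fin d)
  let m : B ⊗[R] (Fin d → R) →ₗ[B] B ⊗[R] ((Fin d → R) ⧸ LinearMap.range φ) :=
    (LinearMap.range φ).mkQ.baseChange B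
  have key : m (e.symm fun i ↦ c * algebraMap R B (w i)) = 0 := by
    rw [Ideal.map] at hc
    clear h
    induction hc using Submodule.span_induction with
    | mem z hz =>
      obtain ⟨t, ht, rfl⟩ := hz
      have : (fun i ↦ algebraMap R B t * algebraMap R B (w i)) = e (1 ⊗ₜ φ ⟨t, ht⟩) := by
        funext i
        simp [e, φ, Algebra.smul_def]
      rw [this, LinearEquiv.symm_apply_apply]
      show (1 : B) ⊗ₜ[R] (LinearMap.range φ).mkQ (φ ⟨t, ht⟩) = 0
      rw [Submodule.mkQ_apply, (Submodule.Quotient.mk_eq_zero _).mpr (LinearMap.mem_range_self φ _),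
        TensorProduct.tmul_zero]
    | zero =>
      simp only [zero_mul]
      rw [show (fun _ : Fin d ↦ (0 : B)) = 0 from rfl, map_zero, map_zero]
    | add a b _ _ ha hb =>
      rw [show (fun i ↦ (a + b) * algebraMap R B (w i)) =
        (fun i ↦ a * algebraMap R B (w i)) + fun i ↦ b * algebraMap R B (w i) from
        funext fun i ↦ add_mul _ _ _, map_add, map_add, ha, hb, add_zero]
    | smul s a _ ha =>
      rw [show (fun i ↦ s • a * algebraMap R B (w i)) = s • fun i ↦ a * algebraMap R B (w i) from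
        funext fun i ↦ mul_assoc _ _ _, map_smul, map_smul, ha, smul_zero]
  have h1 : (fun i ↦ c * algebraMap R B (w i)) = e (1 ⊗ₜ y) := by
    funext i
    simp [e, ← h, Algebra.smul_def]
  rw [h1, LinearEquiv.symm_apply_apply] at key
  have h2 : (LinearMap.range φ).mkQ y = 0 :=
    Module.FaithfullyFlat.tensorProduct_mk_injective ((Fin d → R) ⧸ LinearMap.range φ)
      (a₁ := (LinearMap.range φ).mkQ y) (a₂ := 0) (by
        rw [map_zero, ← key]; rfl)
  obtain ⟨t, ht⟩ := (Submodule.Quotient.mk_eq_zero _).mp h2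
  exact ⟨t, t.2, fun i ↦ (congrFun ht i).symm⟩

/-- A splitting of the punctured spectrum of `B` comes from one of `R`. -/
theorem exists_descend_split [IsLocalRing B] [HenselianLocalRing R] [Module.FaithfullyFlat R B]
    (hmap : (maximalIdeal R).map (algebraMap R B) = maximalIdeal B)
    (happ : ∀ (b : B) (k : ℕ), ∃ r, b - algebraMap R B r ∈ maximalIdeal B ^ k)
    (hfg : (maximalIdeal R).FG) (I J : Ideal B) (hIJ : I * J = ⊥) {N : ℕ}
    (hN : maximalIdeal B ^ N ≤ I ⊔ J) :
    ∃ I' J' : Ideal R,
      (∀ q : Ideal R, q.IsPrime → q ≠ maximalIdeal R → (I' ≤ q ↔ ¬ J' ≤ q)) ∧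
      (∀ q : Ideal B, q.IsPrime → q ≠ maximalIdeal B →
        (I ≤ q ↔ I' ≤ q.comap (algebraMap R B))) := by
  classical
  obtain ⟨d, x, hx⟩ := Submodule.fg_iff_exists_fin_generating_family.mp (hfg.pow (n := N))
  let X : Fin d → B := fun i ↦ algebraMap R B (x i)
  have hXspan : Ideal.span (Set.range X) = maximalIdeal B ^ N := by
    rw [← hmap, ← Ideal.map_pow, ← hx, Ideal.map_span, ← Set.range_comp]; rfl
  have hXmem : ∀ i, X i ∈ maximalIdeal B ^ N := fun i ↦
    hXspan ▸ Ideal.subset_span ⟨i, rfl⟩
  choose u hu v hv huv using fun i ↦ Submodule.mem_sup.mp (hN (hXmem i))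
  have huv0 : ∀ i j, u i * v j = 0 := fun i j ↦ by
    have := Ideal.mul_mem_mul (hu i) (hv j)
    rwa [hIJ, Ideal.mem_bot] at this
  have hux : ∀ i j, u i * X j = u j * X i := fun i j ↦ by
    rw [← huv i, ← huv j, mul_add, mul_add, huv0, huv0]; ring
  -- the family comes from `R` up to coefficients in `B`
  let f : (Fin d × Fin d → R) →ₗ[R] (Fin d → R) := Fintype.linearCombination R
    fun p ↦ Pi.single p.1 (x p.2) - Pi.single p.2 (x p.1)
  let ux : (Fin d → R) →ₗ[R] B := Fintype.linearCombination R u
  have hcomp : ux ∘ₗ f = 0 := by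
    refine (Pi.basisFun R (Fin d × Fin d)).ext fun p ↦ ?_
    simp only [LinearMap.comp_apply, LinearMap.zero_apply, Pi.basisFun_apply, f,
      Fintype.linearCombination_apply_single, one_smul, map_sub]
    simp only [ux, Fintype.linearCombination_apply_single, Algebra.smul_def]
    rw [sub_eq_zero, mul_comm, mul_comm _ (u p.2)]
    exact hux p.1 p.2
  obtain ⟨k, al, be, hbe, hal⟩ := Module.Flat.exists_factorization_of_comp_eq_zero_of_free hcomp
  let g : Fin k → Fin d → R := fun l i ↦ al (Pi.single i 1) l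
  have hg : ∀ l i j, g l i * x j = g l j * x i := fun l i j ↦ by
    have := congrArg (fun z ↦ z l) (LinearMap.congr_fun hal (Pi.single (i, j) 1))
    simp only [LinearMap.comp_apply, LinearMap.zero_apply, f,
      Fintype.linearCombination_apply_single, one_smul, map_sub, Finsupp.coe_sub, Pi.sub_apply,
      Finsupp.coe_zero, Pi.zero_apply, sub_eq_zero] at this
    have hs : ∀ (i : Fin d) (t : R), Pi.single (M := fun _ ↦ R) i t = t • Pi.single i 1 :=
      fun i t ↦ by rw [← Pi.single_smul, smul_eq_mul, mul_one]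
    rw [hs i, hs j, map_smul, map_smul, Finsupp.smul_apply, Finsupp.smul_apply, smul_eq_mul,
      smul_eq_mul] at this
    rw [mul_comm, this, mul_comm]
  let β : Fin k → B := fun l ↦ be (Finsupp.single l 1)
  have hub : ∀ i, u i = ∑ l, β l * algebraMap R B (g l i) := fun i ↦ by
    have h1 : u i = be (al (Pi.single i 1)) := by
      rw [← LinearMap.comp_apply, ← hbe]
      simp [ux, Fintype.linearCombination_apply_single]
    rw [h1, ← Finsupp.univ_sum_single (al (Pi.single i 1)), map_sum]
    refine Finset.sum_congr rfl fun l _ ↦ ?_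
    rw [← mul_one (al (Pi.single i 1) l), ← smul_eq_mul, ← Finsupp.smul_single, map_smul,
      Algebra.smul_def, mul_comm]
  choose r hr using fun l ↦ happ (β l) (2 * N + 1)
  let a : Fin d → R := fun i ↦ ∑ l, r l * g l i
  have hax : ∀ i j, a i * x j = a j * x i := fun i j ↦ by
    simp only [a, Finset.sum_mul, mul_assoc, hg]
  have hgB : ∀ l i j, algebraMap R B (g l i) * X j = algebraMap R B (g l j) * X i :=
    fun l i j ↦ by rw [← map_mul, hg, map_mul]
  set P := maximalIdeal B
  have hpow : P ^ (2 * N + 1) ≤ P * Ideal.span (Set.range X) * Ideal.span (Set.range X) := by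
    rw [hXspan, ← pow_succ', ← pow_add]
    exact (congrArg (P ^ ·) (by omega : 2 * N + 1 = N + 1 + N)).le
  choose δ hδ hδ' using fun l ↦ exists_mul_eq_mul_of_mem X (fun i ↦ algebraMap R B (g l i))
    (hgB l) _ (hpow (hr l))
  let D := -∑ l, δ l
  have hD : D ∈ P * Ideal.span (Set.range X) :=
    neg_mem (Submodule.sum_mem _ fun l _ ↦ hδ l)
  have haD : ∀ i, algebraMap R B (a i) = u i + D * X i := fun i ↦ by
    simp only [a, map_sum, map_mul, hub, D, neg_mul, Finset.sum_mul, ← sub_eq_add_neg,
      ← Finset.sum_sub_distrib]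
    refine Finset.sum_congr rfl fun l _ ↦ ?_
    linear_combination -hδ' l i
  obtain ⟨D', hD', hDu⟩ := exists_mul_eq_mul_of_mem X u hux P hD
  have hDP : D ∈ P := Ideal.mul_le_left hD
  have hsq : ∀ i, u i * u i = u i * X i := fun i ↦ by rw [← huv i, mul_add, huv0, add_zero]
  obtain ⟨c, hc, hc'⟩ := exists_eq_mul_of_map (fun i ↦ a i * a i - a i * x i) (fun i ↦ x i * x i)
    (maximalIdeal R) (c := 2 * D' + D * D - D)
    (by rw [hmap]; exact sub_mem (add_mem (P.mul_mem_left _ hD') (P.mul_mem_left _ hDP)) hDP)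
    (fun i ↦ by
      rw [map_sub, map_mul, map_mul, map_mul, haD]
      linear_combination hsq i + (2 * X i) * hDu i)
  -- the two roots of `T ^ 2 - T = c`
  obtain ⟨r₀, hroot, hr₀⟩ := HenselianLocalRing.is_henselian (R := R)
    (Polynomial.X ^ 2 - Polynomial.X - Polynomial.C c)
    (by
      rw [sub_sub]
      exact Polynomial.monic_X_pow_sub ((Polynomial.degree_X_add_C c).trans_lt (by norm_num)))
    0 (by simpa using hc) (by simp)
  rw [sub_zero] at hr₀
  rw [Polynomial.IsRoot.def] at hroot
  simp only [Polynomial.eval_sub, Polynomial.eval_pow, Polynomial.eval_X, Polynomial.eval_C]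
    at hroot
  let p : Fin d → R := fun i ↦ a i - r₀ * x i
  let q : Fin d → R := fun i ↦ a i - (1 - r₀) * x i
  have hpq : ∀ i, p i * q i = 0 := fun i ↦ by
    simp only [p, q]
    linear_combination hc' i - (x i * x i) * hroot
  have hcompat : ∀ i j, p i * x j = p j * x i := fun i j ↦ by
    simp only [p]; linear_combination hax i j
  have hcompat' : ∀ i j, q i * x j = q j * x i := fun i j ↦ by
    simp only [q]; linear_combination hax i j
  have hU : IsUnit (1 - 2 * r₀) := by
    by_contra hu
    exact one_notMem_nonunits ((sub_add_cancel (1 : R) (2 * r₀)) ▸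
      (maximalIdeal R).add_mem hu ((maximalIdeal R).mul_mem_left 2 hr₀))
  have hspan : Ideal.span (Set.range x) = maximalIdeal R ^ N := hx
  refine ⟨Ideal.span (Set.range p), Ideal.span (Set.range q), fun Q hQ hQm ↦ ?_,
    fun Q hQ hQm ↦ ?_⟩
  · obtain ⟨i, hi⟩ : ∃ i, x i ∉ Q := by
      by_contra hall
      push Not at hall
      refine hQm (le_antisymm (le_maximalIdeal hQ.ne_top) (hQ.le_of_pow_le (n := N) ?_))
      rw [← hspan, Ideal.span_le]
      rintro _ ⟨i, rfl⟩
      exact hall i
    have hall : ∀ {z : Fin d → R}, (∀ i j, z i * x j = z j * x i) → z i ∈ Q →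
        Ideal.span (Set.range z) ≤ Q := fun {z} hz hzi ↦ by
      rw [Ideal.span_le]
      rintro _ ⟨j, rfl⟩
      exact (hQ.mem_or_mem (hz i j ▸ Q.mul_mem_right (x j) hzi)).resolve_right hi
    refine ⟨fun hp hq ↦ ?_, fun hq ↦ ?_⟩
    · have h := Q.sub_mem (hp (Ideal.subset_span ⟨i, rfl⟩)) (hq (Ideal.subset_span ⟨i, rfl⟩))
      rw [show p i - q i = (1 - 2 * r₀) * x i by simp only [p, q]; ring,
        Ideal.unit_mul_mem_iff_mem Q hU] at h
      exact hi h
    · exact hall hcompat ((hQ.mem_or_mem (hpq i ▸ Q.zero_mem)).resolve_right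
        fun h ↦ hq (hall hcompat' h))
  · have hpB : ∀ i, algebraMap R B (p i) = u i + (D - algebraMap R B r₀) * X i := fun i ↦ by
      simp only [p, map_sub, map_mul, haD, X]; ring
    have hunit : IsUnit (1 + (D - algebraMap R B r₀)) := by
      by_contra hu
      have hm : D - algebraMap R B r₀ ∈ P := P.sub_mem hDP (hmap ▸ Ideal.mem_map_of_mem _ hr₀)
      exact one_notMem_nonunits ((add_sub_cancel_right (1 : B) (D - algebraMap R B r₀)) ▸
        P.sub_mem hu hm)
    obtain ⟨i, hi⟩ : ∃ i, X i ∉ Q := by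
      by_contra hall
      push Not at hall
      refine hQm (le_antisymm (le_maximalIdeal hQ.ne_top) (hQ.le_of_pow_le (n := N) ?_))
      rw [← hXspan, Ideal.span_le]
      rintro _ ⟨i, rfl⟩
      exact hall i
    constructor
    · intro hI
      have hunit' : IsUnit (1 - (D + algebraMap R B r₀)) := by
        by_contra hu
        have hm : D + algebraMap R B r₀ ∈ P := P.add_mem hDP (hmap ▸ Ideal.mem_map_of_mem _ hr₀)
        exact one_notMem_nonunits ((sub_add_cancel (1 : B) (D + algebraMap R B r₀)) ▸
          P.add_mem hu hm)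
      have hqi : algebraMap R B (q i) ∉ Q := fun h ↦ by
        rw [show algebraMap R B (q i) = u i - (1 - (D + algebraMap R B r₀)) * X i by
            simp only [q, map_sub, map_mul, map_one, haD, X]; ring] at h
        have h2 := Q.sub_mem (hI (hu i)) h
        rw [sub_sub_cancel, Ideal.unit_mul_mem_iff_mem Q hunit'] at h2
        exact hi h2
      have hpi : algebraMap R B (p i) ∈ Q := (hQ.mem_or_mem
        (show algebraMap R B (p i) * algebraMap R B (q i) ∈ Q by
          rw [← map_mul, hpq, map_zero]; exact Q.zero_mem)).resolve_right hqi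
      rw [Ideal.span_le]
      rintro _ ⟨j, rfl⟩
      refine (hQ.mem_or_mem (x := algebraMap R B (p j)) (y := X i) ?_).resolve_right hi
      rw [← map_mul, hcompat j i, map_mul]
      exact Q.mul_mem_right _ hpi
    · intro hp
      by_contra hI
      have hJ : J ≤ Q := ((hQ.mul_le).mp (hIJ ▸ bot_le)).resolve_left hI
      have h : algebraMap R B (p i) ∈ Q := hp (Ideal.subset_span ⟨i, rfl⟩)
      rw [hpB, show u i + (D - algebraMap R B r₀) * X i =
        (1 + (D - algebraMap R B r₀)) * X i - v i by rw [← huv i]; ring] at h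
      have h2 := Q.add_mem h (hJ (hv i))
      rw [sub_add_cancel, Ideal.unit_mul_mem_iff_mem Q hunit] at h2
      exact hi h2

end GrothLib.Hensel
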