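import Groth.Agent.Lib.Hensel.Unibranch
import Groth.Agent.Lib.Hensel.PuncturedSplit
import Groth.Agent.Lib.Hensel.Noetherian
import Groth.Agent.Lib.AdicExtra.Completion
import Mathlib.RingTheory.AdicCompletion.LocalRing
import Mathlib.RingTheory.Unramified.Finite
import Mathlib.RingTheory.Spectrum.Prime.Topology
import Mathlib.RingTheory.Ideal.GoingDown
import Mathlib.RingTheory.Noetherian.Nilpotent

/-!
# Minimal primes of a henselization and of the completion
-/

namespace GrothLib.Hensel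

open IsLocalRing

universe u

/-- An algebra flat over `A` is flat over any ind-étale algebra mapping to it. -/
theorem EtaleStages.flat_of_restrictScalars {A S : Type u} [CommRing A] [CommRing S] [Algebra A S]
    (hS : EtaleStages A S) (T : Type u) [CommRing T] [Algebra A T] [Algebra S T]
    [IsScalarTower A S T] [Module.Flat A T] : Module.Flat S T := by
  classical
  refine Module.Flat.of_forall_isTrivialRelation fun {l f x} h ↦ ?_
  obtain ⟨N, _, _, _, φ, hφ⟩ := hS (Finset.univ.image f)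
  choose n hn using fun i ↦ hφ (f i) (Finset.mem_image_of_mem _ (Finset.mem_univ i))
  have hn' : ∀ i, φ (n i) = f i := hn
  let _ : Algebra N T := ((algebraMap S T).comp φ.toRingHom).toAlgebra
  have : IsScalarTower A N T := IsScalarTower.of_algebraMap_eq fun a ↦ by
    show algebraMap A T a = algebraMap S T (φ (algebraMap A N a))
    rw [φ.commutes, ← IsScalarTower.algebraMap_apply]
  have : Module.Flat N T := Algebra.FormallyUnramified.flat_of_restrictScalars A N T
  have h' : ∑ i, n i • x i = 0 := by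
    rw [← h]
    refine Finset.sum_congr rfl fun i _ ↦ ?_
    rw [Algebra.smul_def, Algebra.smul_def, ← hn']
    rfl
  obtain ⟨k, c, y, hy, hc⟩ := Module.Flat.iff_forall_isTrivialRelation.mp ‹Module.Flat N T› h'
  refine ⟨k, fun i j ↦ φ (c i j), y, fun i ↦ ?_, fun j ↦ ?_⟩
  · rw [hy i]
    exact Finset.sum_congr rfl fun j _ ↦ by rw [Algebra.smul_def, Algebra.smul_def]; rfl
  · simp only [← hn', ← map_mul, ← map_sum, hc j, map_zero]

section MinimalPrimes

variable {R B : Type u} [CommRing R] [CommRing B] [Algebra R B]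

theorem mapsTo_minimalPrimes [Module.Flat R B] :
    Set.MapsTo (Ideal.comap (algebraMap R B)) (minimalPrimes B) (minimalPrimes R) := by
  intro p hp
  have := hp.1.1
  refine ⟨⟨Ideal.IsPrime.comap _, bot_le⟩, fun r hr hle ↦ ?_⟩
  have := hr.1
  have : p.LiesOver (p.comap (algebraMap R B)) := ⟨rfl⟩
  obtain ⟨P, hPp, hP, hPover⟩ :=
    Ideal.exists_ideal_le_liesOver_of_le (p := r) (q := p.comap (algebraMap R B)) p hle
  rw [le_antisymm (hp.2 ⟨hP, bot_le⟩ hPp) hPp]
  exact hPover.over.ge

theorem surjOn_minimalPrimes [Module.FaithfullyFlat R B] :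
    Set.SurjOn (Ideal.comap (algebraMap R B)) (minimalPrimes B) (minimalPrimes R) := by
  intro p hp
  obtain ⟨P, hPp⟩ :=
    PrimeSpectrum.comap_surjective_of_faithfullyFlat (A := R) (B := B) ⟨p, hp.1.1⟩
  obtain ⟨r, hr, hrP⟩ := Ideal.exists_minimalPrimes_le (bot_le : ⊥ ≤ P.asIdeal)
  have hle : r.comap (algebraMap R B) ≤ p :=
    (Ideal.comap_mono hrP).trans (congrArg PrimeSpectrum.asIdeal hPp).le
  exact ⟨r, hr, le_antisymm hle (hp.2 ⟨hr.1.1.comap _, bot_le⟩ hle)⟩

theorem card_minimalPrimes_le [Module.FaithfullyFlat R B] :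
    ENat.card (minimalPrimes R) ≤ ENat.card (minimalPrimes B) := by
  choose g hg using surjOn_minimalPrimes (R := R) (B := B)
  exact ENat.card_le_card_of_injective (f := fun p : minimalPrimes R ↦
    (⟨g p.2, (hg p.2).1⟩ : minimalPrimes B)) fun p q h ↦ Subtype.ext
      (by rw [← (hg p.2).2, ← (hg q.2).2, show g p.2 = g q.2 from congrArg Subtype.val h])

theorem card_minimalPrimes_eq_iff_injOn [Module.FaithfullyFlat R B] [IsNoetherianRing B] :
    ENat.card (minimalPrimes R) = ENat.card (minimalPrimes B) ↔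
      Set.InjOn (Ideal.comap (algebraMap R B)) (minimalPrimes B) := by
  have hfin := minimalPrimes.finite_of_isNoetherianRing B
  have : Finite (minimalPrimes B) := hfin.to_subtype
  let f : minimalPrimes B → minimalPrimes R := fun p ↦ ⟨_, mapsTo_minimalPrimes p.2⟩
  have hsur : Function.Surjective f := fun p ↦
    let ⟨r, hr, hrp⟩ := surjOn_minimalPrimes p.2
    ⟨⟨r, hr⟩, Subtype.ext hrp⟩
  have : Finite (minimalPrimes R) := Finite.of_surjective f hsur
  constructor
  · intro h
    rw [ENat.card_eq_coe_natCard, ENat.card_eq_coe_natCard, Nat.cast_inj] at h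
    have hb := hsur.bijective_of_nat_card_le h.ge
    intro a ha b hb' hab
    exact congrArg Subtype.val (hb.1 (a₁ := ⟨a, ha⟩) (a₂ := ⟨b, hb'⟩) (Subtype.ext hab))
  · intro h
    refine (ENat.card_congr (Equiv.ofBijective f ⟨fun a b hab ↦ Subtype.ext ?_, hsur⟩)).symm
    exact h a.2 b.2 (congrArg Subtype.val hab)

theorem injOn_iff_isPrime_radical [Module.FaithfullyFlat R B] :
    Set.InjOn (Ideal.comap (algebraMap R B)) (minimalPrimes B) ↔
      ∀ p ∈ minimalPrimes R, (Ideal.map (algebraMap R B) p).radical.IsPrime := by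
  have key : ∀ p ∈ minimalPrimes R, ∀ r ∈ minimalPrimes B,
      r.comap (algebraMap R B) = p → p.map (algebraMap R B) ≤ r := fun p _ r _ h ↦
    Ideal.map_le_iff_le_comap.mpr h.ge
  constructor
  · intro hinj p hp
    obtain ⟨r, hr, hrp⟩ := surjOn_minimalPrimes (B := B) hp
    suffices (p.map (algebraMap R B)).radical = r from this ▸ hr.1.1
    refine le_antisymm (hr.1.1.radical_le_iff.mpr (key p hp r hr hrp)) ?_
    rw [Ideal.radical_eq_sInf]
    refine le_sInf fun P hP ↦ ?_
    have := hP.2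
    have h1 := Ideal.map_le_iff_le_comap.mp hP.1
    -- some prime below `P` lies over `p`
    have := hp.1.1
    have : P.LiesOver (P.comap (algebraMap R B)) := ⟨rfl⟩
    obtain ⟨Q, hQP, hQ, hQover⟩ := Ideal.exists_ideal_le_liesOver_of_le
      (p := p) (q := P.comap (algebraMap R B)) P h1
    obtain ⟨s, hs, hsQ⟩ := Ideal.exists_minimalPrimes_le (bot_le : ⊥ ≤ Q)
    have hsp : s.comap (algebraMap R B) = p := by
      have hle : s.comap (algebraMap R B) ≤ p := (Ideal.comap_mono hsQ).trans hQover.over.ge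
      exact le_antisymm hle (hp.2 ⟨hs.1.1.comap _, bot_le⟩ hle)
    exact (hinj hr hs (hrp.trans hsp.symm)).trans_le (hsQ.trans hQP)
  · intro h r hr s hs hrs
    have hp := mapsTo_minimalPrimes (R := R) hr
    have hle : ∀ t ∈ minimalPrimes B, t.comap (algebraMap R B) = r.comap (algebraMap R B) →
        t = ((r.comap (algebraMap R B)).map (algebraMap R B)).radical := fun t ht hts ↦
      have h1 := ht.1.1.radical_le_iff.mpr (key _ hp t ht hts)
      le_antisymm (ht.2 ⟨h _ hp, bot_le⟩ h1) h1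
    rw [hle r hr rfl, hle s hs hrs.symm]

end MinimalPrimes

section Henselian

variable {R B : Type u} [CommRing R] [CommRing B] [Algebra R B] [IsLocalRing R] [IsLocalRing B]

/-- Residual surjectivity and `m B = n` give approximation to any order. -/
theorem exists_approx (hmap : (maximalIdeal R).map (algebraMap R B) = maximalIdeal B)
    (hres : ∀ b : B, ∃ r, b - algebraMap R B r ∈ maximalIdeal B) (b : B) (k : ℕ) :
    ∃ r, b - algebraMap R B r ∈ maximalIdeal B ^ k := by
  induction k generalizing b with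
  | zero => exact ⟨0, by simp⟩
  | succ k ih =>
    obtain ⟨r, hr⟩ := ih b
    rw [← hmap, ← Ideal.map_pow] at hr
    obtain ⟨s, hs⟩ : ∃ s, b - algebraMap R B r - algebraMap R B s ∈ maximalIdeal B ^ (k + 1) := by
      generalize b - algebraMap R B r = z at hr
      rw [Ideal.map] at hr
      induction hr using Submodule.span_induction with
      | mem z hz =>
        obtain ⟨s, -, rfl⟩ := hz
        exact ⟨s, by simp⟩
      | zero => exact ⟨0, by simp⟩
      | add a b _ _ ha hb =>
        obtain ⟨s, hs⟩ := ha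
        obtain ⟨t, ht⟩ := hb
        exact ⟨s + t, by rw [map_add, add_sub_add_comm]; exact add_mem hs ht⟩
      | smul c a hca ha =>
        obtain ⟨s, hs⟩ := ha
        obtain ⟨c₀, hc₀⟩ := hres c
        refine ⟨c₀ * s, ?_⟩
        have ha' : a ∈ maximalIdeal B ^ k := by
          rw [← hmap, ← Ideal.map_pow]; exact hca
        rw [smul_eq_mul, map_mul, show c * a - algebraMap R B c₀ * algebraMap R B s =
          (c - algebraMap R B c₀) * a + algebraMap R B c₀ * (a - algebraMap R B s) by ring]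
        refine add_mem ?_ (Ideal.mul_mem_left _ _ hs)
        rw [pow_succ']
        exact Ideal.mul_mem_mul hc₀ ha'
    exact ⟨r + s, by rw [map_add, ← sub_sub]; exact hs⟩

variable [HenselianLocalRing R] [IsNoetherianRing R] [IsNoetherianRing B] [Module.FaithfullyFlat R B]

/-- Two ideals separating the punctured spectrum of `B` come from two such ideals of `R`. -/
theorem exists_descend (hmap : (maximalIdeal R).map (algebraMap R B) = maximalIdeal B)
    (hres : ∀ b : B, ∃ r, b - algebraMap R B r ∈ maximalIdeal B) (I J : Ideal B)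
    (hsep : ∀ q : Ideal B, q.IsPrime → q ≠ maximalIdeal B → (I ≤ q ↔ ¬ J ≤ q)) :
    ∃ I' J' : Ideal R,
      (∀ q : Ideal R, q.IsPrime → q ≠ maximalIdeal R → (I' ≤ q ↔ ¬ J' ≤ q)) ∧
      (∀ q : Ideal B, q.IsPrime → q ≠ maximalIdeal B →
        (I ≤ q ↔ I' ≤ q.comap (algebraMap R B))) := by
  have hiff : ∀ (L : Ideal B) {q : Ideal B}, q.IsPrime → q ≠ maximalIdeal B →
      (L * maximalIdeal B ≤ q ↔ L ≤ q) := fun L {q} hq hqm ↦ by
    refine ⟨fun h ↦ (hq.mul_le.mp h).resolve_right fun h' ↦ hqm ?_,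
      fun h ↦ Ideal.mul_le_left.trans h⟩
    exact le_antisymm (le_maximalIdeal hq.ne_top) h'
  set I₁ := I * maximalIdeal B
  set J₁ := J * maximalIdeal B
  have hnil : I₁ * J₁ ≤ (⊥ : Ideal B).radical := by
    rw [Ideal.radical_eq_sInf]
    refine le_sInf fun q ⟨_, hq⟩ ↦ ?_
    by_cases hqm : q = maximalIdeal B
    · exact (Ideal.mul_le_left.trans Ideal.mul_le_right).trans hqm.ge
    by_cases hI : I ≤ q
    · exact Ideal.mul_le_left.trans ((hiff I hq hqm).mpr hI)
    · exact Ideal.mul_le_right.trans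
        ((hiff J hq hqm).mpr (not_not.mp (mt (hsep q hq hqm).mpr hI)))
  obtain ⟨M, hM⟩ := Ideal.exists_pow_le_of_le_radical_of_fg hnil (IsNoetherian.noetherian _)
  have hpow : ∀ (L : Ideal B) {q : Ideal B}, q.IsPrime → q ≠ maximalIdeal B →
      ((L * maximalIdeal B) ^ (M + 1) ≤ q ↔ L ≤ q) := fun L {q} hq hqm ↦
    ⟨fun h ↦ (hiff L hq hqm).mp (hq.le_of_pow_le h),
      fun h ↦ (Ideal.pow_le_self (Nat.succ_ne_zero M)).trans ((hiff L hq hqm).mpr h)⟩
  have hrad : maximalIdeal B ≤ (I₁ ^ (M + 1) ⊔ J₁ ^ (M + 1)).radical := by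
    rw [Ideal.radical_eq_sInf]
    refine le_sInf fun q ⟨hle, hq⟩ ↦ ?_
    by_cases hqm : q = maximalIdeal B
    · exact hqm.ge
    · exact absurd ((hpow J hq hqm).mp (le_sup_right.trans hle))
        ((hsep q hq hqm).mp ((hpow I hq hqm).mp (le_sup_left.trans hle)))
  obtain ⟨N, hN⟩ := Ideal.exists_pow_le_of_le_radical_of_fg hrad (IsNoetherian.noetherian _)
  obtain ⟨I', J', h1, h2⟩ := exists_descend_split hmap (exists_approx hmap hres)
    (IsNoetherian.noetherian _) (I₁ ^ (M + 1)) (J₁ ^ (M + 1))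
    (by rw [← mul_pow]; exact le_bot_iff.mp ((Ideal.pow_le_pow_right (Nat.le_succ M)).trans hM))
    hN
  exact ⟨I', J', h1, fun q hq hqm ↦ (hpow I hq hqm).symm.trans (h2 q hq hqm)⟩

/-- A minimal prime of `B` of coheight one is the radical of the extension of its trace. -/
theorem radical_map_comap_eq (hmap : (maximalIdeal R).map (algebraMap R B) = maximalIdeal B)
    (hres : ∀ b : B, ∃ r, b - algebraMap R B r ∈ maximalIdeal B) {q : Ideal B}
    (hq : q ∈ minimalPrimes B) (hqm : q ≠ maximalIdeal B)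
    (hcl : ∀ p : Ideal B, p.IsPrime → q ≤ p → p = q ∨ p = maximalIdeal B) :
    ((q.comap (algebraMap R B)).map (algebraMap R B)).radical = q := by
  have hqp := hq.1.1
  have hfin := minimalPrimes.finite_of_isNoetherianRing B
  let J : Ideal B := (hfin.toFinset.erase q).inf id
  have hsep : ∀ p : Ideal B, p.IsPrime → p ≠ maximalIdeal B → (q ≤ p ↔ ¬ J ≤ p) := by
    intro p hp hpm
    constructor
    · intro hle hJ
      obtain rfl := (hcl p hp hle).resolve_right hpm
      obtain ⟨r, hr, hrp⟩ := (Ideal.IsPrime.inf_le' hp).mp hJ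
      rw [Finset.mem_erase, hfin.mem_toFinset] at hr
      exact hr.1 (le_antisymm hrp (hq.2 ⟨hr.2.1.1, bot_le⟩ hrp))
    · intro hJ
      obtain ⟨r, hr, hrp⟩ := Ideal.exists_minimalPrimes_le (bot_le : ⊥ ≤ p)
      rcases eq_or_ne r q with rfl | hne
      · exact hrp
      · exact absurd ((Finset.inf_le (Finset.mem_erase.mpr ⟨hne, hfin.mem_toFinset.mpr hr⟩)).trans hrp) hJ
  obtain ⟨I', J', h1, h2⟩ := exists_descend hmap hres q J hsep
  have hI : I' ≤ q.comap (algebraMap R B) := (h2 q hqp hqm).mp le_rfl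
  refine le_antisymm (hqp.radical_le_iff.mpr Ideal.map_comap_le) ?_
  rw [Ideal.radical_eq_sInf]
  refine le_sInf fun p ⟨hle, hp⟩ ↦ ?_
  by_cases hpm : p = maximalIdeal B
  · exact hpm ▸ le_maximalIdeal hqp.ne_top
  · exact (h2 p hp hpm).mpr (hI.trans (Ideal.map_le_iff_le_comap.mp hle))

theorem comap_ne_maximalIdeal (hmap : (maximalIdeal R).map (algebraMap R B) = maximalIdeal B)
    {q : Ideal B} (hq : q.IsPrime) (hqm : q ≠ maximalIdeal B) :
    q.comap (algebraMap R B) ≠ maximalIdeal R := fun h ↦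
  hqm (le_antisymm (le_maximalIdeal hq.ne_top) (hmap ▸ Ideal.map_le_iff_le_comap.mpr h.ge))

theorem comap_closedPoint (hmap : (maximalIdeal R).map (algebraMap R B) = maximalIdeal B) :
    (maximalIdeal B).comap (algebraMap R B) = maximalIdeal R :=
  le_antisymm (le_maximalIdeal (Ideal.IsPrime.ne_top (Ideal.IsPrime.comap _)))
    (Ideal.map_le_iff_le_comap.mp hmap.le)

theorem image_punctured (hmap : (maximalIdeal R).map (algebraMap R B) = maximalIdeal B) :
    PrimeSpectrum.comap (algebraMap R B) '' ({closedPoint B}ᶜ : Set (PrimeSpectrum B)) =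
      ({closedPoint R}ᶜ : Set (PrimeSpectrum R)) := by
  ext x
  constructor
  · rintro ⟨y, hy, rfl⟩ h
    exact comap_ne_maximalIdeal hmap y.2 (fun h' ↦ hy (PrimeSpectrum.ext h'))
      (congrArg PrimeSpectrum.asIdeal h)
  · intro hx
    obtain ⟨y, rfl⟩ := PrimeSpectrum.comap_surjective_of_faithfullyFlat (A := R) (B := B) x
    exact ⟨y, fun h ↦ hx (PrimeSpectrum.ext (by
      show y.asIdeal.comap _ = maximalIdeal R
      rw [show y.asIdeal = maximalIdeal B from congrArg PrimeSpectrum.asIdeal h]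
      exact comap_closedPoint hmap)), rfl⟩

/-- The punctured spectrum of `B` is preconnected iff that of `R` is. -/
theorem isPreconnected_punctured_iff
    (hmap : (maximalIdeal R).map (algebraMap R B) = maximalIdeal B)
    (hres : ∀ b : B, ∃ r, b - algebraMap R B r ∈ maximalIdeal B) :
    IsPreconnected ({closedPoint B}ᶜ : Set (PrimeSpectrum B)) ↔
      IsPreconnected ({closedPoint R}ᶜ : Set (PrimeSpectrum R)) := by
  constructor
  · intro h
    rw [← image_punctured hmap]
    exact h.image _ (PrimeSpectrum.continuous_comap _).continuousOn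
  · intro h
    rw [isPreconnected_closed_iff] at h ⊢
    intro t t' ht ht' hcov hne hne'
    by_contra hint
    obtain ⟨I, rfl⟩ := (PrimeSpectrum.isClosed_iff_zeroLocus_ideal t).mp ht
    obtain ⟨J, rfl⟩ := (PrimeSpectrum.isClosed_iff_zeroLocus_ideal t').mp ht'
    obtain ⟨I', J', h1, h2⟩ := exists_descend hmap hres I J fun q hq hqm ↦
      ⟨fun hI hJ ↦ hint ⟨⟨q, hq⟩, fun h ↦ hqm (congrArg PrimeSpectrum.asIdeal h), hI, hJ⟩,
        fun hJ ↦ (hcov (show (⟨q, hq⟩ : PrimeSpectrum B) ∈ ({closedPoint B}ᶜ : Set _) from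
          fun h ↦ hqm (congrArg PrimeSpectrum.asIdeal h))).resolve_right hJ⟩
    have hkey : ∀ y : PrimeSpectrum B, y ≠ closedPoint B →
        (PrimeSpectrum.comap (algebraMap R B) y ∈ PrimeSpectrum.zeroLocus (I' : Set R) ↔
          y ∈ PrimeSpectrum.zeroLocus (I : Set B)) := fun y hy ↦
      (h2 y.asIdeal y.2 fun h ↦ hy (PrimeSpectrum.ext h)).symm
    obtain ⟨x, hx, hx1, hx2⟩ := h (PrimeSpectrum.zeroLocus I') (PrimeSpectrum.zeroLocus J')
      (PrimeSpectrum.isClosed_zeroLocus _) (PrimeSpectrum.isClosed_zeroLocus _)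
      (fun x hx ↦ by
        have hxm : x.asIdeal ≠ maximalIdeal R := fun h ↦ hx (PrimeSpectrum.ext h)
        by_cases hI : I' ≤ x.asIdeal
        · exact Or.inl hI
        · exact Or.inr (not_not.mp (mt (h1 _ x.2 hxm).mpr hI)))
      (by
        obtain ⟨y, hy, hyI⟩ := hne
        exact ⟨_, (image_punctured hmap).subset ⟨y, hy, rfl⟩, (hkey y hy).mpr hyI⟩)
      (by
        obtain ⟨y, hy, hyJ⟩ := hne'
        have hx := (image_punctured hmap).subset ⟨y, hy, rfl⟩
        refine ⟨_, hx, ?_⟩
        refine not_not.mp (mt (h1 _ (PrimeSpectrum.comap (algebraMap R B) y).2 fun h ↦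
          hx (PrimeSpectrum.ext h)).mpr ?_)
        exact fun hI ↦ hint ⟨y, hy, (hkey y hy).mp hI, hyJ⟩)
    exact (h1 _ x.2 fun h ↦ hx (PrimeSpectrum.ext h)).mp hx1 hx2

/-- In dimension one contraction is injective on minimal primes. -/
theorem injOn_of_krullDimLE_one (hmap : (maximalIdeal R).map (algebraMap R B) = maximalIdeal B)
    (hres : ∀ b : B, ∃ r, b - algebraMap R B r ∈ maximalIdeal B) [hd : Ring.KrullDimLE 1 B] :
    Set.InjOn (Ideal.comap (algebraMap R B)) (minimalPrimes B) := by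
  intro q hq r hr h
  have main : ∀ q ∈ minimalPrimes B, q ≠ maximalIdeal B →
      ((q.comap (algebraMap R B)).map (algebraMap R B)).radical = q := fun q hq hqm ↦
    radical_map_comap_eq hmap hres hq hqm fun p hp hle ↦ by
      rcases Ring.krullDimLE_one_iff.mp hd p hp with hmin | hmax
      · exact Or.inl (le_antisymm (hmin.2 ⟨hq.1.1, bot_le⟩ hle) hle)
      · exact Or.inr (eq_maximalIdeal hmax)
  by_cases hqm : q = maximalIdeal B
  · exact le_antisymm (hq.2 ⟨hr.1.1, bot_le⟩ (hqm ▸ le_maximalIdeal hr.1.1.ne_top))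
      (hqm ▸ le_maximalIdeal hr.1.1.ne_top)
  by_cases hrm : r = maximalIdeal B
  · exact le_antisymm (hrm ▸ le_maximalIdeal hq.1.1.ne_top)
      (hr.2 ⟨hq.1.1, bot_le⟩ (hrm ▸ le_maximalIdeal hq.1.1.ne_top))
  rw [← main q hq hqm, h, main r hr hrm]

end Henselian

end GrothLib.Hensel
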