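import Groth.Agent.Lib.Hensel.FibreLocal
import Groth.Agent.Lib.Hensel.CompletionBranches
import Groth.Agent.Lib.GeomReg.Descent
import Mathlib.RingTheory.Unramified.Field
import Mathlib.RingTheory.Localization.BaseChange

/-!
# Regular homomorphisms and ind-étale algebras
-/

set_option autoImplicit false
set_option backward.isDefEq.respectTransparency false

universe u

open TensorProduct IsLocalRing

namespace GrothLib.Hensel

/-- Geometric regularity is invariant under isomorphisms. -/
theorem isGeometricallyRegular_congr {k A B : Type u} [Field k] [CommRing A] [CommRing B] [Algebra k A]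
    [Algebra k B] (e : A ≃ₐ[k] B) (h : CAlg.IsGeometricallyRegular k A) : CAlg.IsGeometricallyRegular k B :=
  fun L _ _ hL => by
    haveI : IsRegularRing (L ⊗[k] A) := h L hL
    exact IsRegularRing.of_ringEquiv (R := L ⊗[k] A)
      (Algebra.TensorProduct.congr (AlgEquiv.refl : L ≃ₐ[k] L) e).toRingEquiv

/-- Geometric regularity of a field of fractions of a base change along a separable algebraic extension. -/
theorem isGeometricallyRegular_tensor_of_separable {k K L T : Type u} [Field k] [Field K] [Algebra k K]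
    [Algebra.IsSeparable k K] [CommRing L] [Algebra k L] [Algebra L K] [IsScalarTower k L K]
    [CommRing T] [Algebra L T] [Algebra k T] [IsScalarTower k L T]
    (M : Submonoid L) [IsLocalization M K] (h : CAlg.IsGeometricallyRegular k T) :
    CAlg.IsGeometricallyRegular K (K ⊗[L] T) := by
  classical
  letI : Algebra T (K ⊗[L] T) := Algebra.TensorProduct.rightAlgebra
  haveI : IsScalarTower k T (K ⊗[L] T) := IsScalarTower.of_algebraMap_eq fun c => by
    rw [Algebra.TensorProduct.algebraMap_apply, IsScalarTower.algebraMap_apply k L K,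
      IsScalarTower.algebraMap_apply k L T, Algebra.algebraMap_eq_smul_one (A := K), smul_tmul,
      ← Algebra.algebraMap_eq_smul_one]
    rfl
  have hk : CAlg.IsGeometricallyRegular k (K ⊗[L] T) := fun F _ _ hF => by
    haveI : IsRegularRing (F ⊗[k] T) := h F hF
    exact GeomReg.isRegularRing_tensor_localization (R := k) (S := T) (S' := K ⊗[L] T)
      (Algebra.algebraMapSubmonoid T M) F
  let ι := {F : IntermediateField k K // FiniteDimensional k F}
  haveI : Nonempty ι := ⟨⟨⊥, inferInstance⟩⟩
  refine GeomReg.isGeometricallyRegular_of_directed (fun F : ι => (F.1 : Type u)) (fun F G => ?_)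
    (fun x => ?_) fun F => ?_
  · haveI := F.2
    haveI := G.2
    exact ⟨⟨F.1 ⊔ G.1, inferInstance⟩, fun x ⟨y, hy⟩ => ⟨⟨x, hy ▸ (le_sup_left : F.1 ≤ F.1 ⊔ G.1) y.2⟩, rfl⟩,
      fun x ⟨y, hy⟩ => ⟨⟨x, hy ▸ (le_sup_right : G.1 ≤ F.1 ⊔ G.1) y.2⟩, rfl⟩⟩
  · haveI : FiniteDimensional k (IntermediateField.adjoin k {x}) :=
      IntermediateField.adjoin.finiteDimensional (Algebra.IsSeparable.isIntegral k x)
    exact ⟨⟨IntermediateField.adjoin k {x}, inferInstance⟩, ⟨x, IntermediateField.mem_adjoin_simple_self k x⟩, rfl⟩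
  · haveI := F.2
    haveI : Algebra.IsSeparable k F.1 := Algebra.isSeparable_tower_bot_of_isSeparable k F.1 K
    exact GeomReg.isGeometricallyRegular_of_finite_separable (k := k) hk

variable {R S : Type u} [CommRing R] [CommRing S] [Algebra R S]

/-- The image of an étale algebra in a field consists of separable elements. -/
theorem mem_separableClosure_of_etale {k K N : Type u} [Field k] [Field K] [Algebra R k] [Algebra R K]
    [Algebra k K] [IsScalarTower R k K] [CommRing N] [Algebra R N] [Algebra.Etale R N] (g : N →ₐ[R] K) (n : N) :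
    g n ∈ separableClosure k K := by
  let f : k ⊗[R] N →ₐ[k] K := Algebra.TensorProduct.lift (Algebra.ofId k K) g fun _ _ => Commute.all _ _
  have hfn : f ((1 : k) ⊗ₜ n) = g n := by simp [f]
  haveI : (RingHom.ker f).IsPrime := RingHom.ker_isPrime _
  let Q := RingHom.ker f
  haveI : Algebra.FormallyUnramified (k ⊗[R] N) Q.ResidueField :=
    .comp _ (Localization.AtPrime Q) _
  haveI : Algebra.FormallyUnramified k Q.ResidueField := .comp k (k ⊗[R] N) _
  haveI : Algebra.EssFiniteType k Q.ResidueField := .comp k (k ⊗[R] N) _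
  haveI : Algebra.IsSeparable k Q.ResidueField := Algebra.FormallyUnramified.isSeparable k Q.ResidueField
  let j : Q.ResidueField →ₐ[k] K := Ideal.ResidueField.liftₐ Q f le_rfl
    fun x hx => (isUnit_iff_ne_zero.2 hx : IsUnit (f x))
  rw [mem_separableClosure_iff, ← hfn,
    show f ((1 : k) ⊗ₜ n) = j (algebraMap (k ⊗[R] N) Q.ResidueField ((1 : k) ⊗ₜ n)) from
      (Ideal.ResidueField.liftₐ_algebraMap Q f _ _ _).symm]
  exact (isSeparable_map_iff j j.toRingHom.injective).2 (Algebra.IsSeparable.isSeparable k _)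

/-- Residue field extensions along ind-étale algebras are separable algebraic. -/
theorem EtaleStages.isSeparable_residueField (hS : EtaleStages R S) (p : Ideal R) [p.IsPrime] (P : Ideal S)
    [P.IsPrime] [Algebra p.ResidueField P.ResidueField] [IsScalarTower R p.ResidueField P.ResidueField] :
    Algebra.IsSeparable p.ResidueField P.ResidueField := by
  let k := p.ResidueField
  let K := P.ResidueField
  have key : ∀ s : S, algebraMap S K s ∈ separableClosure k K := fun s => by
    obtain ⟨N, _, _, _, φ, hφ⟩ := hS {s}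
    obtain ⟨n, hn⟩ := hφ s (Finset.mem_singleton_self s)
    have h1 := mem_separableClosure_of_etale (k := k) ((IsScalarTower.toAlgHom R S K).comp φ) n
    rwa [AlgHom.comp_apply, show φ n = s from hn] at h1
  refine ⟨fun x => mem_separableClosure_iff.1 ?_⟩
  obtain ⟨y, rfl⟩ := residue_surjective x
  obtain ⟨⟨s, t⟩, hst⟩ := IsLocalization.surj P.primeCompl y
  have ht : algebraMap S K t ≠ 0 := fun h => t.2 (Ideal.algebraMap_residueField_eq_zero.1 h)
  have h1 : residue _ y * algebraMap S K t = algebraMap S K s := by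
    have := congrArg (residue (Localization.AtPrime P)) hst
    rw [map_mul] at this
    exact this
  rw [eq_div_of_mul_eq ht h1]
  exact div_mem (key s) (key t)

set_option maxHeartbeats 800000 in
/-- If `R → T` is regular and `R → S` is ind-étale, then `S → T` is regular. -/
theorem EtaleStages.isRegularHom_of_restrictScalars (hS : EtaleStages R S) (T : Type u) [CommRing T]
    [Algebra R T] [Algebra S T] [IsScalarTower R S T] [IsNoetherianRing T] (h : CAlg.IsRegularHom R T) :
    CAlg.IsRegularHom S T := by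
  haveI := h.1
  refine ⟨hS.flat_of_restrictScalars T, fun P _ => ?_⟩
  let p := P.comap (algebraMap R S)
  let k := p.ResidueField
  let K := P.ResidueField
  refine ⟨?_, ?_⟩
  · haveI : Algebra.EssFiniteType S K := inferInstance
    haveI : IsNoetherianRing (T ⊗[S] K) := Algebra.EssFiniteType.isNoetherianRing T _
    exact isNoetherianRing_of_ringEquiv (T ⊗[S] K) (Algebra.TensorProduct.comm S T K).toRingEquiv
  letI : Algebra k K := (Ideal.ResidueField.mapₐ p P (Algebra.ofId R S) rfl).toRingHom.toAlgebra
  haveI : IsScalarTower R k K := IsScalarTower.of_algebraMap_eq fun x =>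
    ((Ideal.ResidueField.mapₐ p P (Algebra.ofId R S) rfl).commutes x).symm
  haveI : Algebra.IsSeparable k K := hS.isSeparable_residueField p P
  letI : Algebra k (S ⊗[R] k) := Algebra.TensorProduct.rightAlgebra
  haveI : SMulCommClass S k (S ⊗[R] k) := ⟨fun s a z => by
    rw [Algebra.smul_def, Algebra.smul_def, Algebra.smul_def, Algebra.smul_def, mul_left_comm]⟩
  haveI : SMulCommClass k S (S ⊗[R] k) := SMulCommClass.symm _ _ _
  let ψ : S ⊗[R] k →ₐ[S] K :=
    Algebra.TensorProduct.lift (Algebra.ofId S K) (IsScalarTower.toAlgHom R k K) fun _ _ => Commute.all _ _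
  letI : Algebra (S ⊗[R] k) K := ψ.toRingHom.toAlgebra
  haveI : IsScalarTower S (S ⊗[R] k) K := IsScalarTower.of_algebraMap_eq fun s => (ψ.commutes s).symm
  haveI : IsScalarTower k (S ⊗[R] k) K := IsScalarTower.of_algebraMap_eq fun c => by
    show algebraMap k K c = ψ (1 ⊗ₜ c)
    simp [ψ]
  have hL : AbsFlat (S ⊗[R] k) := hS.absFlat_tensor (absFlat_of_field k)
  haveI hker : (RingHom.ker ψ.toRingHom).IsPrime := RingHom.ker_isPrime _
  let M := (RingHom.ker ψ.toRingHom).primeCompl
  have hsurj : Function.Surjective ψ := fun x => by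
    obtain ⟨y, rfl⟩ := residue_surjective x
    obtain ⟨⟨s, t⟩, hst⟩ := IsLocalization.surj P.primeCompl y
    have ht : algebraMap S K t ≠ 0 := fun h => t.2 (Ideal.algebraMap_residueField_eq_zero.1 h)
    have h1 : residue _ y * algebraMap S K t = algebraMap S K s := by
      have := congrArg (residue (Localization.AtPrime P)) hst
      rw [map_mul] at this
      exact this
    obtain ⟨z', hz'⟩ := hL (algebraMap S (S ⊗[R] k) t)
    have h2 := congrArg ψ hz'
    rw [map_mul, map_mul, AlgHom.commutes] at h2
    refine ⟨algebraMap S (S ⊗[R] k) s * z', ?_⟩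
    rw [map_mul, AlgHom.commutes, ← h1]
    refine mul_left_cancel₀ ht ?_
    linear_combination (residue _ y) * h2
  haveI : IsLocalization M K := by
    refine ⟨fun m => isUnit_iff_ne_zero.2 m.2, fun x => ?_, fun {a b} hab => ?_⟩
    · obtain ⟨z, rfl⟩ := hsurj x
      exact ⟨⟨z, 1⟩, by show ψ z * ψ 1 = ψ z; rw [map_one, mul_one]⟩
    · obtain ⟨c', hc'⟩ := hL (a - b)
      have h0 : ψ (a - b) = 0 := by rw [map_sub]; exact sub_eq_zero.2 hab
      refine ⟨⟨1 - (a - b) * c', ?_⟩, ?_⟩
      · show ψ (1 - (a - b) * c') ≠ 0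
        rw [map_sub, map_mul, h0, map_one, zero_mul, sub_zero]
        exact one_ne_zero
      · show (1 - (a - b) * c') * a = (1 - (a - b) * c') * b
        linear_combination -hc'
  let e0 : (S ⊗[R] k) ⊗[S] T ≃+* k ⊗[R] T :=
    (Algebra.TensorProduct.comm S (S ⊗[R] k) T).toRingEquiv.trans
      ((Algebra.TensorProduct.cancelBaseChange R S T T k).toRingEquiv.trans
        (Algebra.TensorProduct.comm R T k).toRingEquiv)
  let e : (S ⊗[R] k) ⊗[S] T ≃ₐ[k] k ⊗[R] T := AlgEquiv.ofRingEquiv (f := e0) fun c => by
    show e0 (((1 : S) ⊗ₜ[R] c) ⊗ₜ[S] (1 : T)) = c ⊗ₜ[R] (1 : T)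
    simp [e0]
  have hT : CAlg.IsGeometricallyRegular k ((S ⊗[R] k) ⊗[S] T) := isGeometricallyRegular_congr e.symm (h.2 p).2
  exact isGeometricallyRegular_congr (Algebra.TensorProduct.cancelBaseChange S (S ⊗[R] k) K K T)
    (isGeometricallyRegular_tensor_of_separable M hT)

/-- Ind-étale algebras are regular, if Noetherian. -/
theorem EtaleStages.isRegularHom (hS : EtaleStages R S) [IsNoetherianRing S] [Module.Flat R S] :
    CAlg.IsRegularHom R S := by
  refine GeomReg.isRegularHom_iff.2 ⟨inferInstance, fun L _ _ _ => ?_⟩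
  have h : AbsFlat (S ⊗[R] L) := hS.absFlat_tensor (absFlat_of_field L)
  haveI := h.isReduced
  haveI : IsNoetherianRing (S ⊗[R] L) := Algebra.EssFiniteType.isNoetherianRing S _
  haveI : Ring.KrullDimLE 0 (S ⊗[R] L) :=
    Ring.krullDimLE_zero_iff.2 fun q _ => h.isMaximal q
  haveI : IsArtinianRing (S ⊗[R] L) := isArtinianRing_iff_isNoetherianRing_krullDimLE_zero.2 ⟨‹_›, ‹_›⟩
  haveI : IsRegularRing (S ⊗[R] L) := GeomReg.isRegularRing_of_isArtinian_of_isReduced _
  exact IsRegularRing.of_ringEquiv (R := S ⊗[R] L) (Algebra.TensorProduct.comm R S L).toRingEquiv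

end GrothLib.Hensel
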