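import Groth.Agent.Lib.Hensel.MultivarRoot
import Groth.Agent.Lib.Hensel.Properties
import Mathlib.Algebra.Category.Ring.FilteredColimits
import Mathlib.RingTheory.Flat.EquationalCriterion

/-!
# The colimit of étale algebras with a point in a fixed algebra

For an `A`-algebra `C`, `Hull A C` is the filtered colimit of all étale `A`-algebras `A'` equipped
with an `A`-algebra map `A' → C`. With `C = A ⧸ I` it is the henselization of the pair `(A, I)`,
and with `C` a separable closure of the residue field it is the strict henselization.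
-/

namespace GrothLib.Hensel

open CategoryTheory CategoryTheory.Limits
open scoped TensorProduct

universe u

variable (A C : Type u) [CommRing A] [CommRing C] [Algebra A C]

/-- An étale `A`-algebra with a point in `C`, in a small form. -/
structure Nbhd : Type u where
  /-- number of generators -/
  n : ℕ
  /-- ideal of relations -/
  rels : Ideal (MvPolynomial (Fin n) A)
  etale : Algebra.Etale A (MvPolynomial (Fin n) A ⧸ rels)
  /-- the point -/
  pt : (MvPolynomial (Fin n) A ⧸ rels) →ₐ[A] C

namespace Nbhd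

variable {A C}

/-- The underlying ring. -/
abbrev Ring (N : Nbhd A C) : Type u := MvPolynomial (Fin N.n) A ⧸ N.rels

instance etale_ring (N : Nbhd A C) : Algebra.Etale A N.Ring := N.etale

/-- Morphisms: algebra maps compatible with the points. -/
@[ext]
structure Hom (N M : Nbhd A C) : Type u where
  /-- the algebra map -/
  map : N.Ring →ₐ[A] M.Ring
  comp_pt : M.pt.comp map = N.pt

noncomputable instance instCategory : Category (Nbhd A C) where
  Hom := Hom
  id N := ⟨AlgHom.id A _, AlgHom.comp_id _⟩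
  comp f g := ⟨g.map.comp f.map, by rw [← AlgHom.comp_assoc, g.comp_pt, f.comp_pt]⟩

theorem exists_iso (A' : Type u) [CommRing A'] [Algebra A A'] [Algebra.Etale A A']
    (φ : A' →ₐ[A] C) : ∃ (N : Nbhd A C) (e : A' ≃ₐ[A] N.Ring), N.pt.comp e.toAlgHom = φ := by
  obtain ⟨n, f, hf, -⟩ := (inferInstance : Algebra.FinitePresentation A A').out
  let e : (MvPolynomial (Fin n) A ⧸ RingHom.ker f) ≃ₐ[A] A' :=
    Ideal.quotientKerAlgEquivOfSurjective hf
  refine ⟨⟨n, _, Algebra.Etale.of_equiv e.symm, φ.comp e.toAlgHom⟩, e.symm, ?_⟩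
  ext x
  simp

/-- The standard object attached to an étale algebra with a point. -/
noncomputable def ofEtale (A' : Type u) [CommRing A'] [Algebra A A'] [Algebra.Etale A A']
    (φ : A' →ₐ[A] C) : Nbhd A C :=
  (exists_iso A' φ).choose

/-- Its identification. -/
noncomputable def ofEtaleEquiv (A' : Type u) [CommRing A'] [Algebra A A'] [Algebra.Etale A A']
    (φ : A' →ₐ[A] C) : A' ≃ₐ[A] (ofEtale A' φ).Ring :=
  (exists_iso A' φ).choose_spec.choose

theorem ofEtale_pt (A' : Type u) [CommRing A'] [Algebra A A'] [Algebra.Etale A A']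
    (φ : A' →ₐ[A] C) : (ofEtale A' φ).pt.comp (ofEtaleEquiv A' φ).toAlgHom = φ :=
  (exists_iso A' φ).choose_spec.choose_spec

noncomputable instance : Nonempty (Nbhd A C) := ⟨ofEtale A (Algebra.ofId A C)⟩

/-- A morphism out of an étale algebra. -/
noncomputable def homOfEtale (N : Nbhd A C) (A' : Type u) [CommRing A'] [Algebra A A']
    [Algebra.Etale A A'] (φ : A' →ₐ[A] C) (f : N.Ring →ₐ[A] A') (hf : φ.comp f = N.pt) :
    N ⟶ ofEtale A' φ :=
  ⟨(ofEtaleEquiv A' φ).toAlgHom.comp f, by rw [← AlgHom.comp_assoc, ofEtale_pt, hf]⟩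

/-- Two maps agreeing at a point are equalized by a localization not losing the point. -/
theorem exists_away_equalize {R S S' : Type u} [CommRing R] [CommRing S] [CommRing S']
    [Algebra R S] [Algebra R S'] [Algebra.FormallyUnramified R S] [Algebra.EssFiniteType R S]
    {D : Type u} [CommRing D] [Algebra R D] (f g : S →ₐ[R] S') (ψ : S' →ₐ[R] D)
    (h : ψ.comp f = ψ.comp g) :
    ∃ E : S', ψ E = 1 ∧ ∀ x, E * f x = E * g x := by
  let Φ := Algebra.TensorProduct.productMap f g
  refine ⟨Φ (Algebra.FormallyUnramified.elem R S), ?_, fun x ↦ ?_⟩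
  · have : ψ.comp Φ = (ψ.comp f).comp (Algebra.TensorProduct.lmul' R) := by
      refine Algebra.TensorProduct.ext' fun a b ↦ ?_
      have hb : ψ (g b) = ψ (f b) := (AlgHom.congr_fun h b).symm
      simp [Φ, hb]
    have := AlgHom.congr_fun this (Algebra.FormallyUnramified.elem R S)
    simp only [AlgHom.comp_apply, Algebra.FormallyUnramified.lmul_elem, map_one] at this
    exact this
  · have := congrArg Φ (Algebra.FormallyUnramified.one_tmul_mul_elem (R := R) x)
    rw [map_mul, map_mul] at this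
    have h1 : g x * Φ (Algebra.FormallyUnramified.elem R S) =
        f x * Φ (Algebra.FormallyUnramified.elem R S) := by simpa [Φ] using this
    rw [mul_comm, ← h1, mul_comm]

instance isFiltered : IsFiltered (Nbhd A C) where
  cocone_objs N M := by
    have : Algebra.Etale A (N.Ring ⊗[A] M.Ring) := Algebra.Etale.comp A N.Ring _
    let φ : (N.Ring ⊗[A] M.Ring) →ₐ[A] C := Algebra.TensorProduct.productMap N.pt M.pt
    refine ⟨ofEtale (N.Ring ⊗[A] M.Ring) φ, homOfEtale N (N.Ring ⊗[A] M.Ring) φ
        Algebra.TensorProduct.includeLeft (Algebra.TensorProduct.productMap_left _ _),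
      homOfEtale M (N.Ring ⊗[A] M.Ring) φ Algebra.TensorProduct.includeRight
        (Algebra.TensorProduct.productMap_right _ _), trivial⟩
  cocone_maps N M f g := by
    obtain ⟨E, hE, hfg⟩ := exists_away_equalize f.map g.map M.pt
      (f.comp_pt.trans g.comp_pt.symm)
    let φ : Localization.Away E →ₐ[A] C :=
      IsLocalization.Away.liftAlgHom E (f := M.pt) (by rw [hE]; exact isUnit_one)
    let i : M.Ring →ₐ[A] Localization.Away E := IsScalarTower.toAlgHom A _ _
    refine ⟨ofEtale _ φ, homOfEtale M _ φ i ?_, ?_⟩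
    · ext x
      exact IsLocalization.lift_eq _ _
    · refine Hom.ext ?_
      show ((ofEtaleEquiv _ φ).toAlgHom.comp i).comp f.map =
        ((ofEtaleEquiv _ φ).toAlgHom.comp i).comp g.map
      ext x
      refine congrArg (ofEtaleEquiv (Localization.Away E) φ) ?_
      show algebraMap _ _ (f.map _) = algebraMap _ _ (g.map _)
      refine (IsLocalization.Away.algebraMap_isUnit (S := Localization.Away E) E).mul_left_cancel ?_
      rw [← map_mul, ← map_mul, hfg]

variable (A C)

/-- The diagram of rings. -/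
@[simps]
noncomputable def diagram : Nbhd A C ⥤ CommRingCat.{u} where
  obj N := CommRingCat.of N.Ring
  map f := CommRingCat.ofHom f.map.toRingHom

/-- The cocone with vertex `C`. -/
@[simps]
noncomputable def ptCocone : Cocone (diagram A C) where
  pt := CommRingCat.of C
  ι :=
    { app := fun N ↦ CommRingCat.ofHom N.pt.toRingHom
      naturality := fun N M f ↦ by
        ext x
        exact AlgHom.congr_fun f.comp_pt x }

end Nbhd

/-- The colimit of all étale neighbourhoods of the point in `C`. -/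
def Hull : Type u := (colimit (Nbhd.diagram A C) : CommRingCat.{u})

namespace Hull

noncomputable instance : CommRing (Hull A C) :=
  inferInstanceAs (CommRing (colimit (Nbhd.diagram A C) : CommRingCat.{u}))

/-- The coprojection. -/
noncomputable def ιRing (N : Nbhd A C) : N.Ring →+* Hull A C :=
  (colimit.ι (Nbhd.diagram A C) N).hom

variable {A C}

theorem ιRing_map {N M : Nbhd A C} (f : N ⟶ M) (x : N.Ring) :
    ιRing A C M (f.map x) = ιRing A C N x :=
  ConcreteCategory.congr_hom (colimit.w (Nbhd.diagram A C) f) x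

theorem ιRing_algebraMap (N M : Nbhd A C) (a : A) :
    ιRing A C N (algebraMap A N.Ring a) = ιRing A C M (algebraMap A M.Ring a) := by
  obtain ⟨K, f, g, -⟩ := IsFilteredOrEmpty.cocone_objs N M
  rw [← ιRing_map f, ← ιRing_map g, f.map.commutes, g.map.commutes]

noncomputable instance : Algebra A (Hull A C) :=
  ((ιRing A C (Classical.arbitrary (Nbhd A C))).comp (algebraMap A _)).toAlgebra

/-- The coprojection as an algebra map. -/
noncomputable def ι (N : Nbhd A C) : N.Ring →ₐ[A] Hull A C where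
  toRingHom := ιRing A C N
  commutes' a := ιRing_algebraMap N _ a

theorem ι_map {N M : Nbhd A C} (f : N ⟶ M) (x : N.Ring) : ι M (f.map x) = ι N x :=
  ιRing_map f x

theorem exists_ι (x : Hull A C) : ∃ (N : Nbhd A C) (a : N.Ring), ι N a = x :=
  Concrete.colimit_exists_rep (Nbhd.diagram A C) x

theorem exists_map_eq_zero {N : Nbhd A C} {a : N.Ring} (h : ι N a = 0) :
    ∃ (M : Nbhd A C) (f : N ⟶ M), f.map a = 0 := by
  obtain ⟨M, f, g, hfg⟩ := Concrete.colimit_exists_of_rep_eq (Nbhd.diagram A C) (i := N) (j := N)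
    a (0 : N.Ring) (h.trans (map_zero (ι N)).symm)
  exact ⟨M, f, hfg.trans (map_zero g.map)⟩

/-- Finitely many elements come from one stage. -/
theorem exists_ι_family {σ : Type*} [Finite σ] (x : σ → Hull A C) :
    ∃ (N : Nbhd A C) (a : σ → N.Ring), ∀ i, ι N (a i) = x i := by
  classical
  choose N a ha using fun i ↦ exists_ι (x i)
  have := Fintype.ofFinite σ
  obtain ⟨K, hK⟩ := IsFiltered.sup_objs_exists (Finset.univ.image N)
  let f : ∀ i, N i ⟶ K := fun i ↦ (hK (by simp)).some
  exact ⟨K, fun i ↦ (f i).map (a i), fun i ↦ (ι_map _ _).trans (ha i)⟩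

theorem algHom_ext {T : Type*} [CommRing T] [Algebra A T] {f g : Hull A C →ₐ[A] T}
    (h : ∀ N, f.comp (ι N) = g.comp (ι N)) : f = g := by
  ext x
  obtain ⟨N, a, rfl⟩ := exists_ι x
  exact AlgHom.congr_fun (h N) a

/-- The cocone given by compatible algebra maps. -/
noncomputable def descCocone {T : Type u} [CommRing T] [Algebra A T] (l : ∀ N : Nbhd A C, N.Ring →ₐ[A] T)
    (h : ∀ {N M : Nbhd A C} (f : N ⟶ M), (l M).comp f.map = l N) : Cocone (Nbhd.diagram A C) where
  pt := CommRingCat.of T
  ι :=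
    { app := fun N ↦ CommRingCat.ofHom (l N).toRingHom
      naturality := fun N M f ↦ by
        ext x
        exact AlgHom.congr_fun (h f) x }

/-- Maps out of the hull. -/
noncomputable def desc {T : Type u} [CommRing T] [Algebra A T] (l : ∀ N : Nbhd A C, N.Ring →ₐ[A] T)
    (h : ∀ {N M : Nbhd A C} (f : N ⟶ M), (l M).comp f.map = l N) : Hull A C →ₐ[A] T where
  toRingHom := (colimit.desc (Nbhd.diagram A C) (descCocone l h)).hom
  commutes' a := by
    refine Eq.trans ?_ ((l (Classical.arbitrary (Nbhd A C))).commutes a)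
    exact ConcreteCategory.congr_hom
      (colimit.ι_desc (descCocone l h) (Classical.arbitrary (Nbhd A C))) _

theorem desc_ι {T : Type u} [CommRing T] [Algebra A T] (l : ∀ N : Nbhd A C, N.Ring →ₐ[A] T)
    (h : ∀ {N M : Nbhd A C} (f : N ⟶ M), (l M).comp f.map = l N) (N : Nbhd A C) (x : N.Ring) :
    desc l h (ι N x) = l N x :=
  ConcreteCategory.congr_hom (colimit.ι_desc (descCocone l h) N) x

/-- The point of the hull in `C`. -/
noncomputable def proj : Hull A C →ₐ[A] C := desc (fun N ↦ N.pt) fun f ↦ f.comp_pt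

theorem proj_ι (N : Nbhd A C) (x : N.Ring) : proj (ι N x) = N.pt x :=
  desc_ι (fun N ↦ N.pt) (fun f ↦ f.comp_pt) N x

theorem proj_comp_ι (N : Nbhd A C) : proj.comp (ι N) = N.pt := AlgHom.ext (proj_ι N)

/-- The map from an étale algebra with a point. -/
noncomputable def of {A' : Type u} [CommRing A'] [Algebra A A'] [Algebra.Etale A A']
    (φ : A' →ₐ[A] C) : A' →ₐ[A] Hull A C :=
  (ι (Nbhd.ofEtale A' φ)).comp (Nbhd.ofEtaleEquiv A' φ).toAlgHom

theorem proj_comp_of {A' : Type u} [CommRing A'] [Algebra A A'] [Algebra.Etale A A']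
    (φ : A' →ₐ[A] C) : proj.comp (of φ) = φ := by
  rw [of, ← AlgHom.comp_assoc, proj_comp_ι, Nbhd.ofEtale_pt]

theorem of_comp {N : Nbhd A C} {A' : Type u} [CommRing A'] [Algebra A A'] [Algebra.Etale A A']
    (φ : A' →ₐ[A] C) (f : N.Ring →ₐ[A] A') (hf : φ.comp f = N.pt) :
    (of φ).comp f = ι N :=
  AlgHom.ext fun x ↦ ι_map (Nbhd.homOfEtale N A' φ f hf) x

theorem proj_surjective (h : ∀ c : C, ∃ (N : Nbhd A C) (a : N.Ring), N.pt a = c) :
    Function.Surjective (proj : Hull A C →ₐ[A] C) := fun c ↦ by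
  obtain ⟨N, a, rfl⟩ := h c
  exact ⟨ι N a, proj_ι N a⟩

/-- The hull reflects units along its point. -/
theorem isUnit_of_isUnit_proj {x : Hull A C} (h : IsUnit (proj x)) : IsUnit x := by
  obtain ⟨N, a, rfl⟩ := exists_ι x
  rw [proj_ι] at h
  let φ : Localization.Away a →ₐ[A] C := IsLocalization.Away.liftAlgHom a (f := N.pt) h
  have hcomp : φ.comp (IsScalarTower.toAlgHom A N.Ring (Localization.Away a)) = N.pt :=
    AlgHom.ext fun y ↦ IsLocalization.lift_eq _ y
  rw [← of_comp φ _ hcomp]
  exact (IsLocalization.Away.algebraMap_isUnit a).map (of φ)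

theorem ker_proj_le_jacobson :
    RingHom.ker (proj : Hull A C →ₐ[A] C).toRingHom ≤ Ideal.jacobson ⊥ :=
  le_jacobson_of_forall_isUnit_one_add fun x hx ↦
    isUnit_of_isUnit_proj (by
      rw [map_add, map_one, show proj x = 0 from hx, add_zero]; exact isUnit_one)

open Polynomial in
/-- The hull is henselian along its point. -/
theorem henselianRing :
    HenselianRing (Hull A C) (RingHom.ker (proj : Hull A C →ₐ[A] C).toRingHom) := by
  refine ⟨ker_proj_le_jacobson, fun f hf a₀ h₁ h₂ ↦ ?_⟩
  classical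
  rcases subsingleton_or_nontrivial (Hull A C) with hs | hs
  · exact ⟨a₀, Subsingleton.elim _ _, by simp⟩
  set d := f.natDegree
  obtain ⟨N, a, ha⟩ := exists_ι_family (Fin.cons a₀ fun i : Fin d ↦ f.coeff i)
  let p : N.Ring[X] := X ^ d + ∑ i : Fin d, Polynomial.C (a i.succ) * X ^ (i : ℕ)
  have hp : p.map (ι N).toRingHom = f := by
    conv_rhs => rw [hf.as_sum]
    rw [← Fin.sum_univ_eq_sum_range (fun i ↦ Polynomial.C (f.coeff i) * X ^ i)]
    simp [p, Polynomial.map_sum, ha, d]
  have : Nontrivial N.Ring := (ι N).toRingHom.domain_nontrivial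
  have hpm : p.Monic := by
    refine monic_X_pow_add ((degree_sum_le _ _).trans_lt ((Finset.sup_lt_iff
      (WithBot.bot_lt_coe d)).mpr fun i _ ↦ (degree_C_mul_X_pow_le _ _).trans_lt
      (Nat.cast_lt.mpr i.isLt)))
  let _ : Algebra N.Ring C := N.pt.toRingHom.toAlgebra
  have : IsScalarTower A N.Ring C :=
    IsScalarTower.of_algebraMap_eq (R := A) (S := N.Ring) (A := C) fun r ↦ (N.pt.commutes r).symm
  set P := simpleRootPair p hpm
  have hpt : N.pt (a 0) = proj a₀ := by rw [← proj_ι, ha]; rfl
  have hev : ∀ q : N.Ring[X], aeval (proj a₀) q = proj ((q.map (ι N).toRingHom).eval a₀) := by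
    intro q
    rw [eval_map, show proj (eval₂ (ι N).toRingHom a₀ q) =
      eval₂ ((proj : Hull A C →ₐ[A] C).toRingHom.comp (ι N).toRingHom) (proj a₀) q from
        hom_eval₂ q _ proj.toRingHom a₀, aeval_def]
    congr 1
    exact RingHom.ext fun y ↦ (proj_ι N y).symm
  have hmap : P.HasMap (proj a₀) := by
    refine ⟨?_, ?_⟩
    · rw [hev]
      show proj ((p.map (ι N).toRingHom).eval a₀) = 0
      rw [hp]; exact h₁
    · rw [hev]
      show IsUnit (proj ((p.derivative.map (ι N).toRingHom).eval a₀))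
      rw [← derivative_map, hp]
      obtain ⟨b, hb⟩ := isUnit_iff_exists_inv.mp h₂
      obtain ⟨b, rfl⟩ := Ideal.Quotient.mk_surjective b
      rw [← map_mul, ← map_one (Ideal.Quotient.mk _), Ideal.Quotient.eq] at hb
      refine isUnit_iff_exists_inv.mpr ⟨proj b, ?_⟩
      rw [← sub_eq_zero, ← map_mul, ← map_one (proj : Hull A C →ₐ[A] C), ← map_sub]
      exact hb
  let _ : Algebra A P.Ring := ((algebraMap N.Ring P.Ring).comp (algebraMap A N.Ring)).toAlgebra
  have : IsScalarTower A N.Ring P.Ring :=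
    IsScalarTower.of_algebraMap_eq (R := A) (S := N.Ring) (A := P.Ring) fun _ ↦ rfl
  have : Algebra.Etale A P.Ring := Algebra.Etale.comp A N.Ring _
  let φ : P.Ring →ₐ[A] C := (P.lift _ hmap).restrictScalars A
  let i : N.Ring →ₐ[A] P.Ring := IsScalarTower.toAlgHom A _ _
  have hcomp : φ.comp i = N.pt := AlgHom.ext fun y ↦ (P.lift _ hmap).commutes y
  have hof := of_comp φ i hcomp
  refine ⟨of φ P.X, ?_, ?_⟩
  · have h0 : eval₂ (algebraMap N.Ring P.Ring) P.X p = 0 := StandardEtalePair.hasMap_X.1
    have h := congrArg (of φ).toRingHom h0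
    rw [hom_eval₂, map_zero] at h
    rw [IsRoot, ← hp, eval_map]
    refine Eq.trans ?_ h
    congr 1
    exact RingHom.ext fun y ↦ (AlgHom.congr_fun hof y).symm
  · show proj (of φ P.X - a₀) = 0
    rw [map_sub, sub_eq_zero]
    refine (AlgHom.congr_fun (proj_comp_of φ) P.X).trans ?_
    exact P.lift_X _ hmap

instance flat : Module.Flat A (Hull A C) := by
  refine Module.Flat.of_forall_isTrivialRelation fun {l f x} h ↦ ?_
  obtain ⟨N, a, ha⟩ := exists_ι_family x
  have h0 : ι N (∑ i, f i • a i) = 0 := by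
    rw [map_sum, ← h]
    exact Finset.sum_congr rfl fun i _ ↦ by rw [map_smul, ha]
  obtain ⟨M, g, hg⟩ := exists_map_eq_zero h0
  rw [map_sum] at hg
  simp only [map_smul] at hg
  obtain ⟨k, c, y, hy, hc⟩ := Module.Flat.iff_forall_isTrivialRelation.mp
    (inferInstance : Module.Flat A M.Ring) hg
  refine ⟨k, c, fun j ↦ ι M (y j), fun i ↦ ?_, hc⟩
  simp only at hy
  rw [← ha i, ← ι_map g, hy i, map_sum]
  simp

theorem existsUnique_lift {T : Type u} [CommRing T] [Algebra A T] (J : Ideal T) [HenselianRing T J]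
    (γ : C →ₐ[A] T ⧸ J) :
    ∃! g : Hull A C →ₐ[A] T, (Ideal.Quotient.mkₐ A J).comp g = γ.comp proj := by
  choose l hl huniq using fun N : Nbhd A C ↦ existsUnique_algHom_lift (I := J) (γ.comp N.pt)
  have hcomp : ∀ {N M : Nbhd A C} (f : N ⟶ M), (l M).comp f.map = l N := fun {N M} f ↦
    huniq N _ (by
      show (Ideal.Quotient.mkₐ A J).comp ((l M).comp f.map) = γ.comp N.pt
      rw [← AlgHom.comp_assoc, hl, AlgHom.comp_assoc, f.comp_pt])
  refine ⟨desc l hcomp, algHom_ext fun N ↦ ?_, fun g hg ↦ algHom_ext fun N ↦ ?_⟩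
  · refine AlgHom.ext fun x ↦ ?_
    simp only [AlgHom.comp_apply, desc_ι, proj_ι]
    exact AlgHom.congr_fun (hl N) x
  · refine (huniq N _ ?_).trans (AlgHom.ext fun x ↦ (desc_ι l hcomp N x).symm)
    show (Ideal.Quotient.mkₐ A J).comp (g.comp (ι N)) = γ.comp N.pt
    rw [← AlgHom.comp_assoc, hg, AlgHom.comp_assoc, proj_comp_ι]

end Hull

end GrothLib.Hensel
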