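import Groth.Agent.Lib.Hensel.AbsFlat
import Groth.Agent.Lib.Hensel.Branches
import Groth.Agent.Lib.Hensel.Noetherian
import Groth.Agent.Lib.Hensel.Properties
import Groth.Agent.Lib.Hensel.Regular
import Groth.Agent.Lib.Depth.Local
import Groth.Prelude.Def_CAlg
import Mathlib.RingTheory.Ideal.AssociatedPrime.Localization
import Mathlib.RingTheory.LocalRing.ResidueField.Fiber
import Mathlib.RingTheory.Ideal.KrullsHeightTheorem
import Mathlib.RingTheory.KrullDimension.Module

/-!
# Local invariants along flat maps with absolutely flat fibres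

For `R → S` flat with étale stages, `R_p → S_P` is flat with `p S_P` the maximal ideal, hence
dimension, depth, regularity, associated primes and the conditions `(Rₖ)`, `(Sₖ)` are preserved.
-/

namespace GrothLib.Hensel

open IsLocalRing TensorProduct

universe u

theorem map_eq_maximalIdeal_of_absFlat_fibre {R S : Type u} [CommRing R] [CommRing S] [Algebra R S]
    (p : Ideal R) [p.IsPrime] (P : Ideal S) [P.IsPrime] [P.LiesOver p]
    (h : AbsFlat (p.ResidueField ⊗[R] S)) :
    p.map (algebraMap R (Localization.AtPrime P)) = maximalIdeal (Localization.AtPrime P) := by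
  refine le_antisymm (Ideal.map_le_iff_le_comap.mpr fun a ha ↦ ?_) ?_
  · rw [Ideal.mem_comap, IsScalarTower.algebraMap_apply R S (Localization.AtPrime P),
      IsLocalization.AtPrime.to_map_mem_maximal_iff (Localization.AtPrime P) P]
    exact (P.over_def p).le ha
  let hPp : PrimeSpectrum.comap (algebraMap R S) ⟨P, inferInstance⟩ = ⟨p, inferInstance⟩ :=
    PrimeSpectrum.ext (P.over_def p).symm
  let q := PrimeSpectrum.preimageEquivFiber R S ⟨p, inferInstance⟩ ⟨⟨P, inferInstance⟩, hPp⟩
  have hq : q.asIdeal.comap
      (Algebra.TensorProduct.includeRight : S →ₐ[R] p.Fiber S).toRingHom = P :=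
    congr($((PrimeSpectrum.preimageEquivFiber R S ⟨p, inferInstance⟩).symm_apply_apply
      ⟨⟨P, inferInstance⟩, hPp⟩).1.asIdeal)
  -- the kernel of `S → κ(p) ⊗ S`
  have hker : ∀ y : S, (1 ⊗ₜ[R] y : p.Fiber S) = 0 →
      algebraMap S (Localization.AtPrime P) y ∈ p.map (algebraMap R (Localization.AtPrime P)) := by
    let pSP := p.map (algebraMap R (Localization.AtPrime P))
    let π : R →+* Localization.AtPrime P ⧸ pSP := algebraMap R _
    have h1 : p ≤ RingHom.ker π := fun a ha ↦
      Ideal.Quotient.eq_zero_iff_mem.mpr (Ideal.mem_map_of_mem _ ha)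
    have h2 : p.primeCompl ≤ (IsUnit.submonoid _).comap π := fun a ha ↦ by
      show IsUnit (Ideal.Quotient.mk pSP (algebraMap R (Localization.AtPrime P) a))
      refine IsUnit.map _ ?_
      rw [IsScalarTower.algebraMap_apply R S (Localization.AtPrime P)]
      exact IsLocalization.map_units _ (⟨algebraMap R S a, fun h ↦ ha ((P.over_def p).ge h)⟩ : P.primeCompl)
    let ψ : p.Fiber S →ₐ[R] Localization.AtPrime P ⧸ pSP :=
      Algebra.TensorProduct.lift (Ideal.ResidueField.liftₐ p (Algebra.ofId R _) h1 h2)
        (IsScalarTower.toAlgHom R S _) fun _ _ ↦ Commute.all _ _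
    intro y hy
    have := congrArg ψ hy
    rw [Algebra.TensorProduct.lift_tmul, map_one, one_mul, map_zero] at this
    exact Ideal.Quotient.eq_zero_iff_mem.mp this
  rw [← Localization.AtPrime.map_eq_maximalIdeal, Ideal.map_le_iff_le_comap]
  intro x hx
  obtain ⟨b, hb⟩ := h (1 ⊗ₜ x)
  obtain ⟨r, hr, s, hs⟩ := Ideal.Fiber.exists_smul_eq_one_tmul (S := S) p
    (1 - ((1 : p.ResidueField) ⊗ₜ[R] x) * b)
  have hsP : s ∉ P := by
    intro hsP
    rw [← hq] at hsP hx
    change (1 ⊗ₜ[R] s : p.Fiber S) ∈ q.asIdeal at hsP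
    change (1 ⊗ₜ[R] x : p.Fiber S) ∈ q.asIdeal at hx
    rw [← hs, Algebra.smul_def] at hsP
    rcases q.2.mem_or_mem hsP with h1 | h1
    · exact hr ((q.asIdeal.over_def p).ge h1)
    · have := q.asIdeal.add_mem h1 (q.asIdeal.mul_mem_right b hx)
      rw [sub_add_cancel] at this
      exact q.2.ne_top ((Ideal.eq_top_iff_one _).mpr this)
  have h0 : (1 ⊗ₜ[R] (x * s) : p.Fiber S) = 0 := by
    have : (1 ⊗ₜ[R] (x * s) : p.Fiber S) = (1 ⊗ₜ x) * (1 ⊗ₜ s) := by simp
    rw [this, ← hs, Algebra.smul_def]
    linear_combination (-(algebraMap R (p.Fiber S) r)) * hb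
  have := hker _ h0
  rw [map_mul] at this
  exact ((p.map (algebraMap R (Localization.AtPrime P))).mul_unit_mem_iff_mem
    (IsLocalization.map_units (M := P.primeCompl) _ ⟨s, hsP⟩)).mp this

variable {R S : Type u} [CommRing R] [CommRing S] [Algebra R S]

theorem EtaleStages.absFlat_fibre (hS : EtaleStages R S) (p : Ideal R) [p.IsPrime] :
    AbsFlat (p.ResidueField ⊗[R] S) :=
  (hS.absFlat_tensor (absFlat_of_field p.ResidueField)).of_surjective
    (Algebra.TensorProduct.comm R S p.ResidueField).toRingEquiv.toRingHom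
    (Algebra.TensorProduct.comm R S p.ResidueField).surjective

section Local

variable [IsLocalRing R] [IsLocalRing S] [IsNoetherianRing R] [IsNoetherianRing S] [Module.Flat R S]

theorem ringKrullDim_eq_of_flat_of_map_eq
    (hmax : (maximalIdeal R).map (algebraMap R S) = maximalIdeal S) :
    ringKrullDim S = ringKrullDim R := by
  have : (maximalIdeal S).LiesOver (maximalIdeal R) :=
    ⟨(maximalIdeal.isMaximal R).eq_of_le (Ideal.IsPrime.ne_top inferInstance)
      (Ideal.map_le_iff_le_comap.mp hmax.le)⟩
  have h := Ideal.height_eq_height_add_of_liesOver_of_hasGoingDown (maximalIdeal R) (maximalIdeal S)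
  rw [hmax, Ideal.map_quotient_self] at h
  have : Nontrivial (S ⧸ maximalIdeal S) :=
    Ideal.Quotient.nontrivial_iff.mpr (maximalIdeal.isMaximal S).ne_top
  rw [Ideal.height_bot, add_zero] at h
  rw [← maximalIdeal_height_eq_ringKrullDim, ← maximalIdeal_height_eq_ringKrullDim, h]

theorem depth_eq_of_flat_of_map_eq
    (hmax : (maximalIdeal R).map (algebraMap R S) = maximalIdeal S) :
    LocCoh.depth S S = LocCoh.depth R R := by
  have : IsLocalHom (algebraMap R S) :=
    ((local_hom_TFAE (algebraMap R S)).out 0 2 rfl rfl).mpr hmax.le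
  have : Module.FaithfullyFlat R S := .of_flat_of_isLocalHom
  unfold LocCoh.depth
  rw [← hmax, ← Depth.idealDepth_baseChange_eq (B := S) (maximalIdeal R) R]
  exact (Depth.idealDepth_eq_of_equiv _ (TensorProduct.AlgebraTensorModule.rid R S S)).symm

end Local

theorem maximalIdeal_mem_associatedPrimes_iff (A : Type u) [CommRing A] [IsLocalRing A]
    [IsNoetherianRing A] : maximalIdeal A ∈ associatedPrimes A A ↔ LocCoh.depth A A = 0 := by
  have hne : maximalIdeal A • (⊤ : Submodule A A) ≠ ⊤ := by
    rw [smul_eq_mul, Ideal.mul_top]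
    exact (maximalIdeal.isMaximal A).ne_top
  constructor
  · intro h
    by_contra hd
    obtain ⟨rs, hlen, hmem, hreg⟩ := (Depth.le_idealDepth_iff_exists (maximalIdeal A) hne 1).mp
      (by exact_mod_cast Order.one_le_iff_pos.mpr (pos_iff_ne_zero.mpr hd))
    obtain ⟨r, rfl⟩ := List.length_eq_one_iff.mp hlen
    rw [RingTheory.Sequence.isWeaklyRegular_singleton_iff] at hreg
    have h2 : r ∈ ⋃ p ∈ associatedPrimes A A, (p : Set A) :=
      Set.mem_biUnion h (hmem r (List.mem_singleton.mpr rfl))
    rw [biUnion_associatedPrimes_eq_zero_divisors] at h2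
    obtain ⟨x, hx0, hx⟩ := h2
    exact hx0 (isSMulRegular_iff_right_eq_zero_of_smul.mp hreg x hx)
  · intro hd
    obtain ⟨p, hp, -⟩ := Depth.exists_depth_localization_le (M := A) (maximalIdeal A) 0 (by exact_mod_cast hd)
    have hsub : (maximalIdeal A : Set A) ⊆ ⋃ q ∈ associatedPrimes A A, (q : Set A) := by
      intro r hr
      rw [biUnion_associatedPrimes_eq_zero_divisors]
      by_contra hzd
      have hr' : IsSMulRegular A r := by
        rw [isSMulRegular_iff_right_eq_zero_of_smul]
        exact fun x hx => not_not.1 fun hx0 => hzd ⟨x, hx0, hx⟩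
      have h1 : ((1 : ℕ) : ℕ∞) ≤ LocCoh.idealDepth (maximalIdeal A) A :=
        (Depth.le_idealDepth_iff_exists _ hne 1).mpr ⟨[r], rfl,
          fun s hs ↦ (List.mem_singleton.mp hs) ▸ hr,
          (RingTheory.Sequence.isWeaklyRegular_singleton_iff A r).mpr hr'⟩
      change LocCoh.idealDepth (maximalIdeal A) A = 0 at hd
      rw [hd] at h1
      exact absurd h1 (by simp)
    have hfin := associatedPrimes.finite A A
    rw [← hfin.coe_toFinset] at hsub
    obtain ⟨q, hq, hle⟩ := (Ideal.subset_union_prime ⊥ ⊥
      (fun q hq _ _ => (hfin.mem_toFinset.1 hq).isPrime)).1 hsub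
    have := hfin.mem_toFinset.1 hq
    rwa [← (maximalIdeal.isMaximal A).eq_of_le this.isPrime.ne_top hle] at this

theorem mem_associatedPrimes_iff_depth_eq_zero {A : Type u} [CommRing A] [IsNoetherianRing A]
    (P : Ideal A) [P.IsPrime] : P ∈ associatedPrimes A A ↔
      LocCoh.depth (Localization.AtPrime P) (Localization.AtPrime P) = 0 := by
  have : IsNoetherianRing (Localization.AtPrime P) :=
    IsLocalization.isNoetherianRing P.primeCompl _ inferInstance
  rw [← maximalIdeal_mem_associatedPrimes_iff, ←
    Module.associatedPrimes.preimage_comap_associatedPrimes_eq_associatedPrimes_of_isLocalizedModule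
      P.primeCompl (Localization.AtPrime P) (Algebra.linearMap A (Localization.AtPrime P)),
    Set.mem_preimage, ← Ideal.under_def, IsLocalization.AtPrime.under_maximalIdeal (Localization.AtPrime P) P]

section Stalk

variable [IsNoetherianRing R] [IsNoetherianRing S] [Module.Flat R S]
  (hS : EtaleStages R S)
include hS

theorem EtaleStages.exists_localization_flat (P : Ideal S) [P.IsPrime] :
    ∃ _ : Algebra (Localization.AtPrime (P.under R)) (Localization.AtPrime P),
      Module.Flat (Localization.AtPrime (P.under R)) (Localization.AtPrime P) ∧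
        (maximalIdeal (Localization.AtPrime (P.under R))).map (algebraMap _ _) =
          maximalIdeal (Localization.AtPrime P) := by
  let := Localization.AtPrime.algebraOfLiesOver (P.under R) P
  refine ⟨inferInstance, ?_, ?_⟩
  · exact (Module.flat_iff_of_isLocalization (Localization.AtPrime (P.under R))
      (P.under R).primeCompl _).mpr (Module.Flat.trans R S _)
  · rw [← Localization.AtPrime.map_eq_maximalIdeal, Ideal.map_map, ← IsScalarTower.algebraMap_eq]
    exact map_eq_maximalIdeal_of_absFlat_fibre _ P (hS.absFlat_fibre _)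

theorem EtaleStages.localization_invariants (P : Ideal S) [P.IsPrime] :
    ringKrullDim (Localization.AtPrime P) = ringKrullDim (Localization.AtPrime (P.under R)) ∧
    LocCoh.depth (Localization.AtPrime P) (Localization.AtPrime P) =
      LocCoh.depth (Localization.AtPrime (P.under R)) (Localization.AtPrime (P.under R)) ∧
    (IsRegularLocalRing (Localization.AtPrime P) ↔
      IsRegularLocalRing (Localization.AtPrime (P.under R))) := by
  have : IsNoetherianRing (Localization.AtPrime P) :=
    IsLocalization.isNoetherianRing P.primeCompl _ inferInstance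
  have : IsNoetherianRing (Localization.AtPrime (P.under R)) :=
    IsLocalization.isNoetherianRing (P.under R).primeCompl _ inferInstance
  obtain ⟨_, hflat, hmax⟩ := hS.exists_localization_flat P
  exact ⟨ringKrullDim_eq_of_flat_of_map_eq hmax, depth_eq_of_flat_of_map_eq hmax,
    (isRegularLocalRing_iff_of_flat hmax (ringKrullDim_eq_of_flat_of_map_eq hmax)).symm⟩

theorem EtaleStages.mem_associatedPrimes_iff (P : Ideal S) [P.IsPrime] :
    P ∈ associatedPrimes S S ↔ P.comap (algebraMap R S) ∈ associatedPrimes R R := by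
  rw [mem_associatedPrimes_iff_depth_eq_zero, mem_associatedPrimes_iff_depth_eq_zero,
    (hS.localization_invariants P).2.1]

theorem EtaleStages.height_eq (P : Ideal S) [P.IsPrime] : P.height = (P.under R).height := by
  have h := (hS.localization_invariants P).1
  rw [IsLocalization.AtPrime.ringKrullDim_eq_height P, IsLocalization.AtPrime.ringKrullDim_eq_height
    (P.under R)] at h
  exact_mod_cast h

omit hS in
theorem exists_prime_over [Module.FaithfullyFlat R S] (p : Ideal R) [p.IsPrime] :
    ∃ (P : Ideal S) (_ : P.IsPrime), P.under R = p := by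
  obtain ⟨P, hP⟩ := PrimeSpectrum.comap_surjective_of_faithfullyFlat (A := R) (B := S) ⟨p, inferInstance⟩
  exact ⟨P.asIdeal, P.2, congr($(hP).asIdeal)⟩

theorem EtaleStages.hasRk_iff [Module.FaithfullyFlat R S] (k : ℕ) :
    LocCoh.HasRk k S ↔ LocCoh.HasRk k R := by
  constructor
  · intro h p _ hp
    obtain ⟨P, _, rfl⟩ := exists_prime_over (S := S) p
    rw [← (hS.localization_invariants P).2.2]
    exact h P (by rwa [hS.height_eq])
  · intro h P _ hP
    rw [(hS.localization_invariants P).2.2]
    exact h _ (by rwa [← hS.height_eq])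

omit hS in
theorem hasSk_self_iff (A : Type u) [CommRing A] [IsNoetherianRing A] (k : ℕ) :
    LocCoh.HasSk k A A ↔ ∀ (p : Ideal A) [p.IsPrime],
      min (k : WithBot ℕ∞) (ringKrullDim (Localization.AtPrime p)) ≤
        ((LocCoh.depth (Localization.AtPrime p) (Localization.AtPrime p) : ℕ∞) : WithBot ℕ∞) := by
  refine forall₂_congr fun p _ ↦ ?_
  have : IsNoetherianRing (Localization.AtPrime p) :=
    IsLocalization.isNoetherianRing p.primeCompl _ inferInstance
  let e : LocalizedModule p.primeCompl A ≃ₗ[Localization.AtPrime p] Localization.AtPrime p :=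
    LocalizedModule.equivTensorProduct p.primeCompl A ≪≫ₗ
      TensorProduct.AlgebraTensorModule.rid A (Localization.AtPrime p) (Localization.AtPrime p)
  rw [Module.supportDim_eq_of_equiv e, Module.supportDim_self_eq_ringKrullDim, LocCoh.depth,
    Depth.idealDepth_eq_of_equiv _ e]

theorem EtaleStages.hasSk_iff [Module.FaithfullyFlat R S] (k : ℕ) :
    LocCoh.HasSk k S S ↔ LocCoh.HasSk k R R := by
  rw [hasSk_self_iff, hasSk_self_iff]
  constructor
  · intro h p _
    obtain ⟨P, _, rfl⟩ := exists_prime_over (S := S) p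
    obtain ⟨h1, h2, -⟩ := hS.localization_invariants P
    rw [← h1, ← h2]
    exact h P
  · intro h P _
    obtain ⟨h1, h2, -⟩ := hS.localization_invariants P
    rw [h1, h2]
    exact h _

end Stalk

theorem isCohenMacaulayLocalRing_iff_of_flat_of_map_eq {R S : Type u} [CommRing R] [IsLocalRing R]
    [IsNoetherianRing R] [CommRing S] [IsLocalRing S] [IsNoetherianRing S] [Algebra R S]
    [Module.Flat R S] (hmax : (maximalIdeal R).map (algebraMap R S) = maximalIdeal S) :
    LocCoh.IsCohenMacaulayLocalRing S ↔ LocCoh.IsCohenMacaulayLocalRing R := by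
  have h1 := ringKrullDim_eq_of_flat_of_map_eq hmax
  have h2 := depth_eq_of_flat_of_map_eq hmax
  constructor
  · intro h
    exact ⟨by rw [Module.supportDim_self_eq_ringKrullDim, ← h1, ← h2,
      ← Module.supportDim_self_eq_ringKrullDim]; exact h.supportDim_eq_depth⟩
  · intro h
    exact ⟨by rw [Module.supportDim_self_eq_ringKrullDim, h1, h2,
      ← Module.supportDim_self_eq_ringKrullDim]; exact h.supportDim_eq_depth⟩

end GrothLib.Hensel
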