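import Groth.Agent.Lib.Hensel.Henselization
import Groth.Agent.Lib.Hensel.LocalSplit
import Groth.Agent.S14620
import Mathlib.FieldTheory.SeparableClosure
import Mathlib.RingTheory.TensorProduct.Finite

/-! # Strict henselizations of finite local algebras -/

set_option autoImplicit false
set_option backward.isDefEq.respectTransparency false

universe u

open IsLocalRing TensorProduct

namespace GrothLib.Hensel

attribute [local instance] Algebra.TensorProduct.rightAlgebra

theorem finite_right {A B S : Type u} [CommRing A] [CommRing B] [CommRing S] [Algebra A B]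
    [Algebra A S] [Module.Finite A B] : Module.Finite S (B ⊗[A] S) :=
  Module.Finite.equiv ({ Algebra.TensorProduct.comm A S B with
    commutes' := fun _ => rfl } : (S ⊗[A] B) ≃ₐ[S] B ⊗[A] S).toLinearEquiv

theorem isStrictHenselization_localization_tensor {A B S : Type u} [CommRing A] [IsLocalRing A]
    [CommRing B] [IsLocalRing B] [Algebra A B] [Module.Finite A B] [IsLocalHom (algebraMap A B)]
    [CommRing S] [IsLocalRing S] [Algebra A S] [IsLocalHom (algebraMap A S)]
    [hS : _root_.Hensel.IsStrictHenselization A S] (q : Ideal (B ⊗[A] S)) [q.IsMaximal] :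
    ∃ (_ : IsLocalHom (algebraMap B (Localization.AtPrime q))),
      _root_.Hensel.IsStrictHenselization B (Localization.AtPrime q) := by
  haveI := hS.henselian
  haveI : Module.Finite S (B ⊗[A] S) := finite_right
  haveI : Algebra.IsIntegral S (B ⊗[A] S) := Algebra.IsIntegral.of_finite _ _
  haveI : Algebra.IsIntegral A B := Algebra.IsIntegral.of_finite _ _
  set L := Localization.AtPrime q
  let π : B ⊗[A] S →+* L := algebraMap _ L
  let iB : B →+* L := algebraMap B L
  let iS : S →+* L := algebraMap S L
  have hiB : ∀ b, iB b = π (b ⊗ₜ 1) := fun b ↦ IsScalarTower.algebraMap_apply B (B ⊗[A] S) L b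
  have hiS : ∀ s, iS s = π (1 ⊗ₜ s) := fun s ↦ IsScalarTower.algebraMap_apply S (B ⊗[A] S) L s
  have hAB : ∀ a, iS (algebraMap A S a) = iB (algebraMap A B a) := fun a ↦ by
    rw [hiB, hiS]
    exact congrArg π (Algebra.TensorProduct.tmul_one_eq_one_tmul a).symm
  haveI hover : q.LiesOver (maximalIdeal S) :=
    ⟨(eq_maximalIdeal (Ideal.isMaximal_comap_of_isIntegral_of_isMaximal (R := S) q)).symm⟩
  haveI hlS : IsLocalHom iS := ⟨fun s hs ↦ by
    rw [hiS, IsLocalization.AtPrime.isUnit_to_map_iff L q] at hs
    by_contra hsu
    exact hs (by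
      show s ∈ q.under S
      rw [← hover.over]
      exact (mem_maximalIdeal s).mpr hsu)⟩
  haveI hlB : IsLocalHom (algebraMap B L) := by
    have hmax : ((maximalIdeal L).comap iB).IsMaximal := by
      refine Ideal.isMaximal_of_isIntegral_of_isMaximal_comap (R := A) _ ?_
      convert maximalIdeal.isMaximal A
      rw [Ideal.comap_comap, show iB.comp (algebraMap A B) = iS.comp (algebraMap A S) from
        RingHom.ext fun a ↦ (hAB a).symm, ← Ideal.comap_comap,
        ((local_hom_TFAE iS).out 0 4 rfl rfl).mp hlS,
        ((local_hom_TFAE (algebraMap A S)).out 0 4 rfl rfl).mp inferInstance]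
    exact ((local_hom_TFAE iB).out 4 0 rfl rfl).mp (eq_maximalIdeal hmax)
  haveI : Module.Finite S L := finite_localization_of_quasiFiniteAt q
  haveI := hS.isSepClosure
  have hsepS : IsSepClosed (ResidueField S) := IsSepClosure.sep_closed (ResidueField A)
  obtain ⟨hL, hLsep⟩ : EtCoh.IsStrictlyHenselianLocalRing L :=
    Groth.Agent.S14620.result (algebraMap S L) (RingHom.finite_algebraMap.mpr inferInstance)
      ⟨inferInstance, hsepS⟩
  refine ⟨hlB, ⟨hL, ⟨hLsep, ⟨fun x ↦ ?_⟩⟩, fun T _ _ f hf τ hτ ↦ ?_⟩⟩
  · -- separability of the residue field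
    rw [← mem_separableClosure_iff]
    obtain ⟨y, rfl⟩ := residue_surjective x
    have hz : ∀ z, residue L (π z) ∈ separableClosure (ResidueField B) (ResidueField L) := fun z ↦ by
      induction z using TensorProduct.induction_on with
      | zero => rw [map_zero, map_zero]; exact zero_mem _
      | add a b ha hb => rw [map_add, map_add]; exact add_mem ha hb
      | tmul b s =>
        rw [show b ⊗ₜ[A] s = (b ⊗ₜ[A] (1 : S)) * ((1 : B) ⊗ₜ[A] s) by simp, map_mul, map_mul]
        refine mul_mem ?_ ?_
        · rw [← hiB]
          exact IntermediateField.algebraMap_mem _ (residue B b)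
        · rw [← hiS, mem_separableClosure_iff]
          haveI : Algebra.IsSeparable (ResidueField A) (ResidueField S) := IsSepClosure.separable
          letI : Algebra (ResidueField A) (ResidueField L) :=
            ((algebraMap (ResidueField B) (ResidueField L)).comp
              (ResidueField.map (algebraMap A B))).toAlgebra
          letI : Algebra (ResidueField A) (ResidueField B) := (ResidueField.map (algebraMap A B)).toAlgebra
          haveI : IsScalarTower (ResidueField A) (ResidueField B) (ResidueField L) :=
            .of_algebraMap_eq fun _ ↦ rfl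
          let ρ : ResidueField S →ₐ[ResidueField A] ResidueField L :=
            { ResidueField.map iS with
              commutes' := fun c ↦ by
                obtain ⟨a, rfl⟩ := residue_surjective c
                show residue L (iS (algebraMap A S a)) = residue L (iB (algebraMap A B a))
                rw [hAB] }
          have h1 : IsSeparable (ResidueField A) (ρ (residue S s)) :=
            (show (minpoly (ResidueField A) (ρ (residue S s))).Separable by
              rw [minpoly.algHom_eq ρ ρ.injective]
              exact Algebra.IsSeparable.isSeparable (ResidueField A) (residue S s))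
          exact h1.tower_top (ResidueField B)
    obtain ⟨z, ⟨d, hd⟩, rfl⟩ := IsLocalization.exists_mk'_eq q.primeCompl y
    have hspec := congrArg (residue L) (IsLocalization.mk'_spec L z (⟨d, hd⟩ : q.primeCompl))
    have hu : residue L (π d) ≠ 0 :=
      (((IsLocalization.map_units L (⟨d, hd⟩ : q.primeCompl)).map (residue L))).ne_zero
    rw [map_mul] at hspec
    rw [eq_div_iff hu |>.mpr hspec]
    exact div_mem (hz z) (hz d)
  haveI := hf
  let τ' := τ.comp (ResidueField.map iS)
  have hτB : ∀ b, τ (residue L (iB b)) = residue T (f b) := fun b ↦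
    RingHom.congr_fun hτ (residue B b)
  have hτ' : τ'.comp (ResidueField.map (algebraMap A S)) =
      ResidueField.map (f.comp (algebraMap A B)) := by
    refine Ideal.Quotient.ringHom_ext (RingHom.ext fun a ↦ ?_)
    show τ (residue L (iS (algebraMap A S a))) = residue T (f (algebraMap A B a))
    rw [hAB, hτB]
  obtain ⟨g₀, ⟨hg₀, hg₀τ⟩, huniq⟩ := hS.universal T (f.comp (algebraMap A B)) τ' hτ'
  letI : Algebra A T := (f.comp (algebraMap A B)).toAlgebra
  let g : B ⊗[A] S →ₐ[A] T := Algebra.TensorProduct.lift
    ({ toRingHom := f, commutes' := fun _ ↦ rfl } : B →ₐ[A] T)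
    ({ toRingHom := g₀, commutes' := RingHom.congr_fun hg₀ } : S →ₐ[A] T) fun _ _ ↦ Commute.all _ _
  have hg : ∀ b s, g (b ⊗ₜ s) = f b * g₀ s := fun _ _ ↦ rfl
  have hgτ : ∀ z, residue T (g z) = τ (residue L (π z)) := fun z ↦ by
    induction z using TensorProduct.induction_on with
    | zero => simp
    | add a b ha hb => simp only [map_add, ha, hb]
    | tmul b s =>
      rw [show b ⊗ₜ[A] s = (b ⊗ₜ[A] (1 : S)) * ((1 : B) ⊗ₜ[A] s) by simp]
      simp only [map_mul, hg, map_one, mul_one, one_mul, ← hiB, ← hiS, hτB, hg₀τ]
      rfl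
  have hgu : ∀ d : q.primeCompl, IsUnit (g.toRingHom d) := fun d ↦
    isUnit_of_map_unit (residue T) _ (by
      show IsUnit (residue T (g d))
      rw [hgτ]
      exact (((IsLocalization.map_units L d).map (residue L)).map τ))
  let G : L →+* T := IsLocalization.lift hgu
  have hG : ∀ z, G (π z) = g z := fun z ↦ IsLocalization.lift_eq hgu z
  refine ⟨G, ⟨RingHom.ext fun b ↦ ?_, fun y ↦ ?_⟩, fun G' hG' ↦ IsLocalization.ringHom_ext q.primeCompl
    (RingHom.ext fun z ↦ ?_)⟩
  · show G (iB b) = f b
    rw [hiB, hG, hg, map_one, mul_one]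
  · have : (residue T).comp G = τ.comp (residue L) :=
      IsLocalization.ringHom_ext q.primeCompl (RingHom.ext fun z ↦ by
        show residue T (G (π z)) = τ (residue L (π z))
        rw [hG, hgτ])
    exact RingHom.congr_fun this y
  · have h1 : G'.comp iS = g₀ := huniq _ ⟨RingHom.ext fun a ↦ by
      show G' (iS (algebraMap A S a)) = f (algebraMap A B a)
      rw [hAB]
      exact RingHom.congr_fun hG'.1 _, fun s ↦ hG'.2 (iS s)⟩
    show G' (π z) = G (π z)
    rw [hG]
    induction z using TensorProduct.induction_on with
    | zero => simp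
    | add a b ha hb => simp only [map_add, ha, hb]
    | tmul b s =>
      rw [show b ⊗ₜ[A] s = (b ⊗ₜ[A] (1 : S)) * ((1 : B) ⊗ₜ[A] s) by simp]
      simp only [map_mul, hg, map_one, mul_one, one_mul, ← hiB, ← hiS]
      rw [← show G' (iS s) = g₀ s from RingHom.congr_fun h1 s]
      exact congrArg (· * _) (RingHom.congr_fun hG'.1 b)

end GrothLib.Hensel
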