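import Groth.Agent.Lib.Hensel.PairFP
import Mathlib.RingTheory.TensorProduct.Quotient
import Mathlib.RingTheory.Etale.Basic
import Mathlib.RingTheory.FinitePresentation

/-!
# Henselian finitely presented algebras
-/

namespace GrothLib.Hensel

open scoped TensorProduct

universe u

variable {A : Type u} [CommRing A] {I : Ideal A}

theorem exists_finitePresentation_of_quotient_henselizedPolynomial {B : Type u} [CommRing B]
    [Algebra A B] (n : ℕ) (P : Type u) [CommRing P] [Algebra (MvPolynomial (Fin n) A) P]
    [Algebra A P] [IsScalarTower A (MvPolynomial (Fin n) A) P]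
    (hP : Hens2.IsPairHenselization (MvPolynomial (Fin n) A)
      (I.map (algebraMap A (MvPolynomial (Fin n) A))) P)
    (φ : P →ₐ[A] B) (hφ : Function.Surjective φ) (hker : (RingHom.ker φ).FG) :
    ∃ (R : Type u) (_ : CommRing R) (_ : Algebra A R) (_ : Algebra R B) (_ : IsScalarTower A R B),
      Algebra.FinitePresentation A R ∧ Hens2.IsPairHenselization R (I.map (algebraMap A R)) B := by
  classical
  obtain ⟨s, hs⟩ := hker
  obtain ⟨N, _, _, _, _, het, -, hN, hrange⟩ := IsPairHenselization.exists_stage hP s
  choose t ht using fun x : s ↦ hrange x x.2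
  let J : Ideal N := Ideal.span ((Finset.univ.image t : Finset N) : Set N)
  let _ : Algebra A N := ((algebraMap (MvPolynomial (Fin n) A) N).comp
    (algebraMap A (MvPolynomial (Fin n) A))).toAlgebra
  have : IsScalarTower A (MvPolynomial (Fin n) A) N := .of_algebraMap_eq' rfl
  have : IsScalarTower A N P := .of_algebraMap_eq fun a ↦ by
    rw [IsScalarTower.algebraMap_apply A (MvPolynomial (Fin n) A) N,
      ← IsScalarTower.algebraMap_apply (MvPolynomial (Fin n) A) N P,
      ← IsScalarTower.algebraMap_apply A (MvPolynomial (Fin n) A) P]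
  let _ : Algebra N B := (φ.toRingHom.comp (algebraMap N P)).toAlgebra
  have hJ : ∀ a ∈ J, algebraMap N B a = 0 := by
    suffices J ≤ RingHom.ker (algebraMap N B) from fun a ha ↦ this ha
    rw [Ideal.span_le, Finset.coe_image, Set.image_subset_iff]
    intro x _
    show φ (algebraMap N P (t x)) = 0
    rw [ht]
    exact RingHom.mem_ker.mp (hs.le (Ideal.subset_span x.2))
  let _ : Algebra (N ⧸ J) B := (Ideal.Quotient.lift J (algebraMap N B) hJ).toAlgebra
  have : IsScalarTower N (N ⧸ J) B := .of_algebraMap_eq fun _ ↦ rfl
  let φ' : P →ₐ[N] B := { φ.toRingHom with commutes' := fun _ ↦ rfl }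
  have hTB : IsScalarTower A (N ⧸ J) B := .of_algebraMap_eq fun a ↦ by
    show algebraMap A B a = φ (algebraMap N P (algebraMap A N a))
    rw [← IsScalarTower.algebraMap_apply A N P, φ.commutes]
  refine ⟨N ⧸ J, inferInstance, inferInstance, inferInstance, hTB, ?_, ?_⟩
  · have : Algebra.FinitePresentation (MvPolynomial (Fin n) A) N := inferInstance
    have : Algebra.FinitePresentation A N := .trans A (MvPolynomial (Fin n) A) N
    exact Algebra.FinitePresentation.quotient ⟨_, rfl⟩
  · have h := isPairHenselization_of_surjective hN (R' := N ⧸ J) Ideal.Quotient.mk_surjective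
      φ' hφ (by
        refine hs.ge.trans (Ideal.span_le.mpr fun x hx ↦ ?_)
        rw [← show algebraMap N P (t ⟨x, hx⟩) = x from ht ⟨x, hx⟩]
        refine Ideal.mem_map_of_mem _ (RingHom.mem_ker.mpr (Ideal.Quotient.eq_zero_iff_mem.mpr ?_))
        exact Ideal.subset_span (Finset.mem_coe.mpr (Finset.mem_image_of_mem t (Finset.mem_univ _))))
    rwa [Ideal.map_map, Ideal.map_map, RingHom.comp_assoc,
      ← IsScalarTower.algebraMap_eq A (MvPolynomial (Fin n) A) N,
      ← IsScalarTower.algebraMap_eq A N (N ⧸ J)] at h

theorem exists_quotient_henselizedPolynomial_of_finitePresentation {R B : Type u} [CommRing R]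
    [Algebra A R] [Algebra.FinitePresentation A R] [CommRing B] [Algebra R B] [Algebra A B]
    [IsScalarTower A R B] (hB : Hens2.IsPairHenselization R (I.map (algebraMap A R)) B) :
    ∃ (n : ℕ) (P : Type u) (_ : CommRing P) (_ : Algebra (MvPolynomial (Fin n) A) P)
      (_ : Algebra A P) (_ : IsScalarTower A (MvPolynomial (Fin n) A) P),
      Hens2.IsPairHenselization (MvPolynomial (Fin n) A)
        (I.map (algebraMap A (MvPolynomial (Fin n) A))) P ∧
      ∃ φ : P →ₐ[A] B, Function.Surjective φ ∧ (RingHom.ker φ).FG := by
  obtain ⟨n, π, hπ, hfg⟩ := (inferInstance : Algebra.FinitePresentation A R).out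
  let AX := MvPolynomial (Fin n) A
  let K := I.map (algebraMap A AX)
  let P := Hull AX (AX ⧸ K)
  have hP : Hens2.IsPairHenselization AX K P := PairHull.isPairHenselization AX K
  let _ : Algebra A P := ((algebraMap AX P).comp (algebraMap A AX)).toAlgebra
  have : IsScalarTower A AX P := .of_algebraMap_eq' rfl
  let _ : Algebra AX R := π.toRingHom.toAlgebra
  have : IsScalarTower A AX R := .of_algebraMap_eq' π.comp_algebraMap.symm
  set J := (RingHom.ker (algebraMap AX R)).map (algebraMap AX P)
  let _ : Algebra R (P ⧸ J) := ((algebraMap AX R).liftOfSurjective hπ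
    ⟨(Ideal.Quotient.mk J).comp (algebraMap AX P), fun x hx ↦
      Ideal.Quotient.eq_zero_iff_mem.mpr (Ideal.mem_map_of_mem _ hx)⟩).toAlgebra
  have : IsScalarTower AX R (P ⧸ J) := .of_algebraMap_eq fun x ↦
    (RingHom.liftOfRightInverse_comp_apply _ _ _
      ⟨(Ideal.Quotient.mk J).comp (algebraMap AX P), _⟩ x).symm
  have hQ : Hens2.IsPairHenselization R (K.map (algebraMap AX R)) (P ⧸ J) :=
    isPairHenselization_of_surjective hP hπ (Ideal.Quotient.mkₐ AX J) Ideal.Quotient.mk_surjective
      (le_of_eq Ideal.mk_ker)
  rw [show K.map (algebraMap AX R) = I.map (algebraMap A R) by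
    rw [Ideal.map_map, ← IsScalarTower.algebraMap_eq]] at hQ
  obtain ⟨e⟩ := IsPairHenselization.nonempty_algEquiv hQ hB
  refine ⟨n, P, inferInstance, inferInstance, inferInstance, inferInstance, hP,
    { e.toRingEquiv.toRingHom.comp (Ideal.Quotient.mk J) with commutes' := fun a ↦ ?_ },
    e.surjective.comp Ideal.Quotient.mk_surjective, ?_⟩
  · show e (algebraMap AX (P ⧸ J) (algebraMap A AX a)) = algebraMap A B a
    rw [IsScalarTower.algebraMap_apply AX R (P ⧸ J), e.commutes,
      ← IsScalarTower.algebraMap_apply A AX R, ← IsScalarTower.algebraMap_apply A R B]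
  · convert (hfg.map (algebraMap AX P)) using 1
    ext x
    rw [RingHom.mem_ker]
    show e (Ideal.Quotient.mk J x) = 0 ↔ x ∈ J
    rw [map_eq_zero_iff e e.injective, Ideal.Quotient.eq_zero_iff_mem]

theorem hfp_comp {R B S C : Type u} [CommRing R] [Algebra A R] [Algebra.FinitePresentation A R]
    [CommRing B] [Algebra R B] [Algebra A B] [IsScalarTower A R B]
    (hB : Hens2.IsPairHenselization R (I.map (algebraMap A R)) B)
    [CommRing S] [Algebra B S] [Algebra A S] [IsScalarTower A B S]
    [Algebra.FinitePresentation B S]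
    [CommRing C] [Algebra S C] [Algebra B C] [Algebra A C] [IsScalarTower B S C]
    [IsScalarTower A B C]
    (hC : Hens2.IsPairHenselization S (I.map (algebraMap A S)) C) :
    ∃ (T : Type u) (_ : CommRing T) (_ : Algebra A T) (_ : Algebra T C) (_ : IsScalarTower A T C),
      Algebra.FinitePresentation A T ∧ Hens2.IsPairHenselization T (I.map (algebraMap A T)) C := by
  classical
  obtain ⟨n, φ, hφ, g, hg⟩ := (inferInstance : Algebra.FinitePresentation B S).out
  obtain ⟨N, _, _, _, _, het, -, hN, hrange⟩ :=
    IsPairHenselization.exists_stage hB (g.biUnion MvPolynomial.coeffs)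
  have hlift : ∀ p : g, ∃ q : MvPolynomial (Fin n) N,
      MvPolynomial.map (algebraMap N B) q = (p : MvPolynomial (Fin n) B) := fun p ↦ by
    refine (MvPolynomial.mem_range_map_iff_coeffs_subset.mpr fun c hc ↦ hrange c ?_ :)
    exact Finset.mem_biUnion.mpr ⟨p, p.2, hc⟩
  choose q hq using hlift
  let _ : Algebra A N := ((algebraMap R N).comp (algebraMap A R)).toAlgebra
  have : IsScalarTower A R N := .of_algebraMap_eq' rfl
  have : IsScalarTower A N B := .of_algebraMap_eq fun a ↦ by
    rw [IsScalarTower.algebraMap_apply A R N, ← IsScalarTower.algebraMap_apply R N B,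
      ← IsScalarTower.algebraMap_apply A R B]
  let J : Ideal (MvPolynomial (Fin n) N) :=
    Ideal.span ((Finset.univ.image q : Finset _) : Set (MvPolynomial (Fin n) N))
  let ρ : MvPolynomial (Fin n) N →+* C :=
    ((algebraMap S C).comp φ.toRingHom).comp (MvPolynomial.map (algebraMap N B))
  have hρ : ∀ a ∈ J, ρ a = 0 := by
    suffices J ≤ RingHom.ker ρ from fun a ha ↦ this ha
    rw [Ideal.span_le, Finset.coe_image, Set.image_subset_iff]
    intro p _
    show algebraMap S C (φ (MvPolynomial.map (algebraMap N B) (q p))) = 0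
    rw [hq, show φ p.1 = 0 from hg.le (Ideal.subset_span p.2), map_zero]
  let _ : Algebra (MvPolynomial (Fin n) N ⧸ J) C := (Ideal.Quotient.lift J ρ hρ).toAlgebra
  have hTC : IsScalarTower A (MvPolynomial (Fin n) N ⧸ J) C :=
    IsScalarTower.of_algebraMap_eq (R := A) (S := MvPolynomial (Fin n) N ⧸ J) (A := C) fun a ↦ by
    show algebraMap A C a =
      algebraMap S C (φ (MvPolynomial.map (algebraMap N B) (MvPolynomial.C (algebraMap A N a))))
    rw [MvPolynomial.map_C, ← IsScalarTower.algebraMap_apply A N B, ← MvPolynomial.algebraMap_eq,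
      φ.commutes, ← IsScalarTower.algebraMap_apply B S C, ← IsScalarTower.algebraMap_apply A B C]
  have hmap : (I.map (algebraMap A (MvPolynomial (Fin n) N ⧸ J))).map (algebraMap _ C) =
      (I.map (algebraMap A S)).map (algebraMap S C) := by
    rw [Ideal.map_map, Ideal.map_map, ← IsScalarTower.algebraMap_eq]
    congr 1
    ext a
    rw [RingHom.comp_apply, IsScalarTower.algebraMap_apply A B S,
      ← IsScalarTower.algebraMap_apply B S C, ← IsScalarTower.algebraMap_apply A B C]
  have hSC : (algebraMap S C).comp (algebraMap A S) = algebraMap A C := by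
    ext a
    rw [RingHom.comp_apply, IsScalarTower.algebraMap_apply A B S,
      ← IsScalarTower.algebraMap_apply B S C, ← IsScalarTower.algebraMap_apply A B C]
  refine ⟨MvPolynomial (Fin n) N ⧸ J, inferInstance, inferInstance, inferInstance, hTC, ?_, ?_⟩
  · have : Algebra.FinitePresentation R N := inferInstance
    have : Algebra.FinitePresentation A N := .trans A R N
    have : Algebra.FinitePresentation A (MvPolynomial (Fin n) N) := .trans A N _
    exact Algebra.FinitePresentation.quotient ⟨_, rfl⟩
  · refine isPairHenselization_mk ?_ ?_ ?_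
    · rw [hmap]; exact hC.1
    · intro D _ Jd f hD hf
      let fN : N →+* D := (f.comp (Ideal.Quotient.mk J)).comp MvPolynomial.C
      have hfA : I.map (fN.comp (algebraMap A N)) ≤ Jd := by
        refine le_trans (le_of_eq ?_) hf
        rw [Ideal.map_map]; rfl
      obtain ⟨gB, hgB, -⟩ := hN.2 D Jd fN hD (by
        rw [Ideal.map_map, Ideal.map_map, RingHom.comp_assoc, ← IsScalarTower.algebraMap_eq A R N]
        exact hfA)
      let eD : MvPolynomial (Fin n) B →+* D :=
        MvPolynomial.eval₂Hom gB fun i ↦ f (Ideal.Quotient.mk J (MvPolynomial.X i))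
      have heD : eD.comp (MvPolynomial.map (algebraMap N B)) = f.comp (Ideal.Quotient.mk J) :=
        MvPolynomial.ringHom_ext (fun c ↦ by
          simp only [eD, RingHom.comp_apply, MvPolynomial.map_C, MvPolynomial.eval₂Hom_C]
          exact RingHom.congr_fun hgB c) (fun i ↦ by simp [eD])
      have hker : RingHom.ker φ.toRingHom ≤ RingHom.ker eD := by
        refine hg.ge.trans (Ideal.span_le.mpr fun p hp ↦ ?_)
        show eD p = 0
        rw [← show MvPolynomial.map (algebraMap N B) (q ⟨p, hp⟩) = p from hq ⟨p, hp⟩]
        refine (RingHom.congr_fun heD (q ⟨p, hp⟩)).trans ?_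
        rw [RingHom.comp_apply, Ideal.Quotient.eq_zero_iff_mem.mpr (Ideal.subset_span
          (Finset.mem_coe.mpr (Finset.mem_image_of_mem q (Finset.mem_univ _)))), map_zero]
      let fS : S →+* D := φ.toRingHom.liftOfSurjective hφ ⟨eD, hker⟩
      have hfS : ∀ y, fS (φ y) = eD y := fun y ↦
        RingHom.liftOfRightInverse_comp_apply _ _ _ ⟨eD, hker⟩ y
      obtain ⟨gC, hgC, -⟩ := hC.2 D Jd fS hD (by
        rw [Ideal.map_map]
        refine le_trans (le_of_eq ?_) hfA
        congr 1
        ext a
        rw [RingHom.comp_apply, IsScalarTower.algebraMap_apply A B S, ← φ.commutes, hfS,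
          MvPolynomial.algebraMap_eq, IsScalarTower.algebraMap_apply A N B]
        simp only [eD, MvPolynomial.eval₂Hom_C]
        exact RingHom.congr_fun hgB _)
      refine ⟨gC, Ideal.Quotient.ringHom_ext ?_⟩
      refine RingHom.ext fun y ↦ ?_
      show gC (algebraMap S C (φ (MvPolynomial.map (algebraMap N B) y))) = f (Ideal.Quotient.mk J y)
      rw [show gC (algebraMap S C _) = fS _ from RingHom.congr_fun hgC _, hfS]
      exact RingHom.congr_fun heD y
    · intro D _ Jd g₁ g₂ hD hI h
      have hIA : I.map (g₁.comp (algebraMap A C)) ≤ Jd := by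
        rwa [Ideal.map_map, RingHom.comp_assoc, ← IsScalarTower.algebraMap_eq] at hI
      have hB' : g₁.comp (algebraMap B C) = g₂.comp (algebraMap B C) := by
        refine IsPairHenselization.ringHom_ext hN Jd (hJ := hD) ?_ ?_
        · ext x
          have := RingHom.congr_fun h (Ideal.Quotient.mk J (MvPolynomial.C x))
          simp only [RingHom.comp_apply] at this ⊢
          rw [IsScalarTower.algebraMap_apply B S C, ← φ.commutes, MvPolynomial.algebraMap_eq,
            ← MvPolynomial.map_C]
          exact this
        · rw [Ideal.map_map, Ideal.map_map, RingHom.comp_assoc _ (algebraMap R N),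
            ← IsScalarTower.algebraMap_eq A R N, RingHom.comp_assoc _ (algebraMap N B),
            ← IsScalarTower.algebraMap_eq A N B, RingHom.comp_assoc,
            ← IsScalarTower.algebraMap_eq A B C]
          exact hIA
      refine IsPairHenselization.ringHom_ext hC Jd (hJ := hD) ?_ ?_
      · ext x
        obtain ⟨y, rfl⟩ := hφ x
        refine RingHom.congr_fun (?_ : (g₁.comp (algebraMap S C)).comp φ.toRingHom =
          (g₂.comp (algebraMap S C)).comp φ.toRingHom) y
        refine MvPolynomial.ringHom_ext (fun c ↦ ?_) fun i ↦ ?_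
        · show g₁ (algebraMap S C (φ (MvPolynomial.C c))) = g₂ (algebraMap S C (φ (MvPolynomial.C c)))
          rw [← MvPolynomial.algebraMap_eq, φ.commutes, ← IsScalarTower.algebraMap_apply B S C]
          exact RingHom.congr_fun hB' c
        · have := RingHom.congr_fun h (Ideal.Quotient.mk J (MvPolynomial.X i))
          simp only [RingHom.comp_apply] at this ⊢
          rw [← MvPolynomial.map_X (algebraMap N B)]
          exact this
      · rw [Ideal.map_map, RingHom.comp_assoc, hSC]
        exact hIA

theorem hfp_of_algHom {R B S C : Type u} [CommRing R] [Algebra A R]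
    [Algebra.FinitePresentation A R] [CommRing B] [Algebra R B] [Algebra A B] [IsScalarTower A R B]
    (hB : Hens2.IsPairHenselization R (I.map (algebraMap A R)) B)
    [CommRing S] [Algebra A S] [Algebra.FinitePresentation A S]
    [CommRing C] [Algebra S C] [Algebra A C] [IsScalarTower A S C]
    (hC : Hens2.IsPairHenselization S (I.map (algebraMap A S)) C)
    [Algebra B C] [IsScalarTower A B C] :
    ∃ (T : Type u) (_ : CommRing T) (_ : Algebra B T) (_ : Algebra T C) (_ : IsScalarTower B T C),
      Algebra.FinitePresentation B T ∧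
      Hens2.IsPairHenselization T ((I.map (algebraMap A B)).map (algebraMap B T)) C := by
  classical
  obtain ⟨x, hx⟩ := (Algebra.FiniteType.out : (⊤ : Subalgebra A R).FG)
  obtain ⟨N, _, _, _, _, het, -, hN, hrange⟩ := IsPairHenselization.exists_stage hC
    (x.image fun r ↦ algebraMap B C (algebraMap R B r))
  choose t ht using fun r : x ↦ hrange _ (Finset.mem_image_of_mem _ r.2)
  let _ : Algebra A N := ((algebraMap S N).comp (algebraMap A S)).toAlgebra
  have : IsScalarTower A S N := .of_algebraMap_eq' rfl
  have : IsScalarTower A N C := .of_algebraMap_eq fun a ↦ by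
    rw [IsScalarTower.algebraMap_apply A S N, ← IsScalarTower.algebraMap_apply S N C,
      ← IsScalarTower.algebraMap_apply A S C]
  let J : Ideal (B ⊗[A] N) := Ideal.span ((Finset.univ.image fun r : x ↦
    algebraMap R B r.1 ⊗ₜ[A] (1 : N) - (1 : B) ⊗ₜ[A] t r : Finset _) : Set (B ⊗[A] N))
  let ρ : B ⊗[A] N →ₐ[B] C := Algebra.TensorProduct.lift (Algebra.ofId B C)
    (IsScalarTower.toAlgHom A N C) fun _ _ ↦ Commute.all _ _
  have hρ : ∀ a ∈ J, ρ a = 0 := by
    suffices J ≤ RingHom.ker ρ from fun a ha ↦ this ha
    rw [Ideal.span_le, Finset.coe_image, Set.image_subset_iff]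
    intro r _
    show ρ (_ - _) = 0
    rw [map_sub, sub_eq_zero]
    simp only [ρ, Algebra.TensorProduct.lift_tmul, map_one, mul_one, one_mul]
    exact (ht r).symm
  let π : (B ⊗[A] N) ⧸ J →ₐ[B] C := Ideal.Quotient.liftₐ J ρ hρ
  let _ : Algebra ((B ⊗[A] N) ⧸ J) C := π.toRingHom.toAlgebra
  have hTC : IsScalarTower B ((B ⊗[A] N) ⧸ J) C := .of_algebraMap_eq' π.comp_algebraMap.symm
  refine ⟨(B ⊗[A] N) ⧸ J, inferInstance, inferInstance, inferInstance, hTC, ?_, ?_⟩
  · have : Algebra.FinitePresentation S N := inferInstance
    have : Algebra.FinitePresentation A N := .trans A S N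
    exact Algebra.FinitePresentation.quotient ⟨_, rfl⟩
  · have hmapC : (I.map (algebraMap A B)).map (algebraMap B C) =
        (I.map (algebraMap A S)).map (algebraMap S C) := by
      rw [Ideal.map_map, Ideal.map_map, ← IsScalarTower.algebraMap_eq, ← IsScalarTower.algebraMap_eq]
    refine isPairHenselization_mk ?_ ?_ ?_
    · rw [Ideal.map_map, ← IsScalarTower.algebraMap_eq, hmapC]
      exact hC.1
    · intro D _ Jd f hD hf
      let fN : N →+* D := (f.comp (Ideal.Quotient.mk J)).comp
        Algebra.TensorProduct.includeRight.toRingHom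
      let fB : B →+* D := f.comp (algebraMap B ((B ⊗[A] N) ⧸ J))
      have hfA : I.map (fB.comp (algebraMap A B)) ≤ Jd := by
        refine le_trans (le_of_eq ?_) hf
        rw [Ideal.map_map, Ideal.map_map]
      have hAN : fN.comp (algebraMap A N) = fB.comp (algebraMap A B) := by
        ext a
        exact congrArg (fun z ↦ f (Ideal.Quotient.mk J z))
          (((Algebra.TensorProduct.includeRight : N →ₐ[A] B ⊗[A] N).commutes a).trans
            ((Algebra.TensorProduct.includeLeft : B →ₐ[A] B ⊗[A] N).commutes a).symm)
      obtain ⟨gC, hgC, -⟩ := hN.2 D Jd fN hD (by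
        rw [Ideal.map_map, Ideal.map_map, RingHom.comp_assoc, ← IsScalarTower.algebraMap_eq A S N,
          hAN]
        exact hfA)
      have hBC : gC.comp (algebraMap B C) = fB := by
        refine IsPairHenselization.ringHom_ext hB Jd (hJ := hD) ?_ ?_
        · have key : ∀ a : A, gC (algebraMap A C a) = fB (algebraMap A B a) := fun a ↦ by
            rw [IsScalarTower.algebraMap_apply A N C,
              show gC (algebraMap N C _) = fN _ from RingHom.congr_fun hgC _]
            exact RingHom.congr_fun hAN a
          let _ : Algebra A D := (fB.comp (algebraMap A B)).toAlgebra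
          let u : R →ₐ[A] D :=
            { gC.comp ((algebraMap B C).comp (algebraMap R B)) with
              commutes' := fun a ↦ by
                show gC (algebraMap B C (algebraMap R B (algebraMap A R a))) = _
                rw [← IsScalarTower.algebraMap_apply A R B, ← IsScalarTower.algebraMap_apply A B C]
                exact key a }
          let v : R →ₐ[A] D :=
            { fB.comp (algebraMap R B) with
              commutes' := fun a ↦ by
                show fB (algebraMap R B (algebraMap A R a)) = _
                rw [← IsScalarTower.algebraMap_apply A R B]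
                rfl }
          refine congrArg AlgHom.toRingHom (?_ : u = v)
          refine AlgHom.ext_of_adjoin_eq_top hx fun r hr ↦ ?_
          show gC (algebraMap B C (algebraMap R B r)) = fB (algebraMap R B r)
          rw [← ht ⟨r, hr⟩, show gC (algebraMap N C _) = fN _ from RingHom.congr_fun hgC _]
          refine congrArg f (Ideal.Quotient.eq.mpr ?_).symm
          exact Ideal.subset_span (Finset.mem_coe.mpr
            (Finset.mem_image.mpr ⟨⟨r, hr⟩, Finset.mem_univ _, rfl⟩))
        · rw [Ideal.map_map, RingHom.comp_assoc _ (algebraMap R B),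
            ← IsScalarTower.algebraMap_eq A R B, RingHom.comp_assoc,
            ← IsScalarTower.algebraMap_eq A B C]
          refine le_trans (le_of_eq (congrArg (fun χ ↦ I.map χ) ?_)) hfA
          ext a
          rw [RingHom.comp_apply, IsScalarTower.algebraMap_apply A N C,
            show gC (algebraMap N C _) = fN _ from RingHom.congr_fun hgC _]
          exact RingHom.congr_fun hAN a
      refine ⟨gC, Ideal.Quotient.ringHom_ext (RingHom.ext fun y ↦ ?_)⟩
      show gC (ρ y) = f (Ideal.Quotient.mk J y)
      induction y using TensorProduct.induction_on with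
      | zero => simp
      | add y y' h h' => simp only [map_add, h, h']
      | tmul b z =>
        rw [Algebra.TensorProduct.lift_tmul, map_mul,
          show gC ((Algebra.ofId B C) b) = fB b from RingHom.congr_fun hBC b,
          show gC ((IsScalarTower.toAlgHom A N C) z) = fN z from RingHom.congr_fun hgC z]
        show f (Ideal.Quotient.mk J (b ⊗ₜ[A] 1)) * f (Ideal.Quotient.mk J (1 ⊗ₜ[A] z)) = _
        rw [← map_mul, ← map_mul, Algebra.TensorProduct.tmul_mul_tmul, mul_one, one_mul]
    · intro D _ Jd g₁ g₂ hD hI h
      refine IsPairHenselization.ringHom_ext hN Jd (hJ := hD) ?_ ?_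
      · ext z
        have := RingHom.congr_fun h (Ideal.Quotient.mk J (1 ⊗ₜ[A] z))
        have hz : algebraMap ((B ⊗[A] N) ⧸ J) C (Ideal.Quotient.mk J (1 ⊗ₜ[A] z)) = algebraMap N C z := by
          show ρ (1 ⊗ₜ[A] z) = _
          simp [ρ]
        rw [RingHom.comp_apply, RingHom.comp_apply, hz] at this
        exact this
      · rw [Ideal.map_map, Ideal.map_map, RingHom.comp_assoc _ (algebraMap S N),
          ← IsScalarTower.algebraMap_eq A S N, RingHom.comp_assoc,
          ← IsScalarTower.algebraMap_eq A N C, IsScalarTower.algebraMap_eq A B C]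
        rw [Ideal.map_map, Ideal.map_map] at hI
        refine le_trans (le_of_eq (congrArg (fun χ ↦ I.map χ) (RingHom.ext fun a ↦ ?_))) hI
        simp only [RingHom.comp_apply]
        rw [← IsScalarTower.algebraMap_apply B ((B ⊗[A] N) ⧸ J) C]

end GrothLib.Hensel
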