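import Mathlib.RingTheory.Henselian
import Mathlib.RingTheory.Nakayama
import Mathlib.RingTheory.IntegralClosure.IsIntegralClosure.Basic
import Mathlib.RingTheory.Ideal.GoingUp

/-!
# Elementary lemmas for henselian pairs

The Jacobson radical, idempotents, and the two working conditions `RootCond`, `EtaleLift`.
-/

namespace GrothLib.Hensel

open Polynomial

universe u v

section Jac

variable {A : Type u} [CommRing A] {I : Ideal A}

theorem isUnit_of_isUnit_mk (hI : I ≤ Ideal.jacobson ⊥) {a : A}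
    (h : IsUnit (Ideal.Quotient.mk I a)) : IsUnit a :=
  (isLocalHom_of_le_jacobson_bot I hI).map_nonunit a h

theorem isUnit_one_add_of_mem (hI : I ≤ Ideal.jacobson ⊥) {a : A} (h : a ∈ I) : IsUnit (1 + a) :=
  isUnit_of_isUnit_mk hI (by simp [Ideal.Quotient.eq_zero_iff_mem.mpr h])

theorem isUnit_of_sub_one_mem (hI : I ≤ Ideal.jacobson ⊥) {a : A} (h : a - 1 ∈ I) : IsUnit a := by
  simpa using isUnit_one_add_of_mem hI h

theorem le_jacobson_of_forall_isUnit_one_add (h : ∀ a ∈ I, IsUnit (1 + a)) :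
    I ≤ Ideal.jacobson ⊥ := fun x hx ↦
  Ideal.mem_jacobson_bot.mpr fun y ↦ by rw [add_comm]; exact h _ (I.mul_mem_right y hx)

theorem eq_top_of_sup_eq_top (hI : I ≤ Ideal.jacobson ⊥) {J : Ideal A} (h : J ⊔ I = ⊤) :
    J = ⊤ := by
  rw [Ideal.eq_top_iff_one] at h ⊢
  obtain ⟨a, ha, b, hb, hab⟩ := Submodule.mem_sup.mp h
  have : IsUnit a := isUnit_of_sub_one_mem hI (by rw [← hab]; simpa using hb)
  exact (Ideal.eq_top_of_isUnit_mem _ ha this) ▸ Submodule.mem_top

/-- A section `A' → A / I` forces units: an idempotent in the Jacobson radical vanishes. -/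
theorem eq_zero_of_isIdempotentElem_of_mem_jacobson {e : A} (he : IsIdempotentElem e)
    (h : e ∈ Ideal.jacobson (⊥ : Ideal A)) : e = 0 := by
  have : IsUnit (1 - e) := by simpa [sub_eq_add_neg, add_comm] using Ideal.mem_jacobson_bot.mp h (-1)
  exact (this.mul_left_eq_zero).mp he.mul_one_sub_self

theorem eq_of_isIdempotentElem_of_sub_mem {e f : A} (hI : I ≤ Ideal.jacobson ⊥)
    (he : IsIdempotentElem e) (hf : IsIdempotentElem f) (h : e - f ∈ I) : e = f := by
  have hu : IsUnit (1 - (e - f) * (e - f)) := by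
    have := isUnit_one_add_of_mem hI (I.neg_mem (I.mul_mem_left (e - f) h))
    simpa [sub_eq_add_neg] using this
  have h0 : (e - f) * (1 - (e - f) * (e - f)) = 0 := by grind [IsIdempotentElem]
  exact sub_eq_zero.mp (hu.mul_left_eq_zero.mp h0)

variable {B : Type v} [CommRing B] [Algebra A B]

theorem map_le_jacobson_of_isIntegral [Algebra.IsIntegral A B] (hI : I ≤ Ideal.jacobson ⊥) :
    I.map (algebraMap A B) ≤ Ideal.jacobson ⊥ := by
  rw [Ideal.map_le_iff_le_comap]
  intro x hx
  refine Ideal.mem_comap.mpr (Ideal.mem_sInf.mpr ?_)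
  intro M hM'
  have hM : M.IsMaximal := hM'.2
  have : (M.comap (algebraMap A B)).IsMaximal :=
    Ideal.isMaximal_comap_of_isIntegral_of_isMaximal M
  exact (Ideal.mem_sInf.mp (hI hx)) ⟨bot_le, this⟩

theorem mem_map_iff_mem_smul_top {x : B} :
    x ∈ I.map (algebraMap A B) ↔ x ∈ I • (⊤ : Submodule A B) := by
  rw [Ideal.smul_top_eq_map]; rfl

theorem algHom_quotient_map_eq_zero (σ : B →ₐ[A] A ⧸ I) {x : B}
    (h : x ∈ I.map (algebraMap A B)) : σ x = 0 := by
  have : I.map (algebraMap A B) ≤ RingHom.ker σ := by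
    rw [Ideal.map_le_iff_le_comap]
    intro a ha
    rw [Ideal.mem_comap, RingHom.mem_ker, AlgHom.commutes]
    exact Ideal.Quotient.eq_zero_iff_mem.mpr ha
  exact this h

end Jac

section Cond

variable {A : Type u} [CommRing A]

/-- Gabber's condition: `T ^ n * (T - 1) + p` has a root congruent to `1` when `p` has
coefficients in `I` and degree at most `n`. -/
def RootCond (I : Ideal A) : Prop :=
  ∀ n : ℕ, 0 < n → ∀ p : A[X], p.natDegree ≤ n → (∀ i, p.coeff i ∈ I) →
    ∃ α : A, α - 1 ∈ I ∧ IsRoot (X ^ n * (X - 1) + p) α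

theorem monic_rootPoly {n : ℕ} {p : A[X]} (hp : p.natDegree ≤ n) :
    (X ^ n * (X - 1) + p).Monic := by
  nontriviality A
  have h1 : (X ^ n * (X - 1) : A[X]).Monic := (monic_X_pow n).mul (monic_X_sub_C 1)
  refine h1.add_of_left ?_
  
  rw [degree_eq_natDegree h1.ne_zero]
  refine lt_of_le_of_lt degree_le_natDegree ?_
  have h2 : (X ^ n * (X - 1) : A[X]).natDegree = n + 1 := by
    rw [← map_one (C : A →+* A[X]), (monic_X_pow n).natDegree_mul (monic_X_sub_C 1), natDegree_X_sub_C, natDegree_X_pow]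
  rw [h2]
  exact_mod_cast Nat.lt_succ_of_le hp

theorem rootCond_of_henselianRing (I : Ideal A) [HenselianRing A I] : RootCond I := by
  intro n _ p hp hpI
  have hpm : p.map (Ideal.Quotient.mk I) = 0 := by
    ext i; simpa using Ideal.Quotient.eq_zero_iff_mem.mpr (hpI i)
  obtain ⟨a, ha, ha1⟩ := HenselianRing.is_henselian (I := I) _ (monic_rootPoly hp) 1 (by
      rw [← Ideal.Quotient.eq_zero_iff_mem, ← Polynomial.eval₂_hom, ← Polynomial.eval_map,
        Polynomial.map_add, hpm]
      simp) (by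
      rw [← Polynomial.eval₂_hom, ← Polynomial.eval_map, ← Polynomial.derivative_map,
        Polynomial.map_add, hpm]
      simp)
  exact ⟨a, ha1, ha⟩

end Cond

end GrothLib.Hensel
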