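import Groth.Agent.Lib.Hensel.Basic
import Mathlib.Algebra.Polynomial.Lifts
import Mathlib.RingTheory.Henselian

/-!
# Directed colimits of henselian pairs
-/

namespace GrothLib.Hensel

open Polynomial

universe u v w

variable {ι : Type w} [Preorder ι] [IsDirectedOrder ι] [Nonempty ι] {G : ι → Type u}
  [∀ i, CommRing (G i)] {L : Type v} [CommRing L] {f : ∀ i j, i ≤ j → G i →+* G j}
  {φ : ∀ i, G i →+* L} {I : ∀ i, Ideal (G i)}

theorem exists_mem_of_mem_iSup_map (hφ : ∀ i j h x, φ j (f i j h x) = φ i x)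
    (hI : ∀ i j h, (I i).map (f i j h) ≤ I j) (hsurj : ∀ x, ∃ i a, φ i a = x)
    {x : L} (hx : x ∈ ⨆ i, (I i).map (φ i)) : ∃ i, ∃ a ∈ I i, φ i a = x := by
  induction hx using Submodule.iSup_induction' with
  | mem i y hy =>
    induction hy using Submodule.span_induction with
    | mem z hz =>
      obtain ⟨a, ha, rfl⟩ := hz
      exact ⟨i, a, ha, rfl⟩
    | zero => exact ⟨i, 0, (I i).zero_mem, map_zero _⟩
    | add y z _ _ hy hz =>
      obtain ⟨i₁, a, ha, rfl⟩ := hy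
      obtain ⟨i₂, b, hb, rfl⟩ := hz
      obtain ⟨k, h₁, h₂⟩ := exists_ge_ge i₁ i₂
      exact ⟨k, f _ _ h₁ a + f _ _ h₂ b, (I k).add_mem (hI _ _ h₁ (Ideal.mem_map_of_mem _ ha))
        (hI _ _ h₂ (Ideal.mem_map_of_mem _ hb)), by rw [map_add, hφ, hφ]⟩
    | smul r y _ hy =>
      obtain ⟨i₁, a, ha, rfl⟩ := hy
      obtain ⟨i₂, b, rfl⟩ := hsurj r
      obtain ⟨k, h₁, h₂⟩ := exists_ge_ge i₁ i₂
      exact ⟨k, f _ _ h₂ b * f _ _ h₁ a,
        (I k).mul_mem_left _ (hI _ _ h₁ (Ideal.mem_map_of_mem _ ha)),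
        by rw [map_mul, hφ, hφ, smul_eq_mul]⟩
  | zero => exact ⟨Classical.arbitrary ι, 0, zero_mem _, map_zero _⟩
  | add y z _ _ hy hz =>
    obtain ⟨i₁, a, ha, rfl⟩ := hy
    obtain ⟨i₂, b, hb, rfl⟩ := hz
    obtain ⟨k, h₁, h₂⟩ := exists_ge_ge i₁ i₂
    exact ⟨k, f _ _ h₁ a + f _ _ h₂ b, (I k).add_mem (hI _ _ h₁ (Ideal.mem_map_of_mem _ ha))
      (hI _ _ h₂ (Ideal.mem_map_of_mem _ hb)), by rw [map_add, hφ, hφ]⟩

theorem exists_le_eq_of_eq (hsys : ∀ i j k (h₁ : i ≤ j) (h₂ : j ≤ k) x,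
      f j k h₂ (f i j h₁ x) = f i k (h₁.trans h₂) x)
    (hφ : ∀ i j h x, φ j (f i j h x) = φ i x)
    (hzero : ∀ i a, φ i a = 0 → ∃ j h, f i j h a = 0) {i j : ι} (a : G i) (b : G j)
    (h : φ i a = φ j b) : ∃ (k : ι) (h₁ : i ≤ k) (h₂ : j ≤ k), f i k h₁ a = f j k h₂ b := by
  obtain ⟨k, h₁, h₂⟩ := exists_ge_ge i j
  obtain ⟨l, h₃, hl⟩ := hzero k (f i k h₁ a - f j k h₂ b) (by rw [map_sub, hφ, hφ, h, sub_self])
  rw [map_sub, hsys, hsys, sub_eq_zero] at hl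
  exact ⟨l, h₁.trans h₃, h₂.trans h₃, hl⟩

/-- A directed colimit of henselian pairs is henselian. -/
theorem henselianRing_of_directed
    (hsys : ∀ i j k (h₁ : i ≤ j) (h₂ : j ≤ k) x,
      f j k h₂ (f i j h₁ x) = f i k (h₁.trans h₂) x)
    (hφ : ∀ i j h x, φ j (f i j h x) = φ i x) (hsurj : ∀ x, ∃ i a, φ i a = x)
    (hzero : ∀ i a, φ i a = 0 → ∃ j h, f i j h a = 0)
    (hI : ∀ i j h, (I i).map (f i j h) ≤ I j) (hh : ∀ i, HenselianRing (G i) (I i)) :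
    HenselianRing L (⨆ i, (I i).map (φ i)) := by
  have hjac : (⨆ i, (I i).map (φ i)) ≤ Ideal.jacobson ⊥ :=
    le_jacobson_of_forall_isUnit_one_add fun x hx ↦ by
      obtain ⟨i, a, ha, rfl⟩ := exists_mem_of_mem_iSup_map hφ hI hsurj hx
      rw [← map_one (φ i), ← map_add]
      refine (?_ : IsUnit (1 + a)).map (φ i)
      have := (hh i).jac ha
      rw [Ideal.mem_jacobson_bot] at this
      simpa [add_comm] using this 1
  refine ⟨hjac, fun p hp a₀ h₁ h₂ ↦ ?_⟩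
  classical
  rcases subsingleton_or_nontrivial L with hL | hL
  · exact ⟨a₀, Subsingleton.elim _ _, by simp⟩
  choose ic ac hac using fun n ↦ hsurj (p.coeff n)
  obtain ⟨i₀, b₀, rfl⟩ := hsurj a₀
  obtain ⟨iI, b₁, hb₁, hev⟩ := exists_mem_of_mem_iSup_map hφ hI hsurj h₁
  obtain ⟨d, hd⟩ := isUnit_iff_exists_inv.mp h₂
  obtain ⟨d, rfl⟩ := Ideal.Quotient.mk_surjective d
  rw [← map_mul, ← map_one (Ideal.Quotient.mk _), Ideal.Quotient.eq] at hd
  obtain ⟨iD, b₂, hb₂, hder⟩ := exists_mem_of_mem_iSup_map hφ hI hsurj hd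
  obtain ⟨id', bd, hbd⟩ := hsurj d
  obtain ⟨i, hi⟩ := Finset.exists_le
    (Finset.image ic (Finset.range (p.natDegree + 1)) ∪ {i₀, id'})
  have hlift : p ∈ Polynomial.lifts (φ i) := by
    rw [lifts_iff_coeff_lifts]
    intro n
    by_cases hn : n ∈ Finset.range (p.natDegree + 1)
    · exact ⟨f _ _ (hi _ (Finset.mem_union_left _ (Finset.mem_image_of_mem ic hn))) (ac n),
        by rw [hφ, hac]⟩
    · exact ⟨0, by rw [map_zero, coeff_eq_zero_of_natDegree_lt (by simpa using hn)]⟩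
  obtain ⟨q, hq, -, hqm⟩ := lifts_and_degree_eq_and_monic hlift hp
  set a := f i₀ i (hi _ (by simp)) b₀
  set e := f id' i (hi _ (by simp)) bd
  have ha : φ i a = φ i₀ b₀ := hφ _ _ _ _
  have he : φ i e = d := (hφ _ _ _ _).trans hbd
  obtain ⟨k₁, g₁, g₁', hk₁⟩ := exists_le_eq_of_eq hsys hφ hzero (q.eval a) b₁ (by
    rw [hev, ← ha, ← hq, eval_map, eval₂_hom])
  obtain ⟨k₂, g₂, g₂', hk₂⟩ := exists_le_eq_of_eq hsys hφ hzero
    (q.derivative.eval a * e - 1) b₂ (by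
      rw [hder, map_sub, map_mul, he, map_one, ← ha, ← hq, derivative_map, eval_map, eval₂_hom])
  obtain ⟨k, e₁, e₂⟩ := exists_ge_ge k₁ k₂
  set g := f i k (g₁.trans e₁)
  have h1 : (q.map g).eval (g a) ∈ I k := by
    have := hI _ _ (g₁'.trans e₁) (Ideal.mem_map_of_mem _ hb₁)
    rw [← hsys _ _ _ g₁' e₁, ← hk₁, hsys] at this
    rw [eval_map, eval₂_hom]
    exact this
  have h2 : IsUnit (Ideal.Quotient.mk (I k) ((q.map g).derivative.eval (g a))) := by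
    refine isUnit_iff_exists_inv.mpr ⟨Ideal.Quotient.mk _ (g e), ?_⟩
    rw [← map_mul, ← map_one (Ideal.Quotient.mk _), Ideal.Quotient.eq, derivative_map, eval_map,
      eval₂_hom, ← map_mul, ← map_one g, ← map_sub]
    have := hI _ _ (g₂'.trans e₂) (Ideal.mem_map_of_mem _ hb₂)
    rw [← hsys _ _ _ g₂' e₂, ← hk₂, hsys] at this
    exact this
  obtain ⟨r, hr, hra⟩ := (hh k).is_henselian _ (hqm.map g) (g a) h1 h2
  refine ⟨φ k r, ?_, ?_⟩
  · rw [IsRoot] at hr ⊢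
    rw [← hq, show φ i = (φ k).comp g from RingHom.ext fun x ↦ (hφ _ _ _ x).symm,
      ← Polynomial.map_map, eval_map, eval₂_hom, hr, map_zero]
  · refine le_iSup (fun j ↦ (I j).map (φ j)) k ?_
    rw [← ha, ← hφ i k (g₁.trans e₁) a, ← map_sub]
    exact Ideal.mem_map_of_mem _ hra

end GrothLib.Hensel
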