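import Groth.Agent.Lib.Hensel.PairNbhd
import Groth.Agent.Lib.Hensel.Properties
import Mathlib.RingTheory.Etale.Basic
import Mathlib.RingTheory.FinitePresentation

/-!
# Henselizations of pairs of finitely presented algebras
-/

namespace GrothLib.Hensel

open scoped TensorProduct

universe u

variable {R : Type u} [CommRing R] {K : Ideal R} {P : Type u} [CommRing P] [Algebra R P]

theorem IsPairHenselization.ringHom_ext (hP : Hens2.IsPairHenselization R K P) {C : Type u}
    [CommRing C] (J : Ideal C) [hJ : HenselianRing C J] {g₁ g₂ : P →+* C}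
    (h : g₁.comp (algebraMap R P) = g₂.comp (algebraMap R P))
    (hK : K.map (g₁.comp (algebraMap R P)) ≤ J) : g₁ = g₂ :=
  (hP.2 C J _ hJ hK).unique rfl h.symm

/-- A criterion: existence and uniqueness of extensions. -/
theorem isPairHenselization_mk (hens : HenselianRing P (K.map (algebraMap R P)))
    (ex : ∀ (C : Type u) [CommRing C] (J : Ideal C) (f : R →+* C), HenselianRing C J →
      K.map f ≤ J → ∃ g : P →+* C, g.comp (algebraMap R P) = f)
    (ext : ∀ (C : Type u) [CommRing C] (J : Ideal C) (g₁ g₂ : P →+* C), HenselianRing C J →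
      K.map (g₁.comp (algebraMap R P)) ≤ J →
      g₁.comp (algebraMap R P) = g₂.comp (algebraMap R P) → g₁ = g₂) :
    Hens2.IsPairHenselization R K P := by
  refine ⟨hens, fun C _ J f hC hf ↦ ?_⟩
  obtain ⟨g, hg⟩ := ex C J f hC hf
  exact ⟨g, hg, fun g' hg' ↦ ext C J g' g hC (by rw [hg']; exact hf) (hg'.trans hg.symm)⟩

/-- Henselization commutes with quotients. -/
theorem isPairHenselization_of_surjective (hP : Hens2.IsPairHenselization R K P) {R' : Type u}
    [CommRing R'] [Algebra R R'] (hsurj : Function.Surjective (algebraMap R R')) {P' : Type u}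
    [CommRing P'] [Algebra R' P'] [Algebra R P'] [IsScalarTower R R' P'] (φ : P →ₐ[R] P')
    (hφ : Function.Surjective φ)
    (hker : RingHom.ker φ ≤ (RingHom.ker (algebraMap R R')).map (algebraMap R P)) :
    Hens2.IsPairHenselization R' (K.map (algebraMap R R')) P' := by
  have hmap : (K.map (algebraMap R P)).map φ.toRingHom =
      (K.map (algebraMap R R')).map (algebraMap R' P') := by
    rw [Ideal.map_map, Ideal.map_map, ← IsScalarTower.algebraMap_eq,
      show φ.toRingHom.comp (algebraMap R P) = algebraMap R P' from φ.comp_algebraMap]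
  refine isPairHenselization_mk ?_ ?_ ?_
  · rw [← hmap]
    let _ : Algebra P P' := φ.toRingHom.toAlgebra
    have : Algebra.IsIntegral P P' := ⟨fun x ↦ by
      obtain ⟨y, rfl⟩ := hφ x
      exact isIntegral_algebraMap (R := P) (A := P') (x := y)⟩
    have := hP.1
    exact henselianRing_of_isIntegral (K.map (algebraMap R P)) P'
  · intro C _ J f hC hf
    obtain ⟨g, hg, -⟩ := hP.2 C J (f.comp (algebraMap R R')) hC (by rw [← Ideal.map_map]; exact hf)
    have hk : RingHom.ker φ.toRingHom ≤ RingHom.ker g := by
      refine hker.trans (Ideal.map_le_iff_le_comap.mpr fun r hr ↦ ?_)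
      rw [Ideal.mem_comap, RingHom.mem_ker,
        show g (algebraMap R P r) = f (algebraMap R R' r) from RingHom.congr_fun hg r,
        RingHom.mem_ker.mp hr, map_zero]
    refine ⟨φ.toRingHom.liftOfSurjective hφ ⟨g, hk⟩, ?_⟩
    ext r
    obtain ⟨r, rfl⟩ := hsurj r
    rw [RingHom.comp_apply, ← IsScalarTower.algebraMap_apply R R' P', ← φ.commutes r]
    refine (RingHom.liftOfRightInverse_comp_apply _ _ _ ⟨g, hk⟩ (algebraMap R P r)).trans ?_
    exact RingHom.congr_fun hg r
  · intro C _ J g₁ g₂ hC hK h
    have hh : g₁.comp φ.toRingHom = g₂.comp φ.toRingHom := by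
      refine IsPairHenselization.ringHom_ext hP J (hJ := hC) ?_ ?_
      · ext r
        show g₁ (φ (algebraMap R P r)) = g₂ (φ (algebraMap R P r))
        rw [φ.commutes, IsScalarTower.algebraMap_apply R R' P']
        exact RingHom.congr_fun h _
      · rw [RingHom.comp_assoc, show φ.toRingHom.comp (algebraMap R P) = algebraMap R P' from
          φ.comp_algebraMap, IsScalarTower.algebraMap_eq R R' P', ← RingHom.comp_assoc,
          ← Ideal.map_map]
        exact hK
    ext x
    obtain ⟨y, rfl⟩ := hφ x
    exact RingHom.congr_fun hh y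

/-- Finitely many elements of a henselization lie in an étale stage of which it is also the
henselization. -/
theorem IsPairHenselization.exists_stage (hP : Hens2.IsPairHenselization R K P) (s : Finset P) :
    ∃ (N : Type u) (_ : CommRing N) (_ : Algebra R N) (_ : Algebra N P) (_ : IsScalarTower R N P),
      Algebra.Etale R N ∧
      Function.Bijective (Ideal.quotientMap (K.map (algebraMap R N)) (algebraMap R N)
        Ideal.le_comap_map) ∧
      Hens2.IsPairHenselization N (K.map (algebraMap R N)) P ∧
      ∀ x ∈ s, x ∈ Set.range (algebraMap N P) := by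
  obtain ⟨e⟩ := IsPairHenselization.nonempty_hull_algEquiv hP
  obtain ⟨N₀, a, ha⟩ := Hull.exists_ι_family (A := R) (C := R ⧸ K) (fun x : s ↦ e.symm x)
  obtain ⟨N, _, _, _, hbij, φ, σ, hσ⟩ := exists_bijective_refine (I := K) N₀.pt
  let ψ : N →ₐ[R] P := e.toAlgHom.comp (Hull.of σ)
  let _ : Algebra N P := ψ.toRingHom.toAlgebra
  have : IsScalarTower R N P := .of_algebraMap_eq' ψ.comp_algebraMap.symm
  refine ⟨N, inferInstance, inferInstance, inferInstance, inferInstance, ‹_›, hbij, ?_, fun x hx ↦ ?_⟩
  · refine isPairHenselization_mk ?_ ?_ ?_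
    · rw [Ideal.map_map, ← IsScalarTower.algebraMap_eq]
      exact hP.1
    · intro C _ J f hC hf
      obtain ⟨g, hg, -⟩ := hP.2 C J (f.comp (algebraMap R N)) hC (by rw [← Ideal.map_map]; exact hf)
      refine ⟨g, ?_⟩
      let _ : Algebra R C := (f.comp (algebraMap R N)).toAlgebra
      obtain ⟨h⟩ := existsUnique_algHom_of_bijective (A' := N) hbij J
        (show K.map (f.comp (algebraMap R N)) ≤ J by
          rw [← Ideal.map_map]
          exact hf)
      let g' : N →ₐ[R] C :=
        { g.comp (algebraMap N P) with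
          commutes' := fun r ↦ by
            show g (algebraMap N P (algebraMap R N r)) = _
            rw [← IsScalarTower.algebraMap_apply R N P]
            exact RingHom.congr_fun hg r }
      let f' : N →ₐ[R] C := { f with commutes' := fun r ↦ rfl }
      exact congrArg AlgHom.toRingHom ((h.uniq g').trans (h.uniq f').symm)
    · intro C _ J g₁ g₂ hC hK h
      refine IsPairHenselization.ringHom_ext hP J (hJ := hC) ?_ ?_
      · rw [IsScalarTower.algebraMap_eq R N P, ← RingHom.comp_assoc, h, RingHom.comp_assoc]
      · rw [IsScalarTower.algebraMap_eq R N P, ← RingHom.comp_assoc, ← Ideal.map_map]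
        exact hK
  · refine ⟨φ (a ⟨x, hx⟩), ?_⟩
    show e ((Hull.of σ) (φ (a ⟨x, hx⟩))) = x
    rw [show Hull.of σ (φ (a ⟨x, hx⟩)) = Hull.ι N₀ (a ⟨x, hx⟩) from
      AlgHom.congr_fun (Hull.of_comp σ φ hσ) _, ha]
    exact e.apply_symm_apply x

end GrothLib.Hensel
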