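import Groth.Agent.Lib.Hensel.Pair
import Groth.Agent.Lib.Hensel.PairNbhd
import Groth.Agent.Lib.Hensel.PairHull
import Groth.Agent.Lib.Hensel.Properties
import Mathlib.RingTheory.ZariskisMainTheorem
import Mathlib.RingTheory.LocalRing.ResidueField.Fiber
import Mathlib.RingTheory.Etale.Basic

/-!
# A finite neighbourhood of a finite closed fibre over a henselian pair
-/

namespace GrothLib.Hensel

open TensorProduct

universe u

variable {A R : Type u} [CommRing A] [CommRing R] [Algebra A R] [Algebra.FiniteType A R]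
  (I : Ideal A)

theorem quasiFiniteAt_of_finite_quotient [Module.Finite A (R ⧸ I.map (algebraMap A R))]
    (q : Ideal R) [q.IsPrime] (hq : I.map (algebraMap A R) ≤ q) : Algebra.QuasiFiniteAt A q := by
  set p := q.under A
  let e := PrimeSpectrum.preimageEquivFiber A R ⟨p, inferInstance⟩ ⟨⟨q, inferInstance⟩, rfl⟩
  let g : R ⧸ I.map (algebraMap A R) →ₐ[A] p.Fiber R :=
    Ideal.Quotient.liftₐ _ (Algebra.TensorProduct.includeRight : R →ₐ[A] p.Fiber R) (by
      have : I.map (algebraMap A R) ≤
          RingHom.ker (Algebra.TensorProduct.includeRight : R →ₐ[A] p.Fiber R).toRingHom := by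
        refine Ideal.map_le_iff_le_comap.mpr fun a ha ↦ ?_
        show (Algebra.TensorProduct.includeRight : R →ₐ[A] p.Fiber R) (algebraMap A R a) = 0
        rw [AlgHom.commutes, IsScalarTower.algebraMap_apply A p.ResidueField (p.Fiber R),
          Ideal.algebraMap_residueField_eq_zero.mpr (Ideal.map_le_iff_le_comap.mp hq ha), map_zero]
      exact fun x hx ↦ this hx)
  let G : p.ResidueField ⊗[A] (R ⧸ I.map (algebraMap A R)) →ₐ[p.ResidueField] p.Fiber R :=
    Algebra.TensorProduct.lift (Algebra.ofId _ _) g fun _ _ ↦ Commute.all _ _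
  have hG : Function.Surjective G := fun z ↦ by
    induction z using TensorProduct.induction_on with
    | zero => exact ⟨0, map_zero G⟩
    | tmul a r =>
      exact ⟨a ⊗ₜ Ideal.Quotient.mk _ r, by
        simp [G, g, Algebra.TensorProduct.tmul_mul_tmul]⟩
    | add x y hx hy =>
      obtain ⟨x, rfl⟩ := hx
      obtain ⟨y, rfl⟩ := hy
      exact ⟨x + y, map_add G x y⟩
  have : Module.Finite p.ResidueField (p.Fiber R) := .of_surjective G.toLinearMap hG
  have : Algebra.QuasiFiniteAt p.ResidueField e.asIdeal := inferInstance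
  exact .of_quasiFiniteAt_residueField p q e.asIdeal
    congr($((PrimeSpectrum.preimageEquivFiber A R ⟨p, inferInstance⟩).symm_apply_apply
      ⟨⟨q, inferInstance⟩, rfl⟩).1.asIdeal)

theorem exists_sub_one_mem_finite [HenselianRing A I]
    [Module.Finite A (R ⧸ I.map (algebraMap A R))] :
    ∃ g : R, 1 - g ∈ I.map (algebraMap A R) ∧ Module.Finite A (Localization.Away g) := by
  let S := integralClosure A R
  let IS := I.map (algebraMap A S)
  let T : Set S := {r | ∀ x : R, ∃ N : ℕ, (r : R) ^ N * x ∈ S}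
  let J : Ideal S := Ideal.span T
  let φ : S →+* R ⧸ I.map (algebraMap A R) := (Ideal.Quotient.mk _).comp S.val.toRingHom
  have : IsScalarTower A S (R ⧸ I.map (algebraMap A R)) := .of_algebraMap_eq fun a ↦ rfl
  have hint : Algebra.IsIntegral S (R ⧸ I.map (algebraMap A R)) :=
    ⟨fun x ↦ ((Algebra.IsIntegral.isIntegral (R := A) x).tower_top)⟩
  let K := RingHom.ker φ
  -- `J` is trivial modulo `K`
  have htop : J ⊔ K = ⊤ := by
    by_contra hne
    obtain ⟨n, hn, hle⟩ := Ideal.exists_le_maximal _ hne
    obtain ⟨m, -, hm, hmn⟩ := Ideal.exists_ideal_over_prime_of_isIntegral (R := S) n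
      (⊥ : Ideal (R ⧸ I.map (algebraMap A R)))
      (by rw [← RingHom.ker_eq_comap_bot]; exact le_sup_right.trans hle)
    let q := m.comap (Ideal.Quotient.mk (I.map (algebraMap A R)))
    have hq : I.map (algebraMap A R) ≤ q := fun x hx ↦ by
      rw [Ideal.mem_comap, Ideal.Quotient.eq_zero_iff_mem.mpr hx]; exact m.zero_mem
    have := quasiFiniteAt_of_finite_quotient I q hq
    obtain ⟨r, hrq, hr, hx⟩ := Algebra.zariskisMainProperty_iff.mp
      (Algebra.ZariskisMainProperty.of_finiteType (R := A) q)
    have hrT : (⟨r, hr⟩ : S) ∈ T := hx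
    have : φ ⟨r, hr⟩ ∈ m := hmn.ge (hle (Ideal.mem_sup_left (Ideal.subset_span hrT)))
    exact hrq this
  obtain ⟨j, hj, k, hk, hjk⟩ := Submodule.mem_sup.mp ((Ideal.eq_top_iff_one _).mp htop)
  have hk' : (k : R) ∈ I.map (algebraMap A R) := Ideal.Quotient.eq_zero_iff_mem.mp hk
  -- `k` is killed by a power of `j` modulo `IS`
  have hT : ∀ r ∈ T, ∀ y ∈ I.map (algebraMap A R),
      ∃ (N : ℕ) (z : S), z ∈ IS ∧ (z : R) = (r : R) ^ N * y := by
    intro r hr y hy
    induction hy using Submodule.span_induction with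
    | mem y hy =>
      obtain ⟨a, ha, rfl⟩ := hy
      exact ⟨0, algebraMap A S a, Ideal.mem_map_of_mem _ ha, by simp⟩
    | zero => exact ⟨0, 0, zero_mem _, by simp⟩
    | add y y' _ _ h h' =>
      obtain ⟨N, z, hz, e⟩ := h
      obtain ⟨N', z', hz', e'⟩ := h'
      refine ⟨N + N', r ^ N' * z + r ^ N * z', add_mem (Ideal.mul_mem_left _ _ hz)
        (Ideal.mul_mem_left _ _ hz'), ?_⟩
      push_cast
      rw [e, e']; ring
    | smul c y _ h =>
      obtain ⟨N, z, hz, e⟩ := h
      obtain ⟨M, hM⟩ := hr c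
      refine ⟨M + N, ⟨(r : R) ^ M * c, hM⟩ * z, Ideal.mul_mem_left _ _ hz, ?_⟩
      push_cast
      rw [e, smul_eq_mul]; ring
  let C : Ideal S := IS.colon ({k} : Set S)
  obtain ⟨N, hN⟩ : j ∈ C.radical := by
    refine (Ideal.span_le.mpr fun r hr ↦ ?_) hj
    obtain ⟨N, z, hz, e⟩ := hT r hr k hk'
    refine ⟨N, ?_⟩
    rw [Submodule.mem_colon_singleton]
    convert hz
    exact Subtype.ext e.symm
  rw [Submodule.mem_colon_singleton, smul_eq_mul] at hN
  set b := j ^ (N + 1)
  -- lift the idempotent
  have hb : b * b - b ∈ IS := by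
    obtain ⟨c, hc⟩ := sub_dvd_pow_sub_pow j 1 (N + 1)
    rw [one_pow] at hc
    rw [show b * b - b = b * (b - 1) by ring, hc, show j - 1 = -k by rw [← hjk]; ring,
      show b * (-k * c) = (-(j * c)) * (j ^ N * k) by simp only [b]; ring]
    exact Ideal.mul_mem_left _ _ hN
  obtain ⟨e, he, heb⟩ := exists_isIdempotentElem_lift (I := I) hb
  refine ⟨e, ?_, ?_⟩
  · -- congruent to one
    have hφ : φ e = 1 := by
      have h1 : φ (e - b) = 0 := by
        have : IS ≤ K := by
          refine Ideal.map_le_iff_le_comap.mpr fun a ha ↦ ?_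
          show φ (algebraMap A S a) = 0
          exact Ideal.Quotient.eq_zero_iff_mem.mpr (Ideal.mem_map_of_mem _ ha)
        exact this heb
      have hj1 : φ j = 1 := by
        have := congrArg φ hjk
        rwa [map_add, map_one, show φ k = 0 from hk, add_zero] at this
      rw [map_sub, sub_eq_zero] at h1
      rw [h1, map_pow, hj1, one_pow]
    exact (Ideal.Quotient.eq (x := (1 : R))).mp (hφ.symm.trans rfl)
  -- `e R ⊆ S`
  have hmem : ∀ x : R, (e : R) * x ∈ S := by
    intro x
    let Cx : Ideal S :=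
      { carrier := {s | (s : R) * ((e : R) * x) ∈ S}
        add_mem' := fun {s t} hs ht ↦ by
          simp only [Set.mem_setOf_eq, AddMemClass.coe_add, add_mul] at hs ht ⊢
          exact add_mem hs ht
        zero_mem' := by simp
        smul_mem' := fun c s hs ↦ by
          simp only [Set.mem_setOf_eq, smul_eq_mul, MulMemClass.coe_mul, mul_assoc] at hs ⊢
          exact mul_mem c.2 hs }
    have hJ : J ≤ Cx.radical := Ideal.span_le.mpr fun r hr ↦ by
      obtain ⟨n, hn⟩ := hr ((e : R) * x)
      exact ⟨n, by simpa [Cx] using hn⟩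
    have he' : 1 - e ∈ Cx := by
      show ((1 - e : S) : R) * ((e : R) * x) ∈ S
      have hee : (e : R) * e = e := congrArg Subtype.val he
      push_cast
      rw [← mul_assoc, sub_mul, one_mul, hee, sub_self, zero_mul]
      exact zero_mem _
    have htop' : Cx.radical = ⊤ := by
      refine eq_top_of_sup_eq_top (I := IS) (map_le_jacobson_of_isIntegral HenselianRing.jac) ?_
      rw [Ideal.eq_top_iff_one]
      have : (1 : S) = (1 - e) + b + (e - b) := by ring
      rw [this]
      refine add_mem (Ideal.mem_sup_left (add_mem (Ideal.le_radical he') ?_)) (Ideal.mem_sup_right heb)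
      exact hJ (Ideal.pow_mem_of_mem _ hj _ (Nat.succ_pos _))
    have h1 : (1 : S) ∈ Cx := by
      rw [← Ideal.eq_top_iff_one, ← Ideal.radical_eq_top, htop']
    simpa [Cx] using h1
  have hee : (e : R) * e = e := congrArg Subtype.val he
  have : Algebra.IsIntegral A (Localization.Away (e : R)) := by
    refine ⟨fun z ↦ ?_⟩
    obtain ⟨x, ⟨_, n, rfl⟩, rfl⟩ := IsLocalization.exists_mk'_eq (Submonoid.powers (e : R)) z
    have : IsLocalization.mk' (Localization.Away (e : R)) x
        (⟨(e : R) ^ n, n, rfl⟩ : Submonoid.powers (e : R)) =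
        algebraMap R (Localization.Away (e : R)) ((e : R) * x) := by
      rw [IsLocalization.mk'_eq_iff_eq_mul, ← map_mul,
        IsLocalization.eq_iff_exists (Submonoid.powers (e : R))]
      refine ⟨⟨_, 1, rfl⟩, ?_⟩
      have hpow : ∀ i : ℕ, (e : R) * (e : R) ^ i = e := fun i ↦ by
        induction i with
        | zero => simp
        | succ i ih => rw [pow_succ, ← mul_assoc, ih, hee]
      simp only [pow_one]
      rw [show (e : R) * ((e : R) * x * (e : R) ^ n) = ((e : R) * (e : R) ^ n) * e * x by ring,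
        hpow, hee]
    rw [this]
    exact (hmem x).map (IsScalarTower.toAlgHom A R _)
  have : Algebra.FiniteType A (Localization.Away (e : R)) := .trans (S := R) ‹_› inferInstance
  exact Algebra.IsIntegral.finite

end GrothLib.Hensel
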