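import Groth.Agent.Lib.Hensel.AbsFlat
import Groth.Agent.Lib.Hensel.Local
import Mathlib.FieldTheory.IsAlgClosed.Basic
import Mathlib.RingTheory.TensorProduct.Quotient
import Mathlib.RingTheory.Ideal.MinimalPrime.Localization
import Mathlib.SetTheory.Cardinal.Finite

/-!
# Minimal primes of henselizations and maximal ideals of the normalization
-/

namespace GrothLib.Hensel

open scoped TensorProduct
open IsLocalRing

universe u

/-- A domain integral over a henselian local ring has at most one maximal ideal. -/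
theorem eq_of_isMaximal_of_isIntegral {S D : Type u} [CommRing S] [HenselianLocalRing S]
    [CommRing D] [IsDomain D] [Algebra S D] [Algebra.IsIntegral S D] {P Q : Ideal D}
    [hP : P.IsMaximal] [hQ : Q.IsMaximal] : P = Q := by
  refine hP.eq_of_le hQ.ne_top fun x hx ↦ ?_
  let B := Algebra.adjoin S ({x} : Set D)
  have : Module.Finite S B := Module.Finite.iff_fg.mpr
    (fg_adjoin_of_finite (Set.finite_singleton x) fun y _ ↦ Algebra.IsIntegral.isIntegral y)
  obtain ⟨_, e, he, hne, huniq, -⟩ :=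
    exists_completeOrthogonalIdempotents_isLocalRing (R := S) (S := B)
  have hBD : Algebra.IsIntegral B D := Algebra.IsIntegral.tower_top S
  let i : MaximalSpectrum B := ⟨_, Ideal.isMaximal_comap_of_isIntegral_of_isMaximal (R := B) P⟩
  let k : MaximalSpectrum B := ⟨_, Ideal.isMaximal_comap_of_isIntegral_of_isMaximal (R := B) Q⟩
  have hei : e i = 1 := (IsIdempotentElem.iff_eq_zero_or_one.mp
    (he.idem i)).resolve_left fun h ↦ hne i (h ▸ Submodule.zero_mem _)
  have hki : k = i := huniq i k (hei ▸ fun h ↦ k.isMaximal.ne_top ((Ideal.eq_top_iff_one _).mpr h))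
  have : (⟨x, Algebra.subset_adjoin rfl⟩ : B) ∈ i.asIdeal := hx
  rw [← hki] at this
  exact this

section Count

variable {A : Type u} [CommRing A] {K : Type u} [CommRing K] [Algebra A K] {R' : Type u}
  [CommRing R'] [Algebra A R'] [Algebra.IsIntegral A R'] {S : Type u} [CommRing S] [Algebra A S]
  [Module.Flat A S]

theorem exists_mul_algebraMap_eq (hd : ∀ k : K, ∃ d a, IsUnit (algebraMap A K d) ∧
      k * algebraMap A K d = algebraMap A K a) (z : S ⊗[A] K) :
    ∃ t s : S, IsUnit (algebraMap S (S ⊗[A] K) t) ∧ z * algebraMap S _ t = algebraMap S _ s := by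
  induction z using TensorProduct.induction_on with
  | zero => exact ⟨1, 0, by rw [map_one]; exact isUnit_one, by simp⟩
  | tmul s k =>
    obtain ⟨d, a, hu, hk⟩ := hd k
    have h : ∀ b : A, algebraMap S (S ⊗[A] K) (algebraMap A S b) = 1 ⊗ₜ algebraMap A K b :=
      fun b ↦ by
        rw [← IsScalarTower.algebraMap_apply, Algebra.TensorProduct.algebraMap_apply,
          Algebra.TensorProduct.tmul_one_eq_one_tmul]
    refine ⟨algebraMap A S d, s * algebraMap A S a, ?_, ?_⟩
    · rw [h]; exact hu.map Algebra.TensorProduct.includeRight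
    · rw [map_mul, h, h, Algebra.TensorProduct.algebraMap_apply, Algebra.algebraMap_self,
        RingHom.id_apply, Algebra.TensorProduct.tmul_mul_tmul, Algebra.TensorProduct.tmul_mul_tmul,
        hk, mul_one, one_mul]
  | add x y hx hy =>
    obtain ⟨t, s, ht, hs⟩ := hx
    obtain ⟨t', s', ht', hs'⟩ := hy
    refine ⟨t * t', s * t' + s' * t, by rw [map_mul]; exact ht.mul ht', ?_⟩
    simp only [map_mul, map_add, ← hs, ← hs']
    ring

theorem le_of_comap_le (hd : ∀ k : K, ∃ d a, IsUnit (algebraMap A K d) ∧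
      k * algebraMap A K d = algebraMap A K a) {q q' : Ideal (S ⊗[A] K)} [q.IsPrime]
    [hq' : q'.IsPrime] (h : q.comap (algebraMap S (S ⊗[A] K)) ≤ q'.comap (algebraMap S (S ⊗[A] K))) :
    q ≤ q' := fun z hz ↦ by
  obtain ⟨t, s, ht, hs⟩ := exists_mul_algebraMap_eq hd z
  have : algebraMap S (S ⊗[A] K) s ∈ q' :=
    @h s (show algebraMap S (S ⊗[A] K) s ∈ q from hs ▸ q.mul_mem_right _ hz)
  rw [← hs] at this
  exact (hq'.mem_or_mem this).resolve_right fun h1 ↦
    hq'.ne_top (Ideal.eq_top_of_isUnit_mem _ h1 ht)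

theorem ker_algebraMap_le_nilradical (hker : ∀ a : A, algebraMap A K a = 0 → IsNilpotent a) :
    RingHom.ker (algebraMap S (S ⊗[A] K)) ≤ nilradical S := by
  intro s hs
  rw [RingHom.mem_ker, Algebra.TensorProduct.algebraMap_apply, Algebra.algebraMap_self,
    RingHom.id_apply] at hs
  let I : Ideal A := RingHom.ker (algebraMap A K)
  let g : (A ⧸ I) →ₐ[A] K := Ideal.Quotient.liftₐ I (Algebra.ofId A K) fun a ha ↦ ha
  have hg : Function.Injective g.toLinearMap :=
    RingHom.kerLift_injective (algebraMap A K)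
  have h0 : s ⊗ₜ[A] (1 : A ⧸ I) = 0 :=
    Module.Flat.lTensor_preserves_injective_linearMap (M := S) g.toLinearMap hg (by
      rw [LinearMap.lTensor_tmul, map_zero, AlgHom.toLinearMap_apply, map_one, hs])
  have h1 : Ideal.Quotient.mk (I.map (algebraMap A S)) s = 0 := by
    refine (Algebra.TensorProduct.quotIdealMapEquivTensorQuot S I).injective ?_
    rw [map_zero]
    simpa using h0
  refine (Ideal.map_le_iff_le_comap.mpr fun a ha ↦ ?_) (Ideal.Quotient.eq_zero_iff_mem.mp h1)
  exact mem_nilradical.mpr ((hker a ha).map _)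

/-- Primes of `S ⊗ K` are the minimal primes of `S`. -/
theorem card_minimalPrimes_eq_card_primeSpectrum (hS : EtaleStages A S) (hK : AbsFlat K)
    (hker : ∀ a : A, algebraMap A K a = 0 → IsNilpotent a)
    (hd : ∀ k : K, ∃ d a, IsUnit (algebraMap A K d) ∧
      k * algebraMap A K d = algebraMap A K a) :
    ENat.card (minimalPrimes S) = ENat.card (PrimeSpectrum (S ⊗[A] K)) := by
  have hex : ∀ p : Ideal S, p ∈ minimalPrimes S → ∃ q : Ideal (S ⊗[A] K), q.IsPrime ∧
      q.comap (algebraMap S (S ⊗[A] K)) = p := by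
    intro p hp
    have hpp : p.IsPrime := hp.1.1
    obtain ⟨q, hq, -, hqp⟩ := Ideal.exists_comap_eq_of_mem_minimalPrimes
      (I := (⊥ : Ideal (S ⊗[A] K))) (algebraMap S (S ⊗[A] K)) p
      ⟨⟨hpp, ((RingHom.ker_eq_comap_bot _).ge.trans (ker_algebraMap_le_nilradical hker)).trans
        (nilradical_le_prime p)⟩, fun y hy hyp ↦ hp.2 ⟨hy.1, bot_le⟩ hyp⟩
    exact ⟨q, hq, hqp⟩
  have hmin : ∀ q : Ideal (S ⊗[A] K), q.IsPrime →
      q.comap (algebraMap S (S ⊗[A] K)) ∈ minimalPrimes S := by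
    intro q hq
    obtain ⟨p, hp, hpq⟩ := Ideal.exists_minimalPrimes_le
      (bot_le : ⊥ ≤ q.comap (algebraMap S (S ⊗[A] K)))
    obtain ⟨q₀, hq₀, rfl⟩ := hex p hp
    rwa [← (hS.absFlat_tensor hK).eq_of_le (le_of_comap_le hd hpq)]
  refine (ENat.card_congr (Equiv.ofBijective
    (fun q : PrimeSpectrum (S ⊗[A] K) ↦ (⟨_, hmin q.asIdeal q.2⟩ : minimalPrimes S))
    ⟨fun q q' h ↦ PrimeSpectrum.ext ?_, fun p ↦ ?_⟩)).symm
  · have h' := congrArg Subtype.val h
    exact le_antisymm (le_of_comap_le hd h'.le) (le_of_comap_le hd h'.ge)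
  · obtain ⟨q, hq, hqp⟩ := hex p.1 p.2
    exact ⟨⟨q, hq⟩, Subtype.ext hqp⟩

/-- Primes of `S ⊗ K` are the maximal ideals of `S ⊗ R'` for henselian `S`. -/
theorem card_primeSpectrum_eq_card_maximalSpectrum [HenselianLocalRing S] (hS : EtaleStages A S)
    (hK : AbsFlat K) (iv : R' →ₐ[A] K) (hiv : Function.Injective iv)
    (hmem : ∀ k : K, IsIntegral A k → ∃ r, iv r = k)
    (hd : ∀ k : K, ∃ d a, IsUnit (algebraMap A K d) ∧
      k * algebraMap A K d = algebraMap A K a) :
    ENat.card (PrimeSpectrum (S ⊗[A] K)) = ENat.card (MaximalSpectrum (S ⊗[A] R')) := by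
  set j := Algebra.TensorProduct.map (AlgHom.id S S) iv
  let j' := Algebra.TensorProduct.map (AlgHom.id A S) iv
  have hjj : ∀ x, j x = j' x := fun x ↦ by
    induction x using TensorProduct.induction_on with
    | zero => simp
    | tmul s r => simp [j, j']
    | add x y hx hy => simp only [map_add, hx, hy]
  have hcm : ∀ q : Ideal (S ⊗[A] K), q.comap j = q.comap j' := fun q ↦
    Ideal.ext fun x ↦ by simp only [Ideal.mem_comap, hjj]
  have hj' : Function.Injective j' :=
    Module.Flat.lTensor_preserves_injective_linearMap (M := S) iv.toLinearMap hiv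
  have hex : ∀ q : PrimeSpectrum (S ⊗[A] K), ∃ P : MaximalSpectrum (S ⊗[A] R'),
      q.asIdeal.comap j' ≤ P.asIdeal := fun q ↦ by
    obtain ⟨P, hP, hle⟩ := Ideal.exists_le_maximal _
      (Ideal.IsPrime.ne_top (q.2.comap j'))
    exact ⟨⟨P, hP⟩, hle⟩
  choose f hf using hex
  have huniq : ∀ (q : PrimeSpectrum (S ⊗[A] K)) (P : MaximalSpectrum (S ⊗[A] R')),
      q.asIdeal.comap j' ≤ P.asIdeal → P = f q := by
    intro q P hP
    have : (q.asIdeal.comap j').IsPrime := q.2.comap j'
    have h1 : ∀ Q : MaximalSpectrum (S ⊗[A] R'), q.asIdeal.comap j' ≤ Q.asIdeal →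
        (Q.asIdeal.map (Ideal.Quotient.mk (q.asIdeal.comap j'))).IsMaximal ∧
        (Q.asIdeal.map (Ideal.Quotient.mk (q.asIdeal.comap j'))).comap
          (Ideal.Quotient.mk (q.asIdeal.comap j')) = Q.asIdeal := fun Q hQ ↦ by
      have h2 : (Q.asIdeal.map (Ideal.Quotient.mk (q.asIdeal.comap j'))).comap
          (Ideal.Quotient.mk (q.asIdeal.comap j')) = Q.asIdeal := by
        rw [Ideal.comap_map_of_surjective' _ Ideal.Quotient.mk_surjective, Ideal.mk_ker,
          sup_eq_left.mpr hQ]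
      refine ⟨(Ideal.map_eq_top_or_isMaximal_of_surjective _ Ideal.Quotient.mk_surjective
        Q.isMaximal).resolve_left fun h ↦ Q.isMaximal.ne_top ?_, h2⟩
      rw [← h2, h, Ideal.comap_top]
    have := (h1 P hP).1
    have := (h1 _ (hf q)).1
    refine MaximalSpectrum.ext ?_
    rw [← (h1 P hP).2, ← (h1 _ (hf q)).2, eq_of_isMaximal_of_isIntegral (S := S)
      (D := (S ⊗[A] R') ⧸ q.asIdeal.comap j')
      (P := P.asIdeal.map (Ideal.Quotient.mk (q.asIdeal.comap j')))
      (Q := (f q).asIdeal.map (Ideal.Quotient.mk (q.asIdeal.comap j')))]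
  refine ENat.card_congr (Equiv.ofBijective f ⟨fun q q' h ↦ PrimeSpectrum.ext ?_, fun P ↦ ?_⟩)
  · have hle' : q'.asIdeal.comap j' ≤ (f q).asIdeal := h ▸ hf q'
    have := comap_eq_of_le_common hS hK iv hiv hmem (q₁ := q.asIdeal) (q₂ := q'.asIdeal) (hf q) hle'
    have h2 : q.asIdeal.comap (algebraMap S (S ⊗[A] K)) =
        q'.asIdeal.comap (algebraMap S (S ⊗[A] K)) := by
      have hj : (algebraMap S (S ⊗[A] K)) = j.toRingHom.comp (algebraMap S (S ⊗[A] R')) :=
        (AlgHom.comp_algebraMap j).symm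
      rw [hj, ← Ideal.comap_comap, ← Ideal.comap_comap]
      refine congrArg _ ?_
      show q.asIdeal.comap j = q'.asIdeal.comap j
      rw [hcm, hcm]; exact this
    exact le_antisymm (le_of_comap_le hd h2.le) (le_of_comap_le hd h2.ge)
  · have := P.isMaximal.isPrime
    obtain ⟨r, hr, hrP⟩ := Ideal.exists_minimalPrimes_le (bot_le : ⊥ ≤ P.asIdeal)
    obtain ⟨q, hq, -, hqr⟩ := Ideal.exists_comap_eq_of_mem_minimalPrimes
      (I := (⊥ : Ideal (S ⊗[A] K))) j'.toRingHom r (by
        rwa [← RingHom.ker_eq_comap_bot, (RingHom.injective_iff_ker_eq_bot j'.toRingHom).mp hj'])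
    exact ⟨⟨q, hq⟩, (huniq ⟨q, hq⟩ P (hqr.trans_le hrP)).symm⟩

end Count

section Residue

variable {A : Type u} [CommRing A] {R' : Type u} [CommRing R'] [Algebra A R']
  [Algebra.IsIntegral A R'] {S : Type u} [CommRing S] [IsLocalRing S] [Algebra A S]

theorem map_mem_of_mem_maximalIdeal (P : Ideal (S ⊗[A] R')) [P.IsMaximal] {s : S}
    (hs : s ∈ maximalIdeal S) : algebraMap S (S ⊗[A] R') s ∈ P := by
  rw [← eq_maximalIdeal (Ideal.isMaximal_comap_of_isIntegral_of_isMaximal (R := S) P)] at hs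
  exact hs

/-- With trivial residue extension the maximal ideals of `S ⊗ R'` are those of `R'`. -/
theorem card_maximalSpectrum_tensor [IsLocalRing A] [IsLocalHom (algebraMap A S)]
    (hsur : ∀ s : S, ∃ a, s - algebraMap A S a ∈ maximalIdeal S) :
    ENat.card (MaximalSpectrum (S ⊗[A] R')) = ENat.card (MaximalSpectrum R') := by
  let ir : R' →ₐ[A] S ⊗[A] R' := Algebra.TensorProduct.includeRight
  have hmax : ∀ P : MaximalSpectrum (S ⊗[A] R'), (P.asIdeal.comap ir).IsMaximal := fun P ↦ by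
    have := P.isMaximal
    have : (P.asIdeal.comap ir).IsPrime := P.isMaximal.isPrime.comap ir
    refine Ideal.isMaximal_of_isIntegral_of_isMaximal_comap (R := A) _ ?_
    convert maximalIdeal.isMaximal A
    refine le_antisymm (le_maximalIdeal (Ideal.IsPrime.ne_top (Ideal.IsPrime.comap _))) fun a ha ↦ ?_
    show ir (algebraMap A R' a) ∈ P.asIdeal
    rw [AlgHom.commutes, IsScalarTower.algebraMap_apply A S (S ⊗[A] R')]
    exact map_mem_of_mem_maximalIdeal _ fun h ↦ ha (isUnit_of_map_unit _ _ h)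
  have hdec : ∀ x : S ⊗[A] R', ∃ r : R', ∀ P : MaximalSpectrum (S ⊗[A] R'),
      x - ir r ∈ P.asIdeal := fun x ↦ by
    induction x using TensorProduct.induction_on with
    | zero => exact ⟨0, fun P ↦ by simp⟩
    | tmul s r =>
      obtain ⟨a, ha⟩ := hsur s
      refine ⟨a • r, fun P ↦ ?_⟩
      have := P.isMaximal
      have h := P.asIdeal.mul_mem_right (ir r) (map_mem_of_mem_maximalIdeal P.asIdeal ha)
      have e1 : algebraMap S (S ⊗[A] R') (s - algebraMap A S a) * ir r =
          s ⊗ₜ r - ir (a • r) := by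
        rw [Algebra.TensorProduct.algebraMap_apply, Algebra.algebraMap_self, RingHom.id_apply]
        simp only [ir, Algebra.TensorProduct.includeRight_apply, TensorProduct.sub_tmul]
        rw [Algebra.algebraMap_eq_smul_one, TensorProduct.smul_tmul, sub_mul,
          Algebra.TensorProduct.tmul_mul_tmul, Algebra.TensorProduct.tmul_mul_tmul, mul_one, one_mul,
          one_mul, smul_mul_assoc, one_mul]
      rwa [e1] at h
    | add x y hx hy =>
      obtain ⟨r, hr⟩ := hx
      obtain ⟨r', hr'⟩ := hy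
      exact ⟨r + r', fun P ↦ by
        rw [map_add, add_sub_add_comm]; exact P.asIdeal.add_mem (hr P) (hr' P)⟩
  refine ENat.card_congr (Equiv.ofBijective (fun P ↦ (⟨_, hmax P⟩ : MaximalSpectrum R'))
    ⟨fun P Q h ↦ MaximalSpectrum.ext (Ideal.ext fun x ↦ ?_), fun m ↦ ?_⟩)
  · obtain ⟨r, hr⟩ := hdec x
    have h' : P.asIdeal.comap ir = Q.asIdeal.comap ir := congrArg MaximalSpectrum.asIdeal h
    rw [← Ideal.add_mem_iff_right P.asIdeal (P.asIdeal.neg_mem (hr P)),
      ← Ideal.add_mem_iff_right Q.asIdeal (Q.asIdeal.neg_mem (hr Q)),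
      show -(x - ir r) + x = ir r by ring]
    exact SetLike.ext_iff.mp h' r
  · obtain ⟨m, hm⟩ := m
    let L := R' ⧸ m
    let : Field L := Ideal.Quotient.field m
    have hA : ∀ a ∈ maximalIdeal A, algebraMap A L a = 0 := fun a ha ↦ by
      rw [← eq_maximalIdeal (Ideal.isMaximal_comap_of_isIntegral_of_isMaximal (R := A) m)] at ha
      exact Ideal.Quotient.eq_zero_iff_mem.mpr ha
    choose g hg using hsur
    have key : ∀ s a, s - algebraMap A S a ∈ maximalIdeal S →
        algebraMap A L (g s) = algebraMap A L a := fun s a h ↦ by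
      rw [← sub_eq_zero, ← map_sub]
      refine hA _ fun hu ↦ ?_
      have := (maximalIdeal S).sub_mem h (hg s)
      rw [sub_sub_sub_cancel_left, ← map_sub] at this
      exact this (hu.map _)
    let π : S →ₐ[A] L :=
      { toFun := fun s ↦ algebraMap A L (g s)
        map_one' := by rw [key 1 1 (by simp), map_one]
        map_mul' := fun s t ↦ by
          rw [← map_mul]
          refine key _ _ ?_
          rw [map_mul, show s * t - algebraMap A S (g s) * algebraMap A S (g t) =
            (s - algebraMap A S (g s)) * t + algebraMap A S (g s) * (t - algebraMap A S (g t)) by ring]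
          exact add_mem (Ideal.mul_mem_right _ _ (hg s)) (Ideal.mul_mem_left _ _ (hg t))
        map_zero' := by rw [key 0 0 (by simp), map_zero]
        map_add' := fun s t ↦ by
          rw [← map_add]
          refine key _ _ ?_
          rw [map_add, add_sub_add_comm]
          exact add_mem (hg s) (hg t)
        commutes' := fun a ↦ key _ a (by simp) }
    let Φ : S ⊗[A] R' →ₐ[A] L := Algebra.TensorProduct.lift π (Ideal.Quotient.mkₐ A m)
      fun _ _ ↦ Commute.all _ _
    have hΦ : Function.Surjective Φ := fun l ↦ by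
      obtain ⟨r, rfl⟩ := Ideal.Quotient.mk_surjective l
      exact ⟨1 ⊗ₜ r, by simp [Φ]; rfl⟩
    refine ⟨⟨_, RingHom.ker_isMaximal_of_surjective Φ.toRingHom hΦ⟩, MaximalSpectrum.ext ?_⟩
    ext r
    simp [ir, Φ, RingHom.mem_ker]
    exact Ideal.Quotient.eq_zero_iff_mem

/-- With purely inseparable `Ω` over the residue field of `S`, maximal ideals of `S ⊗ R'` are the
`A`-homomorphisms from `R'` to `Ω`. -/
theorem card_maximalSpectrum_tensor_eq_card_algHom {Ω : Type u} [Field Ω] [IsAlgClosed Ω]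
    [Algebra A Ω] (π : S →ₐ[A] Ω) (hπ : ∀ s, π s = 0 ↔ s ∈ maximalIdeal S)
    (hpi : ∀ x : Ω, ∃ (n : ℕ) (s : S), x ^ (ringExpChar Ω) ^ n = π s) :
    ENat.card (MaximalSpectrum (S ⊗[A] R')) = ENat.card (R' →ₐ[A] Ω) := by
  let Φ : (R' →ₐ[A] Ω) → (S ⊗[A] R' →ₐ[A] Ω) := fun σ ↦
    Algebra.TensorProduct.lift π σ fun _ _ ↦ Commute.all _ _
  have hmax : ∀ σ, (RingHom.ker (Φ σ).toRingHom).IsMaximal := fun σ ↦ by
    have := RingHom.ker_isPrime (Φ σ).toRingHom
    refine Ideal.isMaximal_of_isIntegral_of_isMaximal_comap (R := S) _ ?_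
    convert maximalIdeal.isMaximal S
    ext s
    simp [Φ, hπ]
  refine (ENat.card_congr (Equiv.ofBijective (fun σ ↦ (⟨_, hmax σ⟩ : MaximalSpectrum (S ⊗[A] R')))
    ⟨fun σ τ h ↦ AlgHom.ext fun r ↦ ?_, fun P ↦ ?_⟩)).symm
  · obtain ⟨n, s, hs⟩ := hpi (σ r)
    set N := (ringExpChar Ω) ^ n
    have h' : RingHom.ker (Φ σ).toRingHom = RingHom.ker (Φ τ).toRingHom :=
      congrArg MaximalSpectrum.asIdeal h
    have h1 : (1 : S) ⊗ₜ[A] (r ^ N) - s ⊗ₜ[A] (1 : R') ∈ RingHom.ker (Φ σ).toRingHom := by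
      simp [Φ, hs]
    rw [h'] at h1
    have h2 : τ r ^ N = π s := by simpa [Φ, sub_eq_zero] using h1
    exact iterateFrobenius_inj Ω (ringExpChar Ω) n (by
      simpa [iterateFrobenius_def] using hs.trans h2.symm)
  · obtain ⟨P, hP⟩ := P
    have hover : P.LiesOver (maximalIdeal S) := ⟨(eq_maximalIdeal
      (Ideal.isMaximal_comap_of_isIntegral_of_isMaximal (R := S) P)).symm⟩
    let : Field (S ⧸ maximalIdeal S) := Ideal.Quotient.field _
    let : Field ((S ⊗[A] R') ⧸ P) := Ideal.Quotient.field _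
    let π' : S ⧸ maximalIdeal S →+* Ω := Ideal.Quotient.lift _ π.toRingHom fun s hs ↦ (hπ s).mpr hs
    let : Algebra (S ⧸ maximalIdeal S) Ω := π'.toAlgebra
    let l : (S ⊗[A] R') ⧸ P →ₐ[S ⧸ maximalIdeal S] Ω := IsAlgClosed.lift
    have hl : ∀ s, l (Ideal.Quotient.mk P (algebraMap S _ s)) = π s := fun s ↦
      l.commutes (Ideal.Quotient.mk _ s)
    let σ : R' →ₐ[A] Ω :=
      { toRingHom := l.toRingHom.comp ((Ideal.Quotient.mk P).comp
          (Algebra.TensorProduct.includeRight : R' →ₐ[A] S ⊗[A] R').toRingHom)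
        commutes' := fun a ↦ by
          show l (Ideal.Quotient.mk P (Algebra.TensorProduct.includeRight (algebraMap A R' a))) = _
          rw [AlgHom.commutes, IsScalarTower.algebraMap_apply A S (S ⊗[A] R'), hl, π.commutes] }
    have hΦ : ∀ x, Φ σ x = l (Ideal.Quotient.mk P x) := fun x ↦ by
      induction x using TensorProduct.induction_on with
      | zero => simp
      | tmul s r =>
        rw [show (s ⊗ₜ[A] r : S ⊗[A] R') = algebraMap S _ s * Algebra.TensorProduct.includeRight r
          by simp, map_mul, map_mul, map_mul, hl]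
        simp [Φ, σ, ← Algebra.TensorProduct.one_def]
      | add x y hx hy => simp only [map_add, hx, hy]
    refine ⟨σ, MaximalSpectrum.ext (Ideal.ext fun x ↦ ?_)⟩
    show Φ σ x = 0 ↔ x ∈ P
    rw [hΦ, map_eq_zero, Ideal.Quotient.eq_zero_iff_mem]

end Residue

end GrothLib.Hensel
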