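import Groth.Agent.Lib.Hensel.FiniteNhd
import Groth.Agent.Lib.Hensel.QuasiFiniteNhd
import Mathlib.RingTheory.Finiteness.Nakayama

/-!
# Henselian finitely presented algebras with finite closed fibre are finite
-/

namespace GrothLib.Hensel

universe u

theorem module_finite_of_quotientMap_finite {A R B : Type u} [CommRing A] [CommRing R] [CommRing B]
    [Algebra A R] [Algebra R B] [Algebra A B] [IsScalarTower A R B] (I : Ideal A)
    (hB : Hens2.IsPairHenselization R (I.map (algebraMap A R)) B)
    (hfin : (Ideal.quotientMap (I.map (algebraMap A B)) (algebraMap A B) Ideal.le_comap_map).Finite) :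
    Module.Finite A (R ⧸ I.map (algebraMap A R)) := by
  have hbij := IsPairHenselization.quotientMap_bijective hB
  have hmap : (I.map (algebraMap A R)).map (algebraMap R B) = I.map (algebraMap A B) := by
    rw [Ideal.map_map, ← IsScalarTower.algebraMap_eq]
  let f : R ⧸ I.map (algebraMap A R) →ₐ[A] B ⧸ (I.map (algebraMap A R)).map (algebraMap R B) :=
    Ideal.quotientMapₐ _ (IsScalarTower.toAlgHom A R B) Ideal.le_comap_map
  have h1 : Module.Finite A (B ⧸ I.map (algebraMap A B)) := by
    have h : ((Ideal.quotientMap (I.map (algebraMap A B)) (algebraMap A B)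
        Ideal.le_comap_map).comp (Ideal.Quotient.mk I)).Finite :=
      RingHom.Finite.comp hfin (RingHom.Finite.of_surjective _ Ideal.Quotient.mk_surjective)
    exact RingHom.finite_algebraMap.mp h
  have h2 : Module.Finite A (B ⧸ (I.map (algebraMap A R)).map (algebraMap R B)) := by
    rw [hmap]; exact h1
  exact .equiv (AlgEquiv.ofBijective f hbij).symm.toLinearEquiv

theorem finite_of_quotientMap_finite (A : Type u) [CommRing A] (I : Ideal A) [HenselianRing A I]
    (R : Type u) [CommRing R] [Algebra A R] [Algebra.FinitePresentation A R]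
    (B : Type u) [CommRing B] [Algebra R B] [Algebra A B] [IsScalarTower A R B]
    (hB : Hens2.IsPairHenselization R (I.map (algebraMap A R)) B)
    (hfin : (Ideal.quotientMap (I.map (algebraMap A B)) (algebraMap A B) Ideal.le_comap_map).Finite) :
    Module.Finite A B ∧ Algebra.FinitePresentation A B := by
  have := module_finite_of_quotientMap_finite I hB hfin
  obtain ⟨g, hg, hG⟩ := exists_sub_one_mem_finite (R := R) I
  set C := Localization.Away g
  have hhens : HenselianRing C ((I.map (algebraMap A R)).map (algebraMap R C)) := by
    rw [Ideal.map_map, ← IsScalarTower.algebraMap_eq]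
    exact henselianRing_of_isIntegral I C
  have : Algebra.Etale R C := Algebra.Etale.of_isLocalizationAway g
  have hC : Hens2.IsPairHenselization R (I.map (algebraMap A R)) C := by
    refine ⟨hhens, fun D _ J f hJ hf ↦ ?_⟩
    let := f.toAlgebra
    obtain ⟨h⟩ := existsUnique_algHom_of_bijective (A' := C) (quotientMap_bijective_away _ hg) J hf
    refine ⟨h.default.toRingHom, h.default.comp_algebraMap, fun g' hg' ↦ ?_⟩
    exact congrArg AlgHom.toRingHom
      (h.uniq { g' with commutes' := fun r ↦ RingHom.congr_fun hg' r })
  obtain ⟨e⟩ := IsPairHenselization.nonempty_algEquiv hC hB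
  have : Algebra.FinitePresentation R C := inferInstance
  have : Algebra.FinitePresentation A C := .trans A R C
  exact ⟨.equiv (e.restrictScalars A).toLinearEquiv, .equiv (e.restrictScalars A)⟩

theorem surjective_of_quotientMap_surjective (A : Type u) [CommRing A] (I : Ideal A)
    [HenselianRing A I] (R : Type u) [CommRing R] [Algebra A R] [Algebra.FinitePresentation A R]
    (B : Type u) [CommRing B] [Algebra R B] [Algebra A B] [IsScalarTower A R B]
    (hB : Hens2.IsPairHenselization R (I.map (algebraMap A R)) B)
    (hsurj : Function.Surjective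
      (Ideal.quotientMap (I.map (algebraMap A B)) (algebraMap A B) Ideal.le_comap_map)) :
    Function.Surjective (algebraMap A B) := by
  have := (finite_of_quotientMap_finite A I R B hB (RingHom.Finite.of_surjective _ hsurj)).1
  have h : (⊤ : Submodule A B) ≤ LinearMap.range (Algebra.linearMap A B) ⊔ I • (⊤ : Submodule A B) := by
    intro b _
    obtain ⟨a, ha⟩ := hsurj (Ideal.Quotient.mk _ b)
    obtain ⟨a, rfl⟩ := Ideal.Quotient.mk_surjective a
    rw [Ideal.quotientMap_mk, Ideal.Quotient.eq] at ha
    rw [show b = algebraMap A B a + -(algebraMap A B a - b) by ring]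
    exact Submodule.add_mem_sup ⟨a, rfl⟩ (neg_mem (mem_map_iff_mem_smul_top.mp ha))
  have h2 := Submodule.le_of_le_smul_of_le_jacobson_bot Module.Finite.fg_top HenselianRing.jac h
  exact fun b ↦ h2 (Submodule.mem_top (x := b))

end GrothLib.Hensel
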