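import Groth.Agent.Lib.FibreFlat.OpenLocus
import Groth.Agent.Lib.Hensel.QuasiFiniteNhd
import Mathlib.RingTheory.Flat.Localization

/-!
# Etale neighbourhoods of a closed subset inside an open subset, flat case
-/

namespace GrothLib.Hensel

universe u

theorem exists_one_sub_mem_basicOpen_subset {R : Type u} [CommRing R] (K : Ideal R)
    {U : Set (PrimeSpectrum R)} (hU : IsOpen U) (h : PrimeSpectrum.zeroLocus (K : Set R) ⊆ U) :
    ∃ g : R, 1 - g ∈ K ∧ (PrimeSpectrum.basicOpen g : Set (PrimeSpectrum R)) ⊆ U := by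
  obtain ⟨J, hJ⟩ := (PrimeSpectrum.isClosed_iff_zeroLocus_ideal _).mp hU.isClosed_compl
  have htop : J ⊔ K = ⊤ := by
    by_contra hne
    obtain ⟨m, hm, hle⟩ := Ideal.exists_le_maximal _ hne
    have h2 : (⟨m, hm.isPrime⟩ : PrimeSpectrum R) ∈ Uᶜ := by
      rw [hJ]; exact le_sup_left.trans hle
    exact h2 (h (show K ≤ m from le_sup_right.trans hle))
  obtain ⟨g, hg, k, hk, hgk⟩ := Submodule.mem_sup.mp ((Ideal.eq_top_iff_one _).mp htop)
  refine ⟨g, by rw [← hgk, add_sub_cancel_left]; exact hk, fun p hp ↦ ?_⟩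
  by_contra hns
  exact hp ((Set.ext_iff.mp hJ p).mp hns hg)

variable {A R : Type u} [CommRing A] [CommRing R] [Algebra A R]

theorem flat_away_of_basicOpen_subset (g : R)
    (h : ∀ p : PrimeSpectrum R, p ∈ PrimeSpectrum.basicOpen g →
      Module.Flat A (Localization.AtPrime p.asIdeal)) :
    Module.Flat A (Localization.Away g) := by
  refine Module.flat_of_isLocalized_maximal (R := A) (Localization.Away g) (Localization.Away g)
    (fun P _ ↦ Localization.AtPrime P)
    (fun P _ ↦ Algebra.linearMap (Localization.Away g) (Localization.AtPrime P)) fun P _ ↦ ?_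
  let p : PrimeSpectrum R :=
    ⟨P.comap (algebraMap R (Localization.Away g)), Ideal.IsPrime.comap _⟩
  have hp : p ∈ PrimeSpectrum.basicOpen g := fun hg ↦
    (inferInstance : P.IsPrime).ne_top'
      (Ideal.eq_top_of_isUnit_mem P hg (IsLocalization.Away.algebraMap_isUnit g))
  have := IsLocalization.isLocalization_isLocalization_atPrime_isLocalization (Submonoid.powers g)
    (Localization.AtPrime P) P
  let e : Localization.AtPrime p.asIdeal ≃ₐ[R] Localization.AtPrime P :=
    IsLocalization.algEquiv p.asIdeal.primeCompl _ _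
  have := h p hp
  exact Module.Flat.of_linearEquiv (e.restrictScalars A).symm.toLinearEquiv

theorem exists_etale_flat_of_flat_at_zeroLocus [Algebra.FinitePresentation A R] (K : Ideal R)
    (h : ∀ (p : Ideal R) [p.IsPrime], K ≤ p → Module.Flat A (Localization.AtPrime p)) :
    ∃ g : R, 1 - g ∈ K ∧ Module.Flat A (Localization.Away g) := by
  obtain ⟨g, hg, hsub⟩ := exists_one_sub_mem_basicOpen_subset K
    (GrothLib.FibreFlat.isOpen_flat_locus (R := A) (A := R) (M := R))
    (fun p hp ↦ h p.asIdeal hp)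
  exact ⟨g, hg, flat_away_of_basicOpen_subset g fun p hp ↦ hsub hp⟩

end GrothLib.Hensel
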