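import Groth.Agent.Lib.Hensel.RegularTransfer
import Groth.Agent.Lib.Hensel.Henselization
import Groth.Agent.Lib.GeomReg.FiniteGRing
import Groth.Agent.Lib.Smoothing.Popescu.Base

/-!
# Formal fibres of henselizations
-/

set_option autoImplicit false
set_option backward.isDefEq.respectTransparency false

universe u

open TensorProduct IsLocalRing

namespace GrothLib.Hensel

/-- The completion of a Noetherian local ring agrees with that of its henselization. -/
theorem IsHenselization.nonempty_completion_algEquiv (R S : Type u) [CommRing R] [IsLocalRing R] [IsNoetherianRing R]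
    [CommRing S] [IsLocalRing S] [Algebra R S] [IsLocalHom (algebraMap R S)] [_root_.Hensel.IsHenselization R S] :
    Nonempty (AdicCompletion (maximalIdeal R) R ≃ₐ[R] AdicCompletion (maximalIdeal S) S) := by
  haveI := IsHenselization.flat (R := R) (S := S)
  haveI : IsNoetherianRing S := (IsHenselization.isNoetherianRing_iff (R := R) (S := S)).mp inferInstance
  obtain ⟨ψ, hψ⟩ := GrothLib.GeomReg.exists_completion_map R S
  have hb := GrothLib.AdicExtra.bijective_completion ψ hψ IsHenselization.map_maximalIdeal
    IsHenselization.residueField_map_bijective
  exact ⟨AlgEquiv.ofBijective ({ ψ with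
    commutes' := fun r => (RingHom.congr_fun hψ r).trans (IsScalarTower.algebraMap_apply R S _ r).symm } :
      AdicCompletion (maximalIdeal R) R →ₐ[R] AdicCompletion (maximalIdeal S) S) hb⟩

/-- A Noetherian local ring has geometrically regular formal fibres iff its henselization has. -/
theorem IsHenselization.isRegularHom_completion_iff (R S : Type u) [CommRing R] [IsLocalRing R] [IsNoetherianRing R]
    [CommRing S] [IsLocalRing S] [Algebra R S] [IsLocalHom (algebraMap R S)] [_root_.Hensel.IsHenselization R S] :
    CAlg.IsRegularHom S (AdicCompletion (maximalIdeal S) S) ↔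
      CAlg.IsRegularHom R (AdicCompletion (maximalIdeal R) R) := by
  haveI := IsHenselization.flat (R := R) (S := S)
  haveI : IsNoetherianRing S := (IsHenselization.isNoetherianRing_iff (R := R) (S := S)).mp inferInstance
  obtain ⟨e⟩ := IsHenselization.nonempty_completion_algEquiv R S
  let T := AdicCompletion (maximalIdeal S) S
  refine ⟨fun h => ?_, fun h => (IsHenselization.etaleStages (A := R) (S := S)).isRegularHom_of_restrictScalars T
    (Smoothing.Popescu.isRegularHom_of_algEquiv e h)⟩
  refine Smoothing.Popescu.isRegularHom_of_algEquiv e.symm
    (GrothLib.GeomReg.isRegularHom_comp (B := S) (IsHenselization.etaleStages (A := R) (S := S)).isRegularHom h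
      fun p _ => ?_)
  haveI : Algebra.EssFiniteType R p.ResidueField := inferInstance
  haveI : IsNoetherianRing (T ⊗[R] p.ResidueField) := Algebra.EssFiniteType.isNoetherianRing T _
  exact isNoetherianRing_of_ringEquiv (T ⊗[R] p.ResidueField) (Algebra.TensorProduct.comm R T p.ResidueField).toRingEquiv

end GrothLib.Hensel
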