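import Groth.Agent.Lib.Hensel.Limit
import Groth.Agent.Lib.Hensel.PairFP
import Mathlib.Algebra.Colimit.DirectLimit
import Mathlib.Data.Fintype.Order

/-!
# Maps out of Henselian finitely presented algebras into directed colimits
-/

namespace GrothLib.Hensel

universe u v w

variable {A : Type*} [CommRing A] {ι : Type w} [Preorder ι] [IsDirectedOrder ι] [Nonempty ι]
  {G : ι → Type u} [∀ i, CommRing (G i)] [∀ i, Algebra A (G i)] {L : Type v} [CommRing L]
  [Algebra A L] {f : ∀ i j, i ≤ j → G i →ₐ[A] G j} {φ : ∀ i, G i →ₐ[A] L}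

theorem exists_eq_zero_finset
    (hsys : ∀ i j k (h₁ : i ≤ j) (h₂ : j ≤ k) x,
      f j k h₂ (f i j h₁ x) = f i k (h₁.trans h₂) x)
    (hzero : ∀ i a, φ i a = 0 → ∃ j h, f i j h a = 0) (i : ι) (s : Finset (G i))
    (hs : ∀ a ∈ s, φ i a = 0) : ∃ (j : ι) (h : i ≤ j), ∀ a ∈ s, f i j h a = 0 := by
  classical
  choose! k hk hk0 using fun a ha ↦ hzero i a (hs a ha)
  obtain ⟨j, hj⟩ := Finset.exists_le (insert i (s.image k))
  refine ⟨j, hj i (Finset.mem_insert_self _ _), fun a ha ↦ ?_⟩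
  rw [← hsys i (k a) j (hk a ha)
    (hj _ (Finset.mem_insert_of_mem (Finset.mem_image_of_mem k ha))) a, hk0 a ha, map_zero]

theorem exists_algHom_factor {R : Type*} [CommRing R] [Algebra A R]
    [Algebra.FinitePresentation A R]
    (hsys : ∀ i j k (h₁ : i ≤ j) (h₂ : j ≤ k) x,
      f j k h₂ (f i j h₁ x) = f i k (h₁.trans h₂) x)
    (hφ : ∀ i j h x, φ j (f i j h x) = φ i x) (hsurj : ∀ x, ∃ i a, φ i a = x)
    (hzero : ∀ i a, φ i a = 0 → ∃ j h, f i j h a = 0) (χ : R →ₐ[A] L) :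
    ∃ (i : ι) (ψ : R →ₐ[A] G i), (φ i).comp ψ = χ := by
  classical
  obtain ⟨n, π, hπ, s, hs⟩ := (inferInstance : Algebra.FinitePresentation A R).out
  choose k a ha using fun l : Fin n ↦ hsurj (χ (π (MvPolynomial.X l)))
  obtain ⟨i, hi⟩ := Finset.exists_le (Finset.univ.image k)
  let b : Fin n → G i := fun l ↦ f (k l) i (hi _ (Finset.mem_image_of_mem k (Finset.mem_univ l))) (a l)
  have hev : (φ i).comp (MvPolynomial.aeval b) = χ.comp π :=
    MvPolynomial.algHom_ext fun l ↦ by simp [b, hφ, ha]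
  obtain ⟨j, hij, hj⟩ := exists_eq_zero_finset hsys hzero i (s.image (MvPolynomial.aeval b))
    fun x hx ↦ by
      obtain ⟨p, hp, rfl⟩ := Finset.mem_image.mp hx
      rw [show φ i (MvPolynomial.aeval b p) = χ (π p) from AlgHom.congr_fun hev p,
        show π p = 0 from hs.le (Ideal.subset_span hp), map_zero]
  let g : MvPolynomial (Fin n) A →ₐ[A] G j := (f i j hij).comp (MvPolynomial.aeval b)
  have hker : RingHom.ker π.toRingHom ≤ RingHom.ker g.toRingHom := by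
    refine hs.ge.trans (Ideal.span_le.mpr fun p hp ↦ ?_)
    exact hj _ (Finset.mem_image_of_mem _ hp)
  refine ⟨j, AlgHom.liftOfSurjective π hπ g hker, AlgHom.ext fun x ↦ ?_⟩
  obtain ⟨y, rfl⟩ := hπ x
  have : AlgHom.liftOfSurjective π hπ g hker (π y) = g y :=
    AlgHom.liftOfSurjective_apply π hπ g hker y
  rw [AlgHom.comp_apply, this]
  exact (hφ i j hij _).trans (AlgHom.congr_fun hev y)

theorem exists_algHom_eq_at_stage {R : Type*} [CommRing R] [Algebra A R]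
    [Algebra.FiniteType A R]
    (hsys : ∀ i j k (h₁ : i ≤ j) (h₂ : j ≤ k) x,
      f j k h₂ (f i j h₁ x) = f i k (h₁.trans h₂) x)
    (hzero : ∀ i a, φ i a = 0 → ∃ j h, f i j h a = 0) (i : ι) (ψ₁ ψ₂ : R →ₐ[A] G i)
    (h : (φ i).comp ψ₁ = (φ i).comp ψ₂) :
    ∃ (j : ι) (hij : i ≤ j), (f i j hij).comp ψ₁ = (f i j hij).comp ψ₂ := by
  classical
  obtain ⟨s, hs⟩ := (Algebra.FiniteType.out : (⊤ : Subalgebra A R).FG)
  obtain ⟨j, hij, hj⟩ := exists_eq_zero_finset hsys hzero i (s.image fun r ↦ ψ₁ r - ψ₂ r)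
    fun x hx ↦ by
      obtain ⟨r, -, rfl⟩ := Finset.mem_image.mp hx
      rw [map_sub, sub_eq_zero]
      exact AlgHom.congr_fun h r
  refine ⟨j, hij, AlgHom.ext_of_adjoin_eq_top hs fun r hr ↦ ?_⟩
  have := hj _ (Finset.mem_image_of_mem (fun r ↦ ψ₁ r - ψ₂ r) hr)
  rwa [map_sub, sub_eq_zero] at this

end GrothLib.Hensel
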