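import Groth.Agent.Lib.FibreDimAt6.Ring
import Mathlib.RingTheory.LocalRing.Module
import Mathlib.RingTheory.IntegralClosure.IsIntegralClosure.Basic

/-! # Local rings of ind-quasi-finite algebras are ind-quasi-finite -/

set_option autoImplicit false
set_option backward.isDefEq.respectTransparency false

universe u

open TensorProduct

namespace GrothLib.Hensel

variable {A B : Type u} [CommRing A] [CommRing B] [Algebra A B] (p : Ideal A) [p.IsPrime]
  (q : Ideal B) [q.IsPrime] [Algebra (Localization.AtPrime p) (Localization.AtPrime q)]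
  [IsScalarTower A (Localization.AtPrime p) (Localization.AtPrime q)]

theorem exists_subalgebra_of_quasiFinite (T : Type u) [CommRing T] [Algebra A T]
    [Algebra.FiniteType A T] [Algebra.QuasiFinite A T] (φ : T →ₐ[A] Localization.AtPrime q) :
    ∃ B₀ : Subalgebra (Localization.AtPrime p) (Localization.AtPrime q), Set.range φ ⊆ ↑B₀ ∧
      Algebra.FiniteType (Localization.AtPrime p) ↥B₀ ∧
        Algebra.QuasiFinite (Localization.AtPrime p) ↥B₀ := by
  let ψ : Localization.AtPrime p ⊗[A] T →ₐ[Localization.AtPrime p] Localization.AtPrime q :=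
    Algebra.TensorProduct.lift (Algebra.ofId _ _) φ fun _ _ ↦ Commute.all _ _
  refine ⟨ψ.range, ?_, ?_, Algebra.QuasiFinite.of_surjective_algHom ψ.rangeRestrict
    ψ.rangeRestrict_surjective⟩
  · rintro _ ⟨t, rfl⟩
    exact ⟨1 ⊗ₜ t, by simp [ψ]⟩
  · exact Algebra.FiniteType.of_surjective ψ.rangeRestrict ψ.rangeRestrict_surjective

/-- Local rings at a point of an ind-quasi-finite algebra. -/
theorem indQuasiFinite_localization
    (H : ∀ s : Finset B, ∃ B₀ : Subalgebra A B, (↑s : Set B) ⊆ ↑B₀ ∧
      Algebra.FiniteType A ↥B₀ ∧ Algebra.QuasiFinite A ↥B₀)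
    (s : Finset (Localization.AtPrime q)) :
    ∃ B₀ : Subalgebra (Localization.AtPrime p) (Localization.AtPrime q),
      (↑s : Set (Localization.AtPrime q)) ⊆ ↑B₀ ∧ Algebra.FiniteType (Localization.AtPrime p) ↥B₀ ∧
        Algebra.QuasiFinite (Localization.AtPrime p) ↥B₀ := by
  classical
  choose b d hbd using fun x : Localization.AtPrime q ↦ IsLocalization.exists_mk'_eq q.primeCompl x
  obtain ⟨B₁, hB₁, _, _⟩ := H (s.image b ∪ s.image fun x ↦ (d x : B))
  have hd : ∀ x ∈ s, (d x : B) ∈ B₁ := fun x hx ↦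
    hB₁ (Finset.mem_union_right _ (Finset.mem_image_of_mem (fun x ↦ (d x : B)) hx))
  let h : B₁ := ∏ x ∈ s.attach, ⟨(d x.1 : B), hd x.1 x.2⟩
  let j : B₁ →ₐ[A] Localization.AtPrime q :=
    (IsScalarTower.toAlgHom A B (Localization.AtPrime q)).comp B₁.val
  have hu : ∀ y : Submonoid.powers h, IsUnit (j y) := by
    rintro ⟨_, n, rfl⟩
    rw [map_pow]
    refine (IsUnit.pow n ?_)
    rw [map_prod, IsUnit.prod_iff]
    exact fun x _ ↦ IsLocalization.map_units (Localization.AtPrime q) (d x.1)
  haveI : Algebra.QuasiFinite A (Localization.Away h) :=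
    Algebra.QuasiFinite.of_isLocalization (S := B₁) (Submonoid.powers h)
  haveI : Algebra.FiniteType A (Localization.Away h) :=
    Algebra.FiniteType.trans (R := A) (S := B₁) inferInstance
      (IsLocalization.finiteType_of_monoid_fg (Submonoid.powers h) _)
  obtain ⟨B₀, hr, hf, hq⟩ := exists_subalgebra_of_quasiFinite p q (Localization.Away h)
    (IsLocalization.liftAlgHom (M := Submonoid.powers h) (f := j) hu)
  refine ⟨B₀, fun x hx ↦ hr ?_, hf, hq⟩
  obtain ⟨v, hv⟩ : (⟨(d x : B), hd x hx⟩ : B₁) ∣ h :=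
    Finset.dvd_prod_of_mem (fun x : s ↦ (⟨(d x.1 : B), hd x.1 x.2⟩ : B₁)) (Finset.mem_attach s ⟨x, hx⟩)
  refine ⟨algebraMap B₁ _ (⟨b x, hB₁ (Finset.mem_union_left _ (Finset.mem_image_of_mem b hx))⟩ * v) *
    IsLocalization.mk' (Localization.Away h) 1 ⟨h, Submonoid.mem_powers h⟩, ?_⟩
  set l := IsLocalization.liftAlgHom (S := Localization.Away h) (M := Submonoid.powers h) (f := j) hu
  have hl : ∀ z, l (algebraMap B₁ _ z) = j z := fun z ↦ IsLocalization.lift_eq _ z
  have h1 : l (IsLocalization.mk' (Localization.Away h) 1 ⟨h, Submonoid.mem_powers h⟩) * j h = 1 := by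
    rw [← hl, ← map_mul, IsLocalization.mk'_spec, hl, map_one]
  rw [map_mul, hl]
  refine (hu ⟨h, Submonoid.mem_powers h⟩).mul_left_injective ?_
  show _ * j h = x * j h
  rw [mul_assoc, h1, mul_one, hv, map_mul, map_mul, ← mul_assoc]
  refine congrArg (· * j v) ?_
  show algebraMap B _ (b x) = x * algebraMap B _ (d x : B)
  exact (IsLocalization.mk'_spec (Localization.AtPrime q) (b x) (d x)).symm.trans (congrArg (· * _) (hbd x))

theorem indQuasiFinite_localization_of_isIntegral [Algebra.IsIntegral A B]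
    (s : Finset (Localization.AtPrime q)) :
    ∃ B₀ : Subalgebra (Localization.AtPrime p) (Localization.AtPrime q),
      (↑s : Set (Localization.AtPrime q)) ⊆ ↑B₀ ∧ Algebra.FiniteType (Localization.AtPrime p) ↥B₀ ∧
        Algebra.QuasiFinite (Localization.AtPrime p) ↥B₀ := by
  refine indQuasiFinite_localization p q (fun t ↦ ?_) s
  haveI : Module.Finite A (Algebra.adjoin A (↑t : Set B)) :=
    Module.Finite.iff_fg.mpr (fg_adjoin_of_finite t.finite_toSet fun x _ ↦ Algebra.IsIntegral.isIntegral x)
  exact ⟨_, Algebra.subset_adjoin, inferInstance, inferInstance⟩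

theorem indQuasiFinite_localization_of_quasiFiniteAt [Algebra.FiniteType A B]
    [Algebra.QuasiFiniteAt A q] (s : Finset (Localization.AtPrime q)) :
    ∃ B₀ : Subalgebra (Localization.AtPrime p) (Localization.AtPrime q),
      (↑s : Set (Localization.AtPrime q)) ⊆ ↑B₀ ∧ Algebra.FiniteType (Localization.AtPrime p) ↥B₀ ∧
        Algebra.QuasiFinite (Localization.AtPrime p) ↥B₀ := by
  classical
  obtain ⟨g, hg, _⟩ := GrothLib.FibreDimAt6.exists_quasiFinite_away (R := A) B q
  choose b d hbd using fun x : Localization.AtPrime q ↦ IsLocalization.exists_mk'_eq q.primeCompl x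
  let T := Localization.Away g
  haveI : Algebra.FiniteType A T := Algebra.FiniteType.trans (R := A) (S := B) inferInstance
    (IsLocalization.finiteType_of_monoid_fg (Submonoid.powers g) _)
  let h : T := algebraMap B T (∏ x ∈ s, (d x : B))
  haveI : Algebra.QuasiFinite A (Localization.Away h) :=
    Algebra.QuasiFinite.of_isLocalization (S := T) (Submonoid.powers h)
  haveI : Algebra.FiniteType A (Localization.Away h) :=
    Algebra.FiniteType.trans (R := A) (S := T) inferInstance
      (IsLocalization.finiteType_of_monoid_fg (Submonoid.powers h) _)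
  let j : T →ₐ[A] Localization.AtPrime q :=
    IsLocalization.liftAlgHom (M := Submonoid.powers g)
      (f := IsScalarTower.toAlgHom A B (Localization.AtPrime q)) (by
        rintro ⟨_, n, rfl⟩
        exact (map_pow (algebraMap B (Localization.AtPrime q)) g n).symm ▸
          (IsLocalization.map_units (Localization.AtPrime q) (⟨g, hg⟩ : q.primeCompl)).pow n)
  have hj : ∀ z, j (algebraMap B T z) = algebraMap B _ z := fun z ↦ IsLocalization.lift_eq _ z
  have hh : IsUnit (j h) := by
    rw [hj, map_prod, IsUnit.prod_iff]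
    exact fun x _ ↦ IsLocalization.map_units (Localization.AtPrime q) (d x)
  have hu : ∀ y : Submonoid.powers h, IsUnit (j y) := by
    rintro ⟨_, n, rfl⟩
    rw [map_pow]
    exact hh.pow n
  obtain ⟨B₀, hr, hf, hq⟩ := exists_subalgebra_of_quasiFinite p q (Localization.Away h)
    (IsLocalization.liftAlgHom (M := Submonoid.powers h) (f := j) hu)
  refine ⟨B₀, fun x hx ↦ hr ?_, hf, hq⟩
  obtain ⟨v, hv⟩ : (d x : B) ∣ ∏ x ∈ s, (d x : B) := Finset.dvd_prod_of_mem (fun x ↦ (d x : B)) hx
  refine ⟨algebraMap T _ (algebraMap B T (b x * v)) *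
    IsLocalization.mk' (Localization.Away h) 1 ⟨h, Submonoid.mem_powers h⟩, ?_⟩
  set l := IsLocalization.liftAlgHom (S := Localization.Away h) (M := Submonoid.powers h) (f := j) hu
  have hl : ∀ z, l (algebraMap T _ z) = j z := fun z ↦ IsLocalization.lift_eq _ z
  have h1 : l (IsLocalization.mk' (Localization.Away h) 1 ⟨h, Submonoid.mem_powers h⟩) * j h = 1 := by
    rw [← hl, ← map_mul, IsLocalization.mk'_spec, hl, map_one]
  rw [map_mul, hl]
  refine hh.mul_left_injective ?_
  show _ * j h = x * j h
  rw [mul_assoc, h1, mul_one, hj, hj, hv, map_mul, map_mul, ← mul_assoc]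
  refine congrArg (· * _) ?_
  exact (IsLocalization.mk'_spec (Localization.AtPrime q) (b x) (d x)).symm.trans (congrArg (· * _) (hbd x))

end GrothLib.Hensel
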