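import Groth.Agent.Lib.Hensel.Local
import Mathlib.LinearAlgebra.Matrix.ToLinearEquiv

/-!
# Factorization of arbitrary polynomials over a henselian local ring
-/

namespace GrothLib.Hensel

open IsLocalRing Polynomial

universe u

variable {R : Type u} [CommRing R]

/-- Generic monic polynomial of degree `m` in the variables `Sum.inl`. -/
noncomputable def genMonic (R : Type u) [CommRing R] (m k : ℕ) :
    (MvPolynomial (Fin m ⊕ Fin (k + 1)) R)[X] :=
  X ^ m + ∑ i : Fin m, monomial i.val (MvPolynomial.X (Sum.inl i))

/-- Generic polynomial of degree `≤ k` in the variables `Sum.inr`. -/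
noncomputable def genPoly (R : Type u) [CommRing R] (m k : ℕ) :
    (MvPolynomial (Fin m ⊕ Fin (k + 1)) R)[X] :=
  ∑ j : Fin (k + 1), monomial j.val (MvPolynomial.X (Sum.inr j))

theorem eval_genMonic (m k : ℕ) (a : Fin m ⊕ Fin (k + 1) → R) :
    (genMonic R m k).map (MvPolynomial.eval a) =
      X ^ m + ∑ i : Fin m, monomial i.val (a (Sum.inl i)) := by
  simp [genMonic, Polynomial.map_sum, Polynomial.map_monomial]

theorem eval_genPoly (m k : ℕ) (a : Fin m ⊕ Fin (k + 1) → R) :
    (genPoly R m k).map (MvPolynomial.eval a) =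
      ∑ j : Fin (k + 1), monomial j.val (a (Sum.inr j)) := by
  simp [genPoly, Polynomial.map_sum, Polynomial.map_monomial]

theorem pderiv_coeff_gen (m k : ℕ) (v : Fin m ⊕ Fin (k + 1)) (r : ℕ) :
    MvPolynomial.pderiv v ((genMonic R m k * genPoly R m k).coeff r) =
      ((Sum.elim (fun i : Fin m ↦ X ^ i.val) (fun _ ↦ 0) v) * genPoly R m k +
        genMonic R m k * (Sum.elim (fun _ ↦ 0) (fun j : Fin (k + 1) ↦ X ^ j.val) v)).coeff r := by
  have h1 : ∀ a, MvPolynomial.pderiv v ((genMonic R m k).coeff a) =
      (Sum.elim (fun i : Fin m ↦ (X : (MvPolynomial (Fin m ⊕ Fin (k + 1)) R)[X]) ^ i.val)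
        (fun _ ↦ 0) v).coeff a := by
    intro a
    simp only [genMonic, coeff_add, coeff_X_pow, finsetSum_coeff, coeff_monomial, map_add, map_sum]
    rw [apply_ite (MvPolynomial.pderiv v), MvPolynomial.pderiv_one, map_zero, ite_self, zero_add]
    rcases v with i₀ | j₀
    · rw [Finset.sum_eq_single i₀]
      · by_cases h : i₀.val = a
        · simp [h]
        · simp [h, coeff_X_pow, Ne.symm h]
      · intro b _ hb
        by_cases h : b.val = a <;> simp [h, hb]
      · simp
    · refine Finset.sum_eq_zero fun b _ ↦ ?_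
      by_cases h : b.val = a <;> simp [h]
  have h2 : ∀ a, MvPolynomial.pderiv v ((genPoly R m k).coeff a) =
      (Sum.elim (fun _ ↦ 0) (fun j : Fin (k + 1) ↦
        (X : (MvPolynomial (Fin m ⊕ Fin (k + 1)) R)[X]) ^ j.val) v).coeff a := by
    intro a
    simp only [genPoly, finsetSum_coeff, coeff_monomial, map_sum]
    rcases v with i₀ | j₀
    · refine Finset.sum_eq_zero fun b _ ↦ ?_
      by_cases h : b.val = a <;> simp [h]
    · rw [Finset.sum_eq_single j₀]
      · by_cases h : j₀.val = a
        · simp [h]
        · simp [h, coeff_X_pow, Ne.symm h]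
      · intro b _ hb
        by_cases h : b.val = a <;> simp [h, hb]
      · simp
  simp only [coeff_add, coeff_mul, map_sum, MvPolynomial.pderiv_mul, h1, h2,
    Finset.sum_add_distrib]

/-- Factorizations with a monic factor lift over henselian local rings. -/
theorem exists_factor_lift_local [HenselianLocalRing R] (f : R[X])
    (g₀ h₀ : (ResidueField R)[X]) (hg : g₀.Monic) (hc : IsCoprime g₀ h₀)
    (hf : f.map (residue R) = g₀ * h₀) :
    ∃ g h : R[X], f = g * h ∧ g.Monic ∧ g.map (residue R) = g₀ ∧ h.map (residue R) = h₀ := by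
  classical
  set m := g₀.natDegree
  set k := max f.natDegree h₀.natDegree
  have hres : Function.Surjective (residue R) := residue_surjective
  choose lift hlift using hres
  let a₀ : Fin m ⊕ Fin (k + 1) → R :=
    Sum.elim (fun i ↦ lift (g₀.coeff i.val)) (fun j ↦ lift (h₀.coeff j.val))
  have hga : ((genMonic R m k).map (MvPolynomial.eval a₀)).map (residue R) = g₀ := by
    rw [eval_genMonic, Polynomial.map_add, Polynomial.map_pow, Polynomial.map_X, Polynomial.map_sum]
    simp only [a₀, Sum.elim_inl, Polynomial.map_monomial, hlift]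
    conv_rhs => rw [hg.as_sum]
    rw [Fin.sum_univ_eq_sum_range fun i ↦ monomial i (g₀.coeff i)]
    simp [C_mul_X_pow_eq_monomial, m]
  have hha : ((genPoly R m k).map (MvPolynomial.eval a₀)).map (residue R) = h₀ := by
    rw [eval_genPoly, Polynomial.map_sum]
    simp only [a₀, Sum.elim_inr, Polynomial.map_monomial, hlift]
    rw [Fin.sum_univ_eq_sum_range fun i ↦ monomial i (h₀.coeff i)]
    exact (h₀.as_sum_range' _ (Nat.lt_succ_of_le (le_max_right _ _))).symm
  let σ : Fin m ⊕ Fin (k + 1) ≃ Fin (m + (k + 1)) := finSumFinEquiv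
  let F : Fin m ⊕ Fin (k + 1) → MvPolynomial (Fin m ⊕ Fin (k + 1)) R := fun v ↦
    (genMonic R m k * genPoly R m k).coeff (σ v).val - MvPolynomial.C (f.coeff (σ v).val)
  have hmapmul : ∀ a : Fin m ⊕ Fin (k + 1) → R, ∀ r,
      MvPolynomial.eval a ((genMonic R m k * genPoly R m k).coeff r) =
        ((genMonic R m k).map (MvPolynomial.eval a) *
          (genPoly R m k).map (MvPolynomial.eval a)).coeff r := by
    intro a r; rw [← Polynomial.map_mul, Polynomial.coeff_map]
  have h₀' : ∀ v, MvPolynomial.eval a₀ (F v) ∈ maximalIdeal R := by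
    intro v
    rw [← residue_eq_zero_iff, map_sub, MvPolynomial.eval_C, map_sub, hmapmul,
      ← Polynomial.coeff_map, Polynomial.map_mul, hga, hha, ← Polynomial.coeff_map, hf, sub_self]
  have hJ : IsUnit (Ideal.Quotient.mk (maximalIdeal R)
      (Matrix.of fun i j ↦ MvPolynomial.eval a₀ (MvPolynomial.pderiv j (F i))).det) := by
    show IsUnit (residue R _)
    rw [isUnit_iff_ne_zero, RingHom.map_det]
    intro hdet
    obtain ⟨w, hw0, hw⟩ := Matrix.exists_mulVec_eq_zero_iff.mpr hdet
    let δg : (ResidueField R)[X] := ∑ i : Fin m, monomial i.val (w (Sum.inl i))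
    let δh : (ResidueField R)[X] := ∑ j : Fin (k + 1), monomial j.val (w (Sum.inr j))
    have hδg : δg.degree < (m : ℕ) := by
      refine (degree_sum_le _ _).trans_lt ((Finset.sup_lt_iff (WithBot.bot_lt_coe m)).mpr
        fun i _ ↦ (degree_monomial_le _ _).trans_lt (Nat.cast_lt.mpr i.isLt))
    have hδh : δh.degree < (k + 1 : ℕ) := by
      refine (degree_sum_le _ _).trans_lt ((Finset.sup_lt_iff (WithBot.bot_lt_coe _)).mpr
        fun i _ ↦ (degree_monomial_le _ _).trans_lt (Nat.cast_lt.mpr i.isLt))
    have hzero : δg * h₀ + g₀ * δh = 0 := by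
      ext r
      rw [coeff_zero]
      rcases lt_or_ge r (m + (k + 1)) with hr | hr
      · have := congrFun hw (σ.symm ⟨r, hr⟩)
        simp only [Matrix.mulVec, dotProduct, RingHom.mapMatrix_apply, Matrix.map_apply,
          Matrix.of_apply, F, Equiv.apply_symm_apply, map_sub, MvPolynomial.pderiv_C, map_zero,
          sub_zero] at this
        simp only [pderiv_coeff_gen, ← Polynomial.coeff_map, Polynomial.map_add, Polynomial.map_mul,
          hga, hha, Pi.zero_apply, Fintype.sum_sum_type, Sum.elim_inl, Sum.elim_inr,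
          Polynomial.map_zero, Polynomial.map_pow, Polynomial.map_X, zero_mul, mul_zero, add_zero,
          zero_add] at this
        refine Eq.trans ?_ this
        simp only [δg, δh, Finset.sum_mul, Finset.mul_sum, coeff_add, finsetSum_coeff]
        congr 1 <;> refine Finset.sum_congr rfl fun i _ ↦ ?_ <;>
          rw [← C_mul_X_pow_eq_monomial] <;>
          first
            | rw [mul_assoc, coeff_C_mul, mul_comm]
            | rw [mul_left_comm, coeff_C_mul, mul_comm]
      · rw [coeff_add, coeff_eq_zero_of_degree_lt, coeff_eq_zero_of_degree_lt, add_zero]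
        · refine (degree_mul_le _ _).trans_lt ?_
          rw [degree_eq_natDegree hg.ne_zero]
          exact (WithBot.add_lt_add_left (by simp) hδh).trans_le (by exact_mod_cast hr)
        · refine (degree_mul_le _ _).trans_lt ?_
          refine lt_of_le_of_lt (add_le_add_right degree_le_natDegree _) ?_
          refine (WithBot.add_lt_add_right (by simp) hδg).trans_le ?_
          norm_cast
          have : h₀.natDegree ≤ k := le_max_right _ _
          omega
    have hδg0 : δg = 0 := by
      have hdvd : g₀ ∣ δg * h₀ := ⟨-δh, by linear_combination hzero⟩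
      by_contra hne
      exact hg.not_dvd_of_degree_lt hne (by rwa [degree_eq_natDegree hg.ne_zero])
        (hc.dvd_of_dvd_mul_right hdvd)
    have hδh0 : δh = 0 := by
      rw [hδg0, zero_mul, zero_add] at hzero
      exact (mul_eq_zero.mp hzero).resolve_left hg.ne_zero
    refine hw0 (funext fun v ↦ ?_)
    rcases v with i | j
    · have := congrArg (fun p ↦ p.coeff i.val) hδg0
      simpa [δg, coeff_monomial, Fin.val_inj] using this
    · have := congrArg (fun p ↦ p.coeff j.val) hδh0
      simpa [δh, coeff_monomial, Fin.val_inj] using this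
  obtain ⟨a, ha, hclose⟩ := exists_multivariate_root (I := maximalIdeal R) F a₀ h₀' hJ
  have hres : ∀ v, residue R (a v) = residue R (a₀ v) := fun v ↦
    Ideal.Quotient.eq.mpr (hclose v)
  refine ⟨(genMonic R m k).map (MvPolynomial.eval a), (genPoly R m k).map (MvPolynomial.eval a),
    ?_, ?_, ?_, ?_⟩
  · ext r
    rcases lt_or_ge r (m + (k + 1)) with hr | hr
    · have := ha (σ.symm ⟨r, hr⟩)
      simp only [F, Equiv.apply_symm_apply, map_sub, MvPolynomial.eval_C, hmapmul,
        sub_eq_zero] at this
      exact this.symm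
    · rw [coeff_eq_zero_of_natDegree_lt, coeff_eq_zero_of_natDegree_lt]
      · refine lt_of_le_of_lt natDegree_mul_le ?_
        have hA : ((genMonic R m k).map (MvPolynomial.eval a)).natDegree ≤ m := by
          rw [eval_genMonic]
          refine natDegree_add_le_of_le (natDegree_X_pow_le _) ?_ |>.trans (le_of_eq (max_self m))
          exact natDegree_sum_le_of_forall_le _ _ fun i _ ↦
            (natDegree_monomial_le _).trans i.isLt.le
        have hB : ((genPoly R m k).map (MvPolynomial.eval a)).natDegree ≤ k := by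
          rw [eval_genPoly]
          exact natDegree_sum_le_of_forall_le _ _ fun i _ ↦
            (natDegree_monomial_le _).trans (Nat.lt_succ_iff.mp i.isLt)
        omega
      · have : f.natDegree ≤ k := le_max_left _ _
        omega
  · rw [eval_genMonic]
    refine monic_X_pow_add ?_
    refine (degree_sum_le _ _).trans_lt ((Finset.sup_lt_iff (WithBot.bot_lt_coe m)).mpr
      fun i _ ↦ (degree_monomial_le _ _).trans_lt (Nat.cast_lt.mpr i.isLt))
  · conv_rhs => rw [← hga]
    simp only [eval_genMonic, Polynomial.map_add, Polynomial.map_sum, Polynomial.map_monomial, hres]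
  · conv_rhs => rw [← hha]
    simp only [eval_genPoly, Polynomial.map_sum, Polynomial.map_monomial, hres]

end GrothLib.Hensel
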