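import Groth.Agent.Lib.Hensel.Hull
import Mathlib.RingTheory.LocalRing.ResidueField.Ideal

/-!
# Points with trivial residue extension

An étale neighbourhood `(S, q)` of `(R, p)` with `κ(p) = κ(q)` is the same as a point
`S →ₐ[R] κ(p)` with kernel `q`.
-/

namespace GrothLib.Hensel

universe u v

variable {R : Type u} [CommRing R] {p : Ideal R} [p.IsPrime] {S : Type v} [CommRing S] [Algebra R S]

theorem comap_of_point (σ : S →ₐ[R] p.ResidueField) {q : Ideal S}
    (hσ : RingHom.ker σ.toRingHom = q) : p = q.comap (algebraMap R S) := by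
  subst hσ
  ext a
  show a ∈ p ↔ σ (algebraMap R S a) = 0
  rw [AlgHom.commutes, Ideal.algebraMap_residueField_eq_zero]

theorem isUnit_point_of_notMem (σ : S →ₐ[R] p.ResidueField) {q : Ideal S} [q.IsPrime]
    (hσ : RingHom.ker σ.toRingHom = q) (s : q.primeCompl) : IsUnit (σ s) :=
  isUnit_iff_ne_zero.mpr fun h ↦ s.2 (hσ ▸ (h : (s : S) ∈ RingHom.ker σ.toRingHom))

/-- The extension of a point to the residue field of its kernel. -/
noncomputable def pointExtend (σ : S →ₐ[R] p.ResidueField) (q : Ideal S) [q.IsPrime]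
    (hσ : RingHom.ker σ.toRingHom = q) : q.ResidueField →+* p.ResidueField :=
  haveI : IsLocalHom (IsLocalization.lift (S := Localization.AtPrime q) (g := σ.toRingHom)
      (isUnit_point_of_notMem σ hσ)) := ⟨fun z hz ↦ by
    obtain ⟨x, s, rfl⟩ := IsLocalization.exists_mk'_eq q.primeCompl z
    rw [IsLocalization.AtPrime.isUnit_mk'_iff]
    intro hx
    have h0 : σ x = 0 := by rw [← hσ] at hx; exact hx
    rw [IsLocalization.lift_mk', show σ.toRingHom x = 0 from h0, zero_mul] at hz
    exact not_isUnit_zero hz⟩
  IsLocalRing.ResidueField.lift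
    (IsLocalization.lift (S := Localization.AtPrime q) (g := σ.toRingHom)
      (isUnit_point_of_notMem σ hσ))

theorem pointExtend_algebraMap (σ : S →ₐ[R] p.ResidueField) (q : Ideal S) [q.IsPrime]
    (hσ : RingHom.ker σ.toRingHom = q) (x : S) :
    pointExtend σ q hσ (algebraMap S q.ResidueField x) = σ x := by
  rw [IsScalarTower.algebraMap_apply S (Localization.AtPrime q), pointExtend,
    IsLocalRing.ResidueField.algebraMap_eq, IsLocalRing.ResidueField.lift_residue_apply]
  exact IsLocalization.lift_eq _ x

theorem pointExtend_map (σ : S →ₐ[R] p.ResidueField) (q : Ideal S) [q.IsPrime]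
    (hσ : RingHom.ker σ.toRingHom = q) (hq : p = q.comap (algebraMap R S)) (z : p.ResidueField) :
    pointExtend σ q hσ (Ideal.ResidueField.map p q (algebraMap R S) hq z) = z := by
  suffices h : (pointExtend σ q hσ).comp (Ideal.ResidueField.map p q (algebraMap R S) hq) =
      RingHom.id _ from RingHom.congr_fun h z
  apply IsFractionRing.ringHom_ext (A := R ⧸ p)
  intro r
  obtain ⟨r, rfl⟩ := Ideal.Quotient.mk_surjective r
  simp only [RingHom.comp_apply, RingHom.id_apply, Ideal.algebraMap_quotient_residueField_mk,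
    Ideal.ResidueField.map_algebraMap, pointExtend_algebraMap, AlgHom.commutes]

theorem bijective_of_point (σ : S →ₐ[R] p.ResidueField) (q : Ideal S) [q.IsPrime]
    (hσ : RingHom.ker σ.toRingHom = q) (hq : p = q.comap (algebraMap R S)) :
    Function.Bijective (Ideal.ResidueField.map p q (algebraMap R S) hq) :=
  ⟨RingHom.injective _, fun y ↦ ⟨pointExtend σ q hσ y,
    (pointExtend σ q hσ).injective (pointExtend_map σ q hσ hq _)⟩⟩

theorem exists_point_of_bijective (q : Ideal S) [q.IsPrime] (hq : p = q.comap (algebraMap R S))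
    (h : Function.Bijective (Ideal.ResidueField.map p q (algebraMap R S) hq)) :
    ∃ σ : S →ₐ[R] p.ResidueField, RingHom.ker σ.toRingHom = q := by
  let e := RingEquiv.ofBijective _ h
  refine ⟨{ e.symm.toRingHom.comp (algebraMap S q.ResidueField) with
    commutes' := fun r ↦ ?_ }, ?_⟩
  · show e.symm (algebraMap S q.ResidueField (algebraMap R S r)) = _
    rw [← Ideal.ResidueField.map_algebraMap p q (algebraMap R S) hq]
    exact RingEquiv.symm_apply_apply (RingEquiv.ofBijective _ h) (algebraMap R p.ResidueField r)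
  · ext x
    show e.symm (algebraMap S q.ResidueField x) = 0 ↔ x ∈ q
    rw [map_eq_zero, Ideal.algebraMap_residueField_eq_zero]

theorem point_eq_of_ker_eq (σ τ : S →ₐ[R] p.ResidueField)
    (h : RingHom.ker σ.toRingHom = RingHom.ker τ.toRingHom) : σ = τ := by
  set q := RingHom.ker σ.toRingHom
  have : q.IsPrime := RingHom.ker_isPrime _
  have hq := comap_of_point σ (q := q) rfl
  ext x
  obtain ⟨z, hz⟩ := (bijective_of_point σ q rfl hq).2 (algebraMap S q.ResidueField x)
  rw [← pointExtend_algebraMap σ q rfl, ← pointExtend_algebraMap τ q h.symm, ← hz,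
    pointExtend_map, pointExtend_map]

end GrothLib.Hensel
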