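import Groth.Agent.Lib.Hensel.Henselization
import Groth.Agent.Lib.Hensel.PointPair

/-!
# The henselization of `R_p` as the colimit of étale `R`-algebras with a point in `κ(p)`
-/

namespace GrothLib.Hensel

open IsLocalRing

universe u

variable {R : Type u} [CommRing R] (p : Ideal R) [p.IsPrime]

theorem PrimeHull.isUnit_iff (x : Hull R p.ResidueField) : IsUnit x ↔ Hull.proj x ≠ 0 :=
  ⟨fun h ↦ (h.map Hull.proj).ne_zero, fun h ↦ Hull.isUnit_of_isUnit_proj h.isUnit⟩

instance : Nontrivial (Hull R p.ResidueField) :=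
  (Hull.proj (A := R) (C := p.ResidueField)).toRingHom.domain_nontrivial

instance PrimeHull.isLocalRing : IsLocalRing (Hull R p.ResidueField) := by
  refine .of_nonunits_add fun {a b} ha hb ↦ ?_
  simp only [mem_nonunits_iff, PrimeHull.isUnit_iff, ne_eq, not_not] at *
  rw [map_add, ha, hb, add_zero]

theorem PrimeHull.maximalIdeal_eq :
    maximalIdeal (Hull R p.ResidueField) =
      RingHom.ker (Hull.proj : Hull R p.ResidueField →ₐ[R] p.ResidueField).toRingHom := by
  ext x
  simp [mem_maximalIdeal, mem_nonunits_iff, PrimeHull.isUnit_iff]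

instance PrimeHull.henselianLocalRing : HenselianLocalRing (Hull R p.ResidueField) := by
  refine henselianLocalRing_of_henselianRing ?_
  rw [PrimeHull.maximalIdeal_eq]
  exact Hull.henselianRing

theorem PrimeHull.isUnit_algebraMap (y : p.primeCompl) :
    IsUnit (algebraMap R (Hull R p.ResidueField) y) :=
  Hull.isUnit_of_isUnit_proj (by
    rw [AlgHom.commutes]
    exact isUnit_iff_ne_zero.mpr (fun h ↦ y.2 (Ideal.algebraMap_residueField_eq_zero.mp h)))

/-- Any henselization of `R_p` is the colimit of étale `R`-algebras with a point in `κ(p)`. -/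
theorem PrimeHull.exists_algEquiv (Rh : Type u) [CommRing Rh] [IsLocalRing Rh]
    [Algebra (Localization.AtPrime p) Rh] [IsLocalHom (algebraMap (Localization.AtPrime p) Rh)]
    [_root_.Hensel.IsHenselization (Localization.AtPrime p) Rh] [Algebra R Rh]
    [IsScalarTower R (Localization.AtPrime p) Rh] :
    ∃ e : Hull R p.ResidueField ≃ₐ[R] Rh,
      ∀ x, e x ∈ maximalIdeal Rh ↔ Hull.proj x = 0 := by
  have hRh : _root_.Hensel.IsHenselization (Localization.AtPrime p) Rh := inferInstance
  have := hRh.henselian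
  let H := Hull R p.ResidueField
  let f : Localization.AtPrime p →+* H := IsLocalization.lift (PrimeHull.isUnit_algebraMap p)
  have hf : IsLocalHom f := ⟨fun z hz ↦ by
    obtain ⟨x, s, rfl⟩ := IsLocalization.exists_mk'_eq p.primeCompl z
    rw [IsLocalization.AtPrime.isUnit_mk'_iff]
    intro hx
    rw [IsLocalization.lift_mk', Units.isUnit_mul_units] at hz
    exact (PrimeHull.isUnit_iff p _).mp hz (by
      rw [AlgHom.commutes]; exact Ideal.algebraMap_residueField_eq_zero.mpr hx)⟩
  obtain ⟨φ, hφ, -⟩ := hRh.universal H f hf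
  -- the residue field of `Rh` is `κ(p)`
  let ρ : p.ResidueField →+* ResidueField Rh :=
    ResidueField.map (algebraMap (Localization.AtPrime p) Rh)
  let γ : p.ResidueField →ₐ[R] Rh ⧸ maximalIdeal Rh :=
    { ρ with
      commutes' := fun r ↦ by
        show ρ (algebraMap R p.ResidueField r) = residue Rh (algebraMap R Rh r)
        rw [IsScalarTower.algebraMap_apply R (Localization.AtPrime p) p.ResidueField,
          ResidueField.algebraMap_eq, IsScalarTower.algebraMap_apply R (Localization.AtPrime p) Rh]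
        rfl }
  obtain ⟨ψ, hψ, -⟩ := Hull.existsUnique_lift (maximalIdeal Rh) γ
  have hφR : ∀ r, φ (algebraMap R Rh r) = algebraMap R H r := fun r ↦ by
    rw [IsScalarTower.algebraMap_apply R (Localization.AtPrime p) Rh]
    exact (RingHom.congr_fun hφ _).trans (IsLocalization.lift_eq _ r)
  let φ' : Rh →ₐ[R] H := { φ with commutes' := hφR }
  have h1 : ∀ x, ψ (φ' x) = x := by
    have h := (hRh.universal Rh (algebraMap (Localization.AtPrime p) Rh) inferInstance).unique
      (y₁ := ψ.toRingHom.comp φ) (y₂ := RingHom.id Rh) ?_ (RingHom.id_comp _)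
    · exact RingHom.congr_fun h
    · refine IsLocalization.ringHom_ext p.primeCompl (RingHom.ext fun r ↦ ?_)
      show ψ (φ (algebraMap _ Rh (algebraMap R _ r))) = algebraMap _ Rh (algebraMap R _ r)
      rw [← IsScalarTower.algebraMap_apply, hφR, AlgHom.commutes]
  have hproj : ∀ y, γ (Hull.proj (φ' y)) = residue Rh y := fun y ↦ by
    refine (AlgHom.congr_fun hψ (φ' y)).symm.trans ?_
    show residue Rh (ψ (φ' y)) = _
    rw [h1]
  have hγi : Function.Injective γ := ρ.injective
  have h2 : ∀ z, φ' (ψ z) = z := by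
    suffices h : φ'.comp ψ = AlgHom.id R H from AlgHom.congr_fun h
    refine Hull.algHom_ext fun N ↦ algHom_eq_of_sub_mem (I := maximalIdeal H)
      (IsLocalRing.maximalIdeal_le_jacobson ⊥) fun x ↦ ?_
    rw [PrimeHull.maximalIdeal_eq]
    show Hull.proj (φ' (ψ (Hull.ι N x)) - Hull.ι N x) = 0
    rw [map_sub, sub_eq_zero]
    exact hγi ((hproj _).trans (AlgHom.congr_fun hψ _))
  refine ⟨AlgEquiv.ofAlgHom ψ φ' (AlgHom.ext h1) (AlgHom.ext h2), fun x ↦ ?_⟩
  show ψ x ∈ maximalIdeal Rh ↔ _
  rw [← residue_eq_zero_iff, show residue Rh (ψ x) = γ (Hull.proj x) from AlgHom.congr_fun hψ x]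
  exact ⟨fun h ↦ ρ.injective (h.trans (map_zero ρ).symm), fun h ↦ (congrArg ρ h).trans (map_zero ρ)⟩

end GrothLib.Hensel
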