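import Groth.Agent.Lib.Hensel.IdemMatrix
import Mathlib.LinearAlgebra.TensorProduct.Pi
import Mathlib.RingTheory.Finiteness.Projective

/-!
# Finite projective modules lift along henselian pairs
-/

namespace GrothLib.Hensel

open TensorProduct

universe u v

/-- Finitely generated projective modules lift along henselian pairs. -/
theorem exists_projective_lift {R : Type u} [CommRing R] (I : Ideal R) [HenselianRing R I]
    (Q : Type v) [AddCommGroup Q] [Module (R ⧸ I) Q] [Module.Finite (R ⧸ I) Q]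
    [Module.Projective (R ⧸ I) Q] :
    ∃ (P : Type u) (_ : AddCommGroup P) (_ : Module R P), Module.Finite R P ∧
      Module.Projective R P ∧ Nonempty ((R ⧸ I) ⊗[R] P ≃ₗ[R ⧸ I] Q) := by
  obtain ⟨n, π, hπ⟩ := Module.Finite.exists_fin' (R ⧸ I) Q
  obtain ⟨s, hs⟩ := Module.projective_lifting_property π LinearMap.id hπ
  have hs' : ∀ z, π (s z) = z := fun z ↦ LinearMap.congr_fun hs z
  let M := LinearMap.toMatrix' (s ∘ₗ π)
  have hM : IsIdempotentElem M := by
    show M * M = M
    simp only [M, ← LinearMap.toMatrix'_comp]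
    congr 1
    ext z
    simp [hs']
  obtain ⟨E, hE, hEM⟩ := exists_idempotent_matrix_lift I M hM
  let e : (Fin n → R) →ₗ[R] (Fin n → R) := Matrix.toLin' E
  let P := LinearMap.range e
  let p : (Fin n → R) →ₗ[R] P := e.rangeRestrict
  let ι : P →ₗ[R] (Fin n → R) := P.subtype
  have hee : ∀ z, e (e z) = e z := fun z ↦ by
    simp only [e, Matrix.toLin'_apply, Matrix.mulVec_mulVec, hE.eq]
  have hpι : p ∘ₗ ι = LinearMap.id := by
    ext ⟨z, w, rfl⟩
    exact congrFun (hee w) _
  have hιp : ι ∘ₗ p = e := rfl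
  have hproj : Module.Projective R P := Module.Projective.of_split ι p hpι
  have hfin : Module.Finite R P := inferInstance
  let Φ : (R ⧸ I) ⊗[R] (Fin n → R) ≃ₗ[R ⧸ I] (Fin n → R ⧸ I) :=
    TensorProduct.piScalarRight R (R ⧸ I) (R ⧸ I) (Fin n)
  have hΦ : ∀ x, Φ (e.baseChange (R ⧸ I) x) = s (π (Φ x)) := by
    intro x
    have hM' : ∀ v, M.mulVec v = s (π v) := fun v ↦ by
      rw [← Matrix.toLin'_apply]
      simp only [M, Matrix.toLin'_toMatrix', LinearMap.comp_apply]
    rw [← hM']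
    induction x using TensorProduct.induction_on with
    | zero => simp
    | tmul a v =>
      funext i
      simp only [Φ, LinearMap.baseChange_tmul, piScalarRight_apply, piScalarRightHom_tmul,
        Matrix.mulVec, dotProduct, ← hEM, Matrix.map_apply, e, Matrix.toLin'_apply,
        Finset.sum_smul, mul_smul]
      exact Finset.sum_congr rfl fun j _ ↦ by simp [Algebra.smul_def]
    | add x y hx hy => simp [hx, hy, Matrix.mulVec_add]
  let f : (R ⧸ I) ⊗[R] P →ₗ[R ⧸ I] Q := π ∘ₗ Φ.toLinearMap ∘ₗ ι.baseChange (R ⧸ I)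
  let g : Q →ₗ[R ⧸ I] (R ⧸ I) ⊗[R] P := p.baseChange (R ⧸ I) ∘ₗ Φ.symm.toLinearMap ∘ₗ s
  have h1 : f ∘ₗ g = LinearMap.id := by
    ext z
    show π (Φ (ι.baseChange (R ⧸ I) (p.baseChange (R ⧸ I) (Φ.symm (s z))))) = z
    rw [← LinearMap.comp_apply (ι.baseChange _), ← LinearMap.baseChange_comp, hιp, hΦ,
      LinearEquiv.apply_symm_apply, hs', hs']
  have h2 : g ∘ₗ f = LinearMap.id := by
    refine LinearMap.ext fun x ↦ ?_
    show p.baseChange (R ⧸ I) (Φ.symm (s (π (Φ (ι.baseChange (R ⧸ I) x))))) = x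
    rw [← hΦ, LinearEquiv.symm_apply_apply, ← LinearMap.comp_apply (e.baseChange _),
      ← LinearMap.baseChange_comp, ← LinearMap.comp_apply, ← LinearMap.baseChange_comp,
      ← hιp, LinearMap.comp_assoc ι p, hpι, LinearMap.comp_id, hpι, LinearMap.baseChange_id]
    rfl
  exact ⟨P, inferInstance, inferInstance, hfin, hproj, ⟨.ofLinearMap f g h1 h2⟩⟩

end GrothLib.Hensel
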