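import Groth.Agent.Lib.Hensel.Basic
import Mathlib.LinearAlgebra.Matrix.Charpoly.Coeff

/-!
# Rank one idempotents in finite algebras

If `B` is a finite `A`-algebra, `(A, I)` satisfies Gabber's root condition and `d : B` cuts out a
copy of `A / I` in `B / I B`, then an idempotent of `B` lifts `d` and `A → e B` is surjective.
-/

namespace GrothLib.Hensel

open Polynomial Matrix

universe u v

variable {A : Type u} [CommRing A] {I : Ideal A} {B : Type v} [CommRing B] [Algebra A B]

/-- Cayley–Hamilton along a surjection from a free module. -/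
theorem aeval_charpoly_eq_zero_of_mul {ι : Type*} [Fintype ι] [DecidableEq ι] (s : ι → B)
    (hs : Submodule.span A (Set.range s) = ⊤) (u : B) (M : Matrix ι ι A)
    (hM : ∀ j, u * s j = ∑ i, M i j • s i) : aeval u M.charpoly = 0 := by
  set π : (ι → A) →ₗ[A] B := Fintype.linearCombination A s with hπ
  have hπs : Function.Surjective π := by
    rw [← LinearMap.range_eq_top, hπ, Fintype.range_linearCombination, hs]
  have hπM : ∀ v, π (M *ᵥ v) = u * π v := by
    intro v
    simp only [hπ, Fintype.linearCombination_apply, Matrix.mulVec, dotProduct, Finset.sum_smul,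
      Finset.mul_sum, mul_smul_comm, hM, Finset.smul_sum, smul_smul]
    rw [Finset.sum_comm]
    simp only [mul_comm]
  have key : ∀ (q : A[X]) v, π ((aeval M q) *ᵥ v) = aeval u q * π v := by
    intro q
    induction q using Polynomial.induction_on with
    | C a =>
      intro v
      rw [aeval_C, aeval_C, Algebra.algebraMap_eq_smul_one (A := Matrix ι ι A),
        Matrix.smul_mulVec, Matrix.one_mulVec, map_smul, Algebra.smul_def]
    | add p q hp hq => intro v; simp [map_add, Matrix.add_mulVec, hp, hq, add_mul]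
    | monomial n a h =>
      intro v
      rw [pow_succ, ← mul_assoc, map_mul, aeval_X, ← Matrix.mulVec_mulVec, h, hπM]
      simp only [map_mul, aeval_X, map_pow, aeval_C]
      ring
  obtain ⟨v, hv⟩ := hπs 1
  simpa [Matrix.aeval_self_charpoly, hv] using (key M.charpoly v).symm

/-- If `e` is idempotent and every `e * x` lies in `A e + I B`, then every `e * x` lies in `A e`. -/
theorem mul_mem_span_of_isIdempotentElem [Module.Finite A B] (hI : I ≤ Ideal.jacobson ⊥) {e : B}
    (he : IsIdempotentElem e)
    (h : ∀ x : B, ∃ a : A, e * x - a • e ∈ I.map (algebraMap A B)) :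
    ∀ x : B, ∃ a : A, e * x = algebraMap A B a * e := by
  set N' : Submodule A B := LinearMap.range (LinearMap.mulLeft A e) with hN'
  have hfg : N'.FG := by
    rw [hN', LinearMap.range_eq_map]
    exact (Module.finite_def.mp inferInstance).map _
  have hle : N' ≤ Submodule.span A {e} ⊔ I • N' := by
    rintro _ ⟨x, rfl⟩
    obtain ⟨a, ha⟩ := h x
    rw [mem_map_iff_mem_smul_top] at ha
    have := Submodule.mem_map_of_mem (f := LinearMap.mulLeft A e) ha
    rw [Submodule.map_smul'', Submodule.map_top] at this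
    refine Submodule.mem_sup.mpr ⟨a • e,
      Submodule.smul_mem _ _ (Submodule.mem_span_singleton_self _), _, this, ?_⟩
    simp only [LinearMap.mulLeft_apply, mul_sub, mul_smul_comm, ← mul_assoc, he.eq]
    abel
  intro x
  obtain ⟨a, ha⟩ := Submodule.mem_span_singleton.mp
    (Submodule.le_of_le_smul_of_le_jacobson_bot hfg hI hle ⟨x, rfl⟩)
  exact ⟨a, by rw [← Algebra.smul_def, ha]; rfl⟩

/-- Rank one idempotent lifting. -/
theorem exists_idem_of_section [Module.Finite A B] (hI : I ≤ Ideal.jacobson ⊥) (hR : RootCond I)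
    (σ : B →ₐ[A] A ⧸ I) (d : B) (hd1 : σ d = 1)
    (hd2 : ∀ x, σ x = 0 → d * x ∈ I.map (algebraMap A B)) :
    ∃ e : B, IsIdempotentElem e ∧ σ e = 1 ∧ e - d ∈ I.map (algebraMap A B) ∧
      ∀ x : B, ∃ a : A, e * x = algebraMap A B a * e := by
  classical
  obtain ⟨N, g, hg⟩ := Module.Finite.exists_fin (R := A) (M := B)
  set IB := I.map (algebraMap A B) with hIB
  let s : Option (Option (Fin N)) → B
    | none => d
    | some none => 0
    | some (some i) => (1 - d) * g i
  have hdd : d * (1 - d) ∈ IB := hd2 _ (by simp [hd1])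
  have hdiag : ∀ x : B, ∃ a : A, d * x - a • d ∈ IB := by
    intro x
    obtain ⟨a, ha⟩ := Ideal.Quotient.mk_surjective (σ x)
    refine ⟨a, ?_⟩
    have := hd2 (x - algebraMap A B a) (by simp [← ha])
    simpa [mul_sub, Algebra.smul_def, mul_comm d (algebraMap A B a)] using this
  have hs : Submodule.span A (Set.range s) = ⊤ := by
    rw [eq_top_iff]
    refine Submodule.le_of_le_smul_of_le_jacobson_bot (Module.finite_def.mp inferInstance) hI ?_
    rw [← hg, Submodule.span_le]
    rintro _ ⟨i, rfl⟩
    obtain ⟨a, ha⟩ := hdiag (g i)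
    rw [mem_map_iff_mem_smul_top, ← hg] at ha
    refine Submodule.mem_sup.mpr ⟨a • s none + s (some (some i)),
      add_mem (Submodule.smul_mem _ _ (Submodule.subset_span ⟨none, rfl⟩))
        (Submodule.subset_span ⟨some (some i), rfl⟩), _, ha, ?_⟩
    simp only [s]; ring
  -- the matrix of multiplication by `d`
  let δ : Option (Option (Fin N)) → A := fun j ↦ if j = none then 1 else 0
  have hcol : ∀ j, ∃ c : Option (Option (Fin N)) → A,
      (∀ i, c i ∈ I) ∧ d * s j - δ j • s j = ∑ i, c i • s i := by
    intro j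
    have hmem : d * s j - δ j • s j ∈ IB := by
      match j with
      | none =>
        have : d * s none - δ none • s none = -(d * (1 - d)) := by simp [s, δ]; ring
        rw [this]; exact IB.neg_mem hdd
      | some none => simp [s, δ]
      | some (some i) =>
        simpa [s, δ, mul_assoc] using IB.mul_mem_right (g i) hdd
    rw [mem_map_iff_mem_smul_top, ← hs, Submodule.mem_ideal_smul_span_iff_exists_sum] at hmem
    obtain ⟨c, hc, hcs⟩ := hmem
    exact ⟨c, hc, by rw [← hcs, Finsupp.sum_fintype]; simp⟩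
  choose c hc hcs using hcol
  let M : Matrix (Option (Option (Fin N))) (Option (Option (Fin N))) A :=
    Matrix.diagonal δ + Matrix.of fun i j ↦ c j i
  have hM : ∀ j, d * s j = ∑ i, M i j • s i := by
    intro j
    simp only [M, Matrix.add_apply, Matrix.of_apply, add_smul, Finset.sum_add_distrib, ← hcs]
    rw [Finset.sum_eq_single j (fun i _ hij ↦ by simp [Matrix.diagonal_apply_ne _ hij])
      (by simp)]
    simp
  have hroot := aeval_charpoly_eq_zero_of_mul s hs d M hM
  set χ := M.charpoly with hχ
  have hmap : χ.map (Ideal.Quotient.mk I) = X ^ (N + 1) * (X - 1) := by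
    rw [hχ, ← Matrix.charpoly_map,
      show M.map (Ideal.Quotient.mk I) = Matrix.diagonal fun i ↦ Ideal.Quotient.mk I (δ i) by
        ext i j
        simp only [M, Matrix.map_apply, Matrix.add_apply, Matrix.of_apply, map_add,
          Ideal.Quotient.eq_zero_iff_mem.mpr (hc j i), add_zero]
        by_cases h : i = j
        · subst h; simp
        · simp [Matrix.diagonal_apply_ne _ h],
      Matrix.charpoly_diagonal]
    simp [Fintype.prod_option, δ, Finset.prod_const]
    ring
  by_cases hA : Subsingleton A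
  · have : Subsingleton B := Module.subsingleton A B
    exact ⟨d, Subsingleton.elim _ _, hd1, by simp,
      fun x ↦ ⟨0, Subsingleton.elim _ _⟩⟩
  have := not_subsingleton_iff_nontrivial.mp hA
  have hχm : χ.Monic := M.charpoly_monic
  have hχdeg : χ.natDegree = N + 2 := by
    rw [hχ, Matrix.charpoly_natDegree_eq_dim]; simp
  set p := χ - X ^ (N + 1) * (X - 1) with hp
  have hpdeg : p.natDegree ≤ N + 1 := by
    have hm : (X ^ (N + 1) * (X - 1) : A[X]).Monic := (monic_X_pow _).mul (monic_X_sub_C 1)
    have hd' : (X ^ (N + 1) * (X - 1) : A[X]).natDegree = N + 2 := by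
      rw [← map_one (C : A →+* A[X]), (monic_X_pow _).natDegree_mul (monic_X_sub_C 1),
        natDegree_X_sub_C, natDegree_X_pow]
    rw [Polynomial.natDegree_le_iff_coeff_eq_zero]
    intro k hk
    rw [hp, coeff_sub]
    rcases eq_or_lt_of_le (Nat.succ_le_of_lt hk) with h | h
    · subst h
      rw [show (N + 1).succ = χ.natDegree from hχdeg.symm, hχm.coeff_natDegree, hχdeg, ← hd',
        hm.coeff_natDegree, sub_self]
    · rw [coeff_eq_zero_of_natDegree_lt (by omega), coeff_eq_zero_of_natDegree_lt (by omega),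
        sub_self]
  obtain ⟨α, hα1, hα⟩ := hR (N + 1) (by omega) p hpdeg (fun i ↦ by
    rw [← Ideal.Quotient.eq_zero_iff_mem, ← Polynomial.coeff_map, hp, Polynomial.map_sub, hmap]
    simp)
  rw [hp, add_sub_cancel] at hα
  obtain ⟨χ₁, hfac⟩ := Polynomial.dvd_iff_isRoot.mpr hα
  have hmk : Ideal.Quotient.mk I α = 1 := by
    rw [← sub_eq_zero, ← map_one (Ideal.Quotient.mk I), ← map_sub]
    exact Ideal.Quotient.eq_zero_iff_mem.mpr hα1
  have hχ₁ : χ₁.map (Ideal.Quotient.mk I) = X ^ (N + 1) := by
    have h1 : χ.map (Ideal.Quotient.mk I) = (X - 1) * χ₁.map (Ideal.Quotient.mk I) := by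
      rw [hfac, Polynomial.map_mul]; simp [hmk]
    rw [hmap, mul_comm _ (X - 1)] at h1
    exact ((monic_X_sub_C (1 : A ⧸ I)).isRegular.left (by simpa using h1)).symm
  have hc1 : Ideal.Quotient.mk I (χ₁.eval α) = 1 := by
    rw [← Polynomial.eval₂_hom, ← Polynomial.eval_map, hχ₁, hmk]; simp
  obtain ⟨w, hw⟩ := isUnit_of_isUnit_mk hI (a := χ₁.eval α) (by rw [hc1]; exact isUnit_one)
  set E := aeval d χ₁ with hE
  have hEu : (d - algebraMap A B α) * E = 0 := by
    have := congrArg (aeval d) hfac
    rw [hroot] at this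
    simpa using this.symm
  have hEq : ∀ q : A[X], aeval d q * E = algebraMap A B (q.eval α) * E := by
    intro q
    obtain ⟨r, hr⟩ := X_sub_C_dvd_sub_C_eval (p := q) (a := α)
    have : aeval d q - algebraMap A B (q.eval α) = (d - algebraMap A B α) * aeval d r := by
      simpa using congrArg (aeval d) hr
    rw [← sub_eq_zero, ← sub_mul, this, mul_right_comm, hEu, zero_mul]
  have hwinv : algebraMap A B ↑w⁻¹ * algebraMap A B (χ₁.eval α) = 1 := by
    rw [← map_mul, ← hw, w.inv_mul, map_one]
  set e := algebraMap A B ↑w⁻¹ * E with he_def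
  have he : IsIdempotentElem e := by
    calc e * e = algebraMap A B ↑w⁻¹ * algebraMap A B ↑w⁻¹ * (E * E) := by rw [he_def]; ring
      _ = algebraMap A B ↑w⁻¹ * algebraMap A B ↑w⁻¹ * (algebraMap A B (χ₁.eval α) * E) := by
          rw [hE, hEq χ₁]
      _ = algebraMap A B ↑w⁻¹ * (algebraMap A B ↑w⁻¹ * algebraMap A B (χ₁.eval α)) * E := by ring
      _ = e := by rw [hwinv, he_def]; ring
  have hwm : Ideal.Quotient.mk I ↑w⁻¹ = 1 := by
    have := congrArg (Ideal.Quotient.mk I) w.inv_mul
    rw [map_mul, map_one, hw, hc1, mul_one] at this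
    exact this
  have hσ : σ e = 1 := by
    have hσE : σ E = 1 := by
      rw [hE, ← aeval_algHom_apply, hd1, aeval_def, Ideal.Quotient.algebraMap_eq,
        ← eval_map, hχ₁]
      simp
    rw [he_def, map_mul, AlgHom.commutes, hσE, Ideal.Quotient.algebraMap_eq, hwm, mul_one]
  have hsub : e - d ∈ IB := by
    rw [← Ideal.Quotient.eq_zero_iff_mem, map_sub, sub_eq_zero, he_def, map_mul]
    have h1 : Ideal.Quotient.mk IB (algebraMap A B ↑w⁻¹) = 1 := by
      rw [← map_one (Ideal.Quotient.mk IB), Ideal.Quotient.mk_eq_mk_iff_sub_mem,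
        ← map_one (algebraMap A B), ← map_sub]
      exact Ideal.mem_map_of_mem _
        (Ideal.Quotient.eq.mp (by rw [hwm, map_one]))
    have hidem : IsIdempotentElem (Ideal.Quotient.mk IB d) := by
      show _ * _ = _
      rw [← map_mul, Ideal.Quotient.mk_eq_mk_iff_sub_mem]
      have : d * d - d = -(d * (1 - d)) := by ring
      rw [this]; exact IB.neg_mem hdd
    have hres : ∀ q : A[X], q.map (Ideal.Quotient.mk I) = 0 →
        Ideal.Quotient.mk IB (aeval d q) = 0 := by
      intro q hq
      rw [Ideal.Quotient.eq_zero_iff_mem, aeval_eq_sum_range]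
      refine Submodule.sum_mem IB fun i _ ↦ ?_
      rw [Algebra.smul_def]
      refine Ideal.mul_mem_right _ _ (Ideal.mem_map_of_mem _ ?_)
      rw [← Ideal.Quotient.eq_zero_iff_mem, ← Polynomial.coeff_map, hq, coeff_zero]
    have := hres (χ₁ - X ^ (N + 1)) (by simp [hχ₁])
    rw [map_sub, map_sub, sub_eq_zero, map_pow, aeval_X, map_pow,
      hidem.pow_succ_eq N, ← hE] at this
    rw [h1, one_mul, this]
  refine ⟨e, he, hσ, hsub, mul_mem_span_of_isIdempotentElem hI he fun x ↦ ?_⟩
  obtain ⟨a, ha⟩ := hdiag x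
  refine ⟨a, ?_⟩
  have : e * x - a • e = (e - d) * (x - algebraMap A B a) + (d * x - a • d) := by
    simp only [Algebra.smul_def]; ring
  rw [this]
  exact IB.add_mem (IB.mul_mem_right _ hsub) ha

end GrothLib.Hensel
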