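import Mathlib.RingTheory.Smooth.Basic
import Mathlib.LinearAlgebra.Matrix.NonsingularInverse
import Mathlib.RingTheory.Ideal.Cotangent

/-!
# A smoothness criterion for the zero locus of a section of a projective module
-/

namespace GrothLib.Hensel

open KaehlerDifferential TensorProduct

universe u

variable {R S : Type u} [CommRing R] [CommRing S] [Algebra R S]

/-- `S ⧸ (f)` is formally smooth over `R` if `f` is fixed by an idempotent matrix `E` and some linear
form `L` on the differentials makes `E * M * E + (1 - E)` invertible, `M` being the matrix of the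
`L (D (f i))`. -/
theorem formallySmooth_quotient_of_matrix [Algebra.FormallySmooth R S] {ι : Type*} [Fintype ι]
    [DecidableEq ι] (f : ι → S) (E : Matrix ι ι S) (hE : IsIdempotentElem E) (hf : E.mulVec f = f)
    (L : Ω[S⁄R] →ₗ[S] (ι → S))
    (hT : IsUnit (E * Matrix.of (fun i ↦ L (D R S (f i))) * E + (1 - E)).det) :
    Algebra.FormallySmooth R (S ⧸ Ideal.span (Set.range f)) := by
  set J := Ideal.span (Set.range f) with hJ
  set M := Matrix.of (fun i ↦ L (D R S (f i)))
  set T := E * M * E + (1 - E)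
  let K := (RingHom.ker (algebraMap S (S ⧸ J))).Cotangent
  have hJk : RingHom.ker (algebraMap S (S ⧸ J)) = J := Ideal.mk_ker
  have hfk : ∀ i, f i ∈ RingHom.ker (algebraMap S (S ⧸ J)) := fun i ↦ by
    rw [hJk]; exact Ideal.subset_span ⟨i, rfl⟩
  let c : ι → K := fun k ↦ Ideal.toCotangent _ ⟨f k, hfk k⟩
  let Φ : Ω[S⁄R] →ₗ[S] K :=
    (Fintype.linearCombination S c) ∘ₗ (Matrix.vecMulLinear (E * T⁻¹)) ∘ₗ L
  have hker : ∀ x ∈ J, ∀ m : K, x • m = 0 := by
    intro x hx m
    obtain ⟨m, rfl⟩ := Ideal.toCotangent_surjective _ m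
    rw [← map_smul, Ideal.toCotangent_eq_zero]
    show x * (m : S) ∈ _
    rw [pow_two]
    exact Ideal.mul_mem_mul (hJk.ge hx) m.2
  have hET : E * T = E * M * E := by
    rw [mul_add, mul_sub, mul_one, hE.eq, sub_self, add_zero, ← mul_assoc, ← mul_assoc, hE.eq]
  have key : E * M * E * T⁻¹ = E := by
    rw [← hET, mul_assoc, Matrix.mul_nonsing_inv _ hT, mul_one]
  have hΦ : ∀ i, Φ (D R S (f i)) = ∑ k, (M * (E * T⁻¹)) i k • c k := fun i ↦ by
    simp only [Φ, LinearMap.comp_apply, Fintype.linearCombination_apply, Matrix.vecMulLinear_apply]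
    rfl
  have hgen : ∀ i, Φ (D R S (f i)) = c i := by
    intro i
    have h1 : Φ (D R S (f i)) = ∑ j, E i j • Φ (D R S (f j)) := by
      conv_lhs => rw [← congrFun hf i]
      simp only [Matrix.mulVec, dotProduct, map_sum, Derivation.leibniz, map_add, map_smul]
      refine Finset.sum_congr rfl fun j _ ↦ ?_
      rw [hker (f j) (Ideal.subset_span ⟨j, rfl⟩), add_zero]
    rw [h1]
    simp only [hΦ, Finset.smul_sum, smul_smul]
    rw [Finset.sum_comm]
    have h2 : ∀ k, ∑ j, (E i j * (M * (E * T⁻¹)) j k) • c k = E i k • c k := fun k ↦ by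
      rw [← Finset.sum_smul, ← Matrix.mul_apply, ← mul_assoc, ← mul_assoc, key]
    simp only [h2]
    simp only [c, ← map_smul, ← map_sum]
    refine congrArg _ (Subtype.ext ?_)
    simp only [AddSubmonoidClass.coe_finset_sum, SetLike.val_smul, smul_eq_mul]
    exact congrFun hf i
  have hall : ∀ x (hx : x ∈ RingHom.ker (algebraMap S (S ⧸ J))),
      Φ (D R S x) = Ideal.toCotangent _ ⟨x, hx⟩ := by
    intro x hx
    have hx' : x ∈ J := hJk.le hx
    induction hx' using Submodule.span_induction with
    | mem y hy =>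
      obtain ⟨i, rfl⟩ := hy
      exact hgen i
    | zero =>
      rw [map_zero (D R S), map_zero Φ, eq_comm]
      exact (Ideal.toCotangent _).map_zero
    | add y z hy hz ihy ihz =>
      rw [map_add, map_add, ihy (hJk.ge hy), ihz (hJk.ge hz), ← map_add]
      rfl
    | smul a y hy ih =>
      show Φ (D R S (a * y)) = _
      rw [Derivation.leibniz, map_add, map_smul, map_smul, hker y hy, add_zero,
        ih (hJk.ge hy), ← map_smul]
      rfl
  let B : (S ⧸ J) →ₗ[S] Ω[S⁄R] →ₗ[S] K :=
    Submodule.liftQ J (LinearMap.toSpanSingleton S _ Φ) fun x hx ↦ LinearMap.ext fun ω ↦ hker x hx _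
  refine (Algebra.FormallySmooth.iff_split_injection (P := S)
    Ideal.Quotient.mk_surjective).mpr ⟨TensorProduct.lift B, LinearMap.ext fun m ↦ ?_⟩
  obtain ⟨⟨x, hx⟩, rfl⟩ := Ideal.toCotangent_surjective _ m
  rw [LinearMap.comp_apply, KaehlerDifferential.kerCotangentToTensor_toCotangent, LinearMap.id_apply,
    TensorProduct.lift.tmul]
  show B (Submodule.Quotient.mk (1 : S)) (D R S x) = _
  simp only [B, Submodule.liftQ_apply, LinearMap.toSpanSingleton_apply, one_smul]
  exact hall x hx

end GrothLib.Hensel
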