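import Groth.Agent.Lib.Hensel.StrictTensor
import Groth.Agent.Lib.Hensel.IndQF

/-! # Strict henselizations at primes of ind-quasi-finite algebras -/

set_option autoImplicit false
set_option backward.isDefEq.respectTransparency false

universe u

open IsLocalRing TensorProduct

namespace GrothLib.Hensel

theorem isLocalHom_algebraMap_localization {A B : Type u} [CommRing A] [CommRing B] [Algebra A B]
    (p : Ideal A) [p.IsPrime] (q : Ideal B) [q.IsPrime] [q.LiesOver p]
    [Algebra (Localization.AtPrime p) (Localization.AtPrime q)]
    [IsScalarTower A (Localization.AtPrime p) (Localization.AtPrime q)] :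
    IsLocalHom (algebraMap (Localization.AtPrime p) (Localization.AtPrime q)) := by
  rw [← Localization.localRingHom_unique p q (algebraMap A B) Ideal.LiesOver.over
    (j := algebraMap (Localization.AtPrime p) (Localization.AtPrime q)) fun x ↦ by
      rw [← IsScalarTower.algebraMap_apply, ← IsScalarTower.algebraMap_apply]]
  infer_instance

theorem isIntegral_and_finite_at_primes (A B : Type u) [CommRing A] [CommRing B] [Algebra A B]
    (p : Ideal A) [p.IsPrime] (q : Ideal B) [q.IsPrime]
    [Algebra (Localization.AtPrime p) (Localization.AtPrime q)]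
    [IsScalarTower A (Localization.AtPrime p) (Localization.AtPrime q)]
    (Ash : Type u) [CommRing Ash] [IsLocalRing Ash] [Algebra (Localization.AtPrime p) Ash]
    [IsLocalHom (algebraMap (Localization.AtPrime p) Ash)]
    [_root_.Hensel.IsStrictHenselization (Localization.AtPrime p) Ash] [Algebra A Ash]
    [IsScalarTower A (Localization.AtPrime p) Ash]
    (Bsh : Type u) [CommRing Bsh] [IsLocalRing Bsh] [Algebra (Localization.AtPrime q) Bsh]
    [IsLocalHom (algebraMap (Localization.AtPrime q) Bsh)]
    [_root_.Hensel.IsStrictHenselization (Localization.AtPrime q) Bsh] [Algebra B Bsh]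
    [IsScalarTower B (Localization.AtPrime q) Bsh] [Algebra A Bsh] [IsScalarTower A B Bsh]
    [Algebra Ash Bsh] [IsScalarTower A Ash Bsh] [IsLocalHom (algebraMap Ash Bsh)]
    (H : ∀ s : Finset (Localization.AtPrime q),
      ∃ B₀ : Subalgebra (Localization.AtPrime p) (Localization.AtPrime q),
        (↑s : Set (Localization.AtPrime q)) ⊆ ↑B₀ ∧ Algebra.FiniteType (Localization.AtPrime p) ↥B₀ ∧
          Algebra.QuasiFinite (Localization.AtPrime p) ↥B₀) :
    Algebra.IsIntegral Ash Bsh ∧
      (Algebra.EssFiniteType (Localization.AtPrime p) (Localization.AtPrime q) → Module.Finite Ash Bsh) ∧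
      IsPurelyInseparable (ResidueField Ash) (ResidueField Bsh) := by
  letI : Algebra (Localization.AtPrime p) Bsh := ((algebraMap (Localization.AtPrime q) Bsh).comp
    (algebraMap (Localization.AtPrime p) (Localization.AtPrime q))).toAlgebra
  haveI : IsScalarTower (Localization.AtPrime p) (Localization.AtPrime q) Bsh :=
    .of_algebraMap_eq fun _ ↦ rfl
  haveI : IsScalarTower (Localization.AtPrime p) Ash Bsh := .of_algebraMap_eq' <|
    IsLocalization.ringHom_ext p.primeCompl (RingHom.ext fun a ↦ by
      show algebraMap (Localization.AtPrime q) Bsh (algebraMap _ (Localization.AtPrime q)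
        (algebraMap A (Localization.AtPrime p) a)) =
          algebraMap Ash Bsh (algebraMap (Localization.AtPrime p) Ash (algebraMap A _ a))
      rw [← IsScalarTower.algebraMap_apply A (Localization.AtPrime p) (Localization.AtPrime q),
        ← IsScalarTower.algebraMap_apply A (Localization.AtPrime p) Ash,
        ← IsScalarTower.algebraMap_apply A Ash Bsh,
        IsScalarTower.algebraMap_apply A B (Localization.AtPrime q),
        ← IsScalarTower.algebraMap_apply B (Localization.AtPrime q) Bsh,
        ← IsScalarTower.algebraMap_apply A B Bsh])
  exact isIntegral_and_finite_of_isStrictHenselization H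

end GrothLib.Hensel
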