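import Groth.Agent.Lib.Hensel.TensorIntegral
import Mathlib.FieldTheory.IsAlgClosed.AlgebraicClosure
import Mathlib.RingTheory.IntegralClosure.IsIntegralClosure.Basic

/-! # Strict henselizations of tensor products -/

set_option autoImplicit false
set_option backward.isDefEq.respectTransparency false

universe u

open IsLocalRing TensorProduct

namespace GrothLib.Hensel

attribute [local instance] Algebra.TensorProduct.rightAlgebra

section

variable {A B C : Type u} [CommRing A] [CommRing B] [CommRing C]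
  [IsLocalRing A] [IsLocalRing B] [IsLocalRing C] [Algebra A B] [Algebra A C]
  [IsLocalHom (algebraMap A B)] [IsLocalHom (algebraMap A C)]

theorem isIntegral_right_tensor [Algebra.IsIntegral A B] : Algebra.IsIntegral C (B ⊗[A] C) :=
  let e : (C ⊗[A] B) ≃ₐ[C] B ⊗[A] C := { Algebra.TensorProduct.comm A C B with
    commutes' := fun _ => rfl }
  Algebra.IsIntegral.of_surjective e.toAlgHom e.surjective

/-- Over local rings, an integral algebra with purely inseparable residue extension stays local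
after base change. -/
theorem isLocalRing_tensor [Algebra.IsIntegral A B] [IsPurelyInseparable (ResidueField A) (ResidueField B)]
    (P₀ : Ideal (B ⊗[A] C)) [P₀.IsMaximal] : IsLocalRing (B ⊗[A] C) := by
  haveI : Algebra.IsIntegral C (B ⊗[A] C) := isIntegral_right_tensor
  let Ω := AlgebraicClosure (ResidueField C)
  have key : ∀ P : Ideal (B ⊗[A] C), P.IsMaximal → ∃ φ : B ⊗[A] C →+* Ω, RingHom.ker φ = P ∧
      ∀ c, φ (1 ⊗ₜ c) = algebraMap (ResidueField C) Ω (residue C c) := fun P hP ↦ by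
    haveI := hP
    letI := Ideal.Quotient.field P
    have hc : ∀ c ∈ maximalIdeal C, algebraMap C ((B ⊗[A] C) ⧸ P) c = 0 := fun c hc ↦ by
      rw [IsScalarTower.algebraMap_apply C (B ⊗[A] C) (_ ⧸ P)]
      refine Ideal.Quotient.eq_zero_iff_mem.mpr ?_
      have : P.comap (algebraMap C (B ⊗[A] C)) = maximalIdeal C :=
        eq_maximalIdeal (Ideal.isMaximal_comap_of_isIntegral_of_isMaximal (R := C) P)
      exact this.ge hc
    letI : Algebra (ResidueField C) ((B ⊗[A] C) ⧸ P) := (Ideal.Quotient.lift _ _ hc).toAlgebra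
    haveI : IsScalarTower C (ResidueField C) ((B ⊗[A] C) ⧸ P) := .of_algebraMap_eq fun _ ↦ rfl
    haveI : Algebra.IsIntegral (ResidueField C) ((B ⊗[A] C) ⧸ P) := Algebra.IsIntegral.tower_top C
    let σ : ((B ⊗[A] C) ⧸ P) →ₐ[ResidueField C] Ω := IsAlgClosed.lift
    refine ⟨σ.toRingHom.comp (Ideal.Quotient.mk P), ?_, fun c ↦ σ.commutes (residue C c)⟩
    rw [RingHom.ker_comp_of_injective _ σ.toRingHom.injective, Ideal.mk_ker]
  obtain ⟨φ₀, hφ₀, hφ₀c⟩ := key P₀ inferInstance
  refine IsLocalRing.of_unique_max_ideal ⟨P₀, inferInstance, fun P hP ↦ ?_⟩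
  obtain ⟨φ, hφ, hφc⟩ := key P hP
  let iB : B →+* B ⊗[A] C := Algebra.TensorProduct.includeLeftRingHom
  have hB : ∀ ψ : B ⊗[A] C →+* Ω, (∀ c, ψ (1 ⊗ₜ c) = algebraMap (ResidueField C) Ω (residue C c)) →
      ∃ χ : ResidueField B →+* Ω, (∀ b, χ (residue B b) = ψ (iB b)) ∧
        ∀ a, χ (algebraMap (ResidueField A) (ResidueField B) (residue A a)) =
          algebraMap (ResidueField C) Ω (residue C (algebraMap A C a)) := fun ψ hψ ↦ by
    have ha : ∀ a, ψ (iB (algebraMap A B a)) =
        algebraMap (ResidueField C) Ω (residue C (algebraMap A C a)) := fun a ↦ by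
      rw [← hψ]
      exact congrArg ψ (Algebra.TensorProduct.tmul_one_eq_one_tmul a)
    have hker : ∀ b ∈ maximalIdeal B, ψ.comp iB b = 0 := by
      have hm : (RingHom.ker (ψ.comp iB)).IsMaximal := by
        haveI := RingHom.ker_isPrime (ψ.comp iB)
        refine Ideal.isMaximal_of_isIntegral_of_isMaximal_comap (R := A) _ ?_
        convert maximalIdeal.isMaximal A
        ext a
        show ψ (iB (algebraMap A B a)) = 0 ↔ _
        rw [ha, map_eq_zero, residue_eq_zero_iff]
        exact not_congr (isUnit_map_iff (algebraMap A C) a)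
      rw [← eq_maximalIdeal hm]
      exact fun b hb ↦ hb
    exact ⟨Ideal.Quotient.lift _ _ hker, fun _ ↦ rfl, fun a ↦ ha a⟩
  obtain ⟨χ, hχ, hχa⟩ := hB φ hφc
  obtain ⟨χ₀, hχ₀, hχ₀a⟩ := hB φ₀ hφ₀c
  have heq : χ = χ₀ := IsPurelyInseparable.injective_comp_algebraMap (ResidueField A) (ResidueField B) Ω
    (RingHom.ext fun z ↦ by
      obtain ⟨a, rfl⟩ := residue_surjective z
      exact (hχa a).trans (hχ₀a a).symm)
  rw [← hφ, ← hφ₀]
  congr 1
  refine RingHom.ext fun z ↦ ?_
  induction z using TensorProduct.induction_on with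
  | zero => simp
  | add a b ha hb => simp only [map_add, ha, hb]
  | tmul b c =>
    rw [show b ⊗ₜ[A] c = iB b * (1 ⊗ₜ[A] c) by simp [iB], map_mul, map_mul, hφc, hφ₀c, ← hχ, ← hχ₀, heq]

end

/-- The strict henselization at a prime of a tensor product. -/
theorem strictHenselization_tensor_bijective (A B C : Type u) [CommRing A] [CommRing B]
    [CommRing C] [Algebra A B] [Algebra A C]
    (pB : Ideal B) [pB.IsPrime] (pD : Ideal (B ⊗[A] C)) [pD.IsPrime]
    (Ash : Type u) [CommRing Ash] [IsLocalRing Ash] [Algebra A Ash]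
    (Bsh : Type u) [CommRing Bsh] [IsLocalRing Bsh] [Algebra (Localization.AtPrime pB) Bsh]
    [IsLocalHom (algebraMap (Localization.AtPrime pB) Bsh)]
    [hBsh : _root_.Hensel.IsStrictHenselization (Localization.AtPrime pB) Bsh] [Algebra B Bsh]
    [IsScalarTower B (Localization.AtPrime pB) Bsh] [Algebra A Bsh] [IsScalarTower A B Bsh]
    [Algebra Ash Bsh] [IsScalarTower A Ash Bsh] [IsLocalHom (algebraMap Ash Bsh)]
    (pC : Ideal C) [pC.IsPrime]
    (Csh : Type u) [CommRing Csh] [IsLocalRing Csh] [Algebra (Localization.AtPrime pC) Csh]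
    [IsLocalHom (algebraMap (Localization.AtPrime pC) Csh)]
    [hCsh : _root_.Hensel.IsStrictHenselization (Localization.AtPrime pC) Csh] [Algebra C Csh]
    [IsScalarTower C (Localization.AtPrime pC) Csh] [Algebra A Csh] [IsScalarTower A C Csh]
    [Algebra Ash Csh] [IsScalarTower A Ash Csh] [IsLocalHom (algebraMap Ash Csh)]
    (Dsh : Type u) [CommRing Dsh] [IsLocalRing Dsh] [Algebra (Localization.AtPrime pD) Dsh]
    [IsLocalHom (algebraMap (Localization.AtPrime pD) Dsh)]
    [hDsh : _root_.Hensel.IsStrictHenselization (Localization.AtPrime pD) Dsh] [Algebra (B ⊗[A] C) Dsh]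
    [IsScalarTower (B ⊗[A] C) (Localization.AtPrime pD) Dsh]
    [Algebra Bsh Dsh] [IsLocalHom (algebraMap Bsh Dsh)] [Algebra B Dsh] [IsScalarTower B Bsh Dsh]
    [IsScalarTower B (B ⊗[A] C) Dsh]
    [Algebra Csh Dsh] [IsLocalHom (algebraMap Csh Dsh)]
    (hC : ∀ c : C, algebraMap Csh Dsh (algebraMap C Csh c) = algebraMap (B ⊗[A] C) Dsh (1 ⊗ₜ[A] c))
    [Algebra Ash Dsh] [IsScalarTower Ash Bsh Dsh] [IsScalarTower Ash Csh Dsh]
    [Algebra.IsIntegral Ash Bsh] [IsPurelyInseparable (ResidueField Ash) (ResidueField Bsh)] :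
    Function.Bijective (Algebra.TensorProduct.lift (IsScalarTower.toAlgHom Ash Bsh Dsh)
      (IsScalarTower.toAlgHom Ash Csh Dsh) (fun _ _ => Commute.all _ _)) := by
  set Φ := Algebra.TensorProduct.lift (IsScalarTower.toAlgHom Ash Bsh Dsh)
    (IsScalarTower.toAlgHom Ash Csh Dsh) (fun _ _ => Commute.all _ _)
  set E := Bsh ⊗[Ash] Csh
  haveI : Algebra.IsIntegral Csh E := isIntegral_right_tensor
  let iB : Bsh →+* E := Algebra.TensorProduct.includeLeftRingHom
  let iC : Csh →+* E := algebraMap Csh E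
  have hiB : ∀ x, Φ (iB x) = algebraMap Bsh Dsh x := fun x ↦ by
    show Φ (x ⊗ₜ 1) = _
    simp [Φ]
  have hiC : ∀ x, Φ (iC x) = algebraMap Csh Dsh x := fun x ↦ by
    show Φ (1 ⊗ₜ x) = _
    simp [Φ]
  let P₀ : Ideal E := (maximalIdeal Dsh).comap Φ.toRingHom
  haveI : P₀.IsMaximal := by
    refine Ideal.isMaximal_of_isIntegral_of_isMaximal_comap (R := Csh) _ ?_
    convert maximalIdeal.isMaximal Csh
    ext x
    show Φ (iC x) ∈ maximalIdeal Dsh ↔ _
    rw [hiC]
    exact not_congr (isUnit_map_iff (algebraMap Csh Dsh) x)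
  haveI : IsLocalRing E := isLocalRing_tensor P₀
  haveI : IsLocalHom Φ.toRingHom :=
    ((local_hom_TFAE Φ.toRingHom).out 4 0 rfl rfl).mp (eq_maximalIdeal (inferInstance : P₀.IsMaximal))
  haveI : IsLocalHom iB := ⟨fun x hx ↦ isUnit_of_map_unit (algebraMap Bsh Dsh) x (hiB x ▸ hx.map Φ)⟩
  haveI : IsLocalHom (algebraMap Csh E) :=
    ⟨fun x hx ↦ isUnit_of_map_unit (algebraMap Csh Dsh) x (hiC x ▸ hx.map Φ)⟩
  haveI : HenselianLocalRing Csh := hCsh.henselian
  haveI hE : HenselianLocalRing E := henselianLocalRing_of_isIntegral_isLocalHom (R := Csh)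
  haveI : IsSepClosed (ResidueField Csh) := hCsh.isSepClosure.sep_closed
  haveI : Algebra.IsIntegral Csh (ResidueField E) := Algebra.IsIntegral.of_surjective
    (IsScalarTower.toAlgHom Csh E (ResidueField E)) residue_surjective
  haveI : Algebra.IsIntegral (ResidueField Csh) (ResidueField E) := Algebra.IsIntegral.tower_top Csh
  haveI : IsSepClosed (ResidueField E) := Algebra.IsAlgebraic.isSepClosed (F := ResidueField Csh)
  let π : B ⊗[A] C →ₐ[A] E := Algebra.TensorProduct.lift
    ({ toRingHom := iB.comp (algebraMap B Bsh), commutes' := fun a ↦ by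
        show iB (algebraMap B Bsh (algebraMap A B a)) = iB (algebraMap A Bsh a)
        rw [← IsScalarTower.algebraMap_apply A B Bsh] } : B →ₐ[A] E)
    ({ toRingHom := iC.comp (algebraMap C Csh), commutes' := fun a ↦ by
        show iC (algebraMap C Csh (algebraMap A C a)) = iB (algebraMap A Bsh a)
        rw [← IsScalarTower.algebraMap_apply A C Csh, IsScalarTower.algebraMap_apply A Ash Csh,
          IsScalarTower.algebraMap_apply A Ash Bsh]
        exact (Algebra.TensorProduct.tmul_one_eq_one_tmul _).symm } : C →ₐ[A] E)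
    fun _ _ ↦ Commute.all _ _
  have hπ : ∀ b c, π (b ⊗ₜ c) = iB (algebraMap B Bsh b) * iC (algebraMap C Csh c) := fun _ _ ↦ rfl
  have hΦπ : ∀ z, Φ (π z) = algebraMap (B ⊗[A] C) Dsh z := fun z ↦ by
    induction z using TensorProduct.induction_on with
    | zero => simp
    | add a b ha hb => simp only [map_add, ha, hb]
    | tmul b c =>
      rw [hπ, map_mul, hiB, hiC, hC, ← IsScalarTower.algebraMap_apply,
        IsScalarTower.algebraMap_apply B (B ⊗[A] C) Dsh, ← map_mul]
      simp
  have hu : ∀ d : pD.primeCompl, IsUnit (π.toRingHom d) := fun d ↦ isUnit_of_map_unit Φ.toRingHom _ (by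
    show IsUnit (Φ (π d))
    rw [hΦπ, IsScalarTower.algebraMap_apply (B ⊗[A] C) (Localization.AtPrime pD) Dsh]
    exact (IsLocalization.map_units (Localization.AtPrime pD) d).map _)
  let f : Localization.AtPrime pD →+* E := IsLocalization.lift hu
  have hf : ∀ z, f (algebraMap (B ⊗[A] C) _ z) = π z := fun z ↦ IsLocalization.lift_eq hu z
  have hΦf : ∀ x, Φ (f x) = algebraMap (Localization.AtPrime pD) Dsh x := RingHom.congr_fun
    (IsLocalization.ringHom_ext pD.primeCompl (RingHom.ext fun z ↦ by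
      show Φ (f (algebraMap _ _ z)) = algebraMap _ Dsh (algebraMap _ _ z)
      rw [hf, hΦπ, ← IsScalarTower.algebraMap_apply]) :
      Φ.toRingHom.comp f = algebraMap (Localization.AtPrime pD) Dsh)
  haveI : IsLocalHom f :=
    ⟨fun x hx ↦ isUnit_of_map_unit (algebraMap _ Dsh) x (hΦf x ▸ hx.map Φ)⟩
  let ψ : ResidueField E →+* ResidueField Dsh := ResidueField.map Φ.toRingHom
  have hψ : Function.Bijective ψ := by
    refine ⟨ψ.injective, ?_⟩
    letI := ψ.toAlgebra
    letI : Algebra (ResidueField (Localization.AtPrime pD)) (ResidueField E) :=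
      (ResidueField.map f).toAlgebra
    haveI : IsScalarTower (ResidueField (Localization.AtPrime pD)) (ResidueField E)
        (ResidueField Dsh) := .of_algebraMap_eq fun x ↦ by
      obtain ⟨y, rfl⟩ := residue_surjective x
      exact congrArg (residue Dsh) (hΦf y).symm
    haveI := hDsh.isSepClosure
    haveI : Algebra.IsSeparable (ResidueField (Localization.AtPrime pD)) (ResidueField Dsh) :=
      IsSepClosure.separable
    haveI : Algebra.IsSeparable (ResidueField E) (ResidueField Dsh) :=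
      Algebra.isSeparable_tower_top_of_isSeparable (ResidueField (Localization.AtPrime pD)) _ _
    exact IsSepClosed.algebraMap_surjective _ _
  let eψ := RingEquiv.ofBijective ψ hψ
  let τ : ResidueField Dsh →+* ResidueField E := eψ.symm.toRingHom
  have hτψ : ∀ x, τ (ψ x) = x := eψ.symm_apply_apply
  obtain ⟨g, ⟨hgf, hgτ⟩, -⟩ := hDsh.universal E f τ (by
    refine Ideal.Quotient.ringHom_ext (RingHom.ext fun y ↦ ?_)
    show τ (residue Dsh (algebraMap _ Dsh y)) = residue E (f y)
    rw [← hΦf]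
    exact hτψ (residue E (f y)))
  haveI := hDsh.henselian
  haveI : IsSepClosed (ResidueField Dsh) := hDsh.isSepClosure.sep_closed
  have hΦg : ∀ x, Φ (g x) = x := RingHom.congr_fun
    ((hDsh.universal Dsh (algebraMap _ Dsh) (RingHom.id _) (RingHom.id_comp _)).unique
      (y₁ := Φ.toRingHom.comp g) (y₂ := RingHom.id Dsh)
      ⟨RingHom.ext fun y ↦ (congrArg Φ (RingHom.congr_fun hgf y)).trans (hΦf y),
        fun x ↦ (show residue Dsh (Φ (g x)) = residue Dsh x from
          (congrArg ψ (hgτ x)).trans (eψ.apply_symm_apply _))⟩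
      ⟨rfl, fun _ ↦ rfl⟩)
  have hgπ : ∀ z, g (Φ (π z)) = π z := fun z ↦ by
    rw [hΦπ, IsScalarTower.algebraMap_apply (B ⊗[A] C) (Localization.AtPrime pD) Dsh]
    exact (RingHom.congr_fun hgf _).trans (hf z)
  have hres : ∀ y, residue E (g (Φ y)) = residue E y := fun y ↦
    (hgτ (Φ y)).trans (hτψ (residue E y))
  have hgB : (g.comp Φ.toRingHom).comp iB = iB := by
    refine (hBsh.universal E (iB.comp (algebraMap _ Bsh)) (ResidueField.map iB)
      (Ideal.Quotient.ringHom_ext (RingHom.ext fun _ ↦ rfl))).unique ⟨?_, fun x ↦ hres (iB x)⟩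
      ⟨rfl, fun _ ↦ rfl⟩
    refine IsLocalization.ringHom_ext pB.primeCompl (RingHom.ext fun b ↦ ?_)
    show g (Φ (iB (algebraMap _ Bsh (algebraMap B _ b)))) = iB (algebraMap _ Bsh (algebraMap B _ b))
    rw [← IsScalarTower.algebraMap_apply B (Localization.AtPrime pB) Bsh]
    simpa [hπ] using hgπ (b ⊗ₜ 1)
  have hgC : (g.comp Φ.toRingHom).comp iC = iC := by
    refine (hCsh.universal E (iC.comp (algebraMap _ Csh)) (ResidueField.map (algebraMap Csh E))
      (Ideal.Quotient.ringHom_ext (RingHom.ext fun _ ↦ rfl))).unique ⟨?_, fun x ↦ hres (iC x)⟩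
      ⟨rfl, fun _ ↦ rfl⟩
    refine IsLocalization.ringHom_ext pC.primeCompl (RingHom.ext fun c ↦ ?_)
    show g (Φ (iC (algebraMap _ Csh (algebraMap C _ c)))) = iC (algebraMap _ Csh (algebraMap C _ c))
    rw [← IsScalarTower.algebraMap_apply C (Localization.AtPrime pC) Csh]
    simpa [hπ] using hgπ (1 ⊗ₜ c)
  refine ⟨Function.LeftInverse.injective (g := g) fun z ↦ ?_, fun y ↦ ⟨g y, hΦg y⟩⟩
  induction z using TensorProduct.induction_on with
  | zero => simp
  | add a b ha hb => simp only [map_add, ha, hb]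
  | tmul b c =>
    rw [show b ⊗ₜ[Ash] c = iB b * iC c from (by
      show _ = (b ⊗ₜ[Ash] (1 : Csh)) * ((1 : Bsh) ⊗ₜ[Ash] c)
      simp), map_mul, map_mul]
    exact congrArg₂ (· * ·) (RingHom.congr_fun hgB b) (RingHom.congr_fun hgC c)

end GrothLib.Hensel
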