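import Groth.Agent.Lib.Hensel.Henselization
import Mathlib.FieldTheory.IsSepClosed

/-! # Henselizations of a local ring generated by a henselization and a local ring -/

set_option autoImplicit false
set_option backward.isDefEq.respectTransparency false

universe u

open IsLocalRing

namespace GrothLib.Hensel

variable {A B D Ah Bh : Type u} [CommRing A] [IsLocalRing A] [CommRing B] [IsLocalRing B]
  [CommRing D] [IsLocalRing D] [CommRing Ah] [IsLocalRing Ah] [CommRing Bh] [IsLocalRing Bh]
  [Algebra A Ah] [IsLocalHom (algebraMap A Ah)] [Algebra A B]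
  [Algebra B Bh] [IsLocalHom (algebraMap B Bh)]
  [Algebra B D] [IsLocalHom (algebraMap B D)] [Algebra D Bh] [IsLocalHom (algebraMap D Bh)]
  [IsScalarTower B D Bh]
  (j : Ah →+* D) [IsLocalHom j]
  (hj : ∀ a : A, j (algebraMap A Ah a) = algebraMap B D (algebraMap A B a))
  (hgen : ∀ (T : Type u) [CommRing T] (g₁ g₂ : D →+* T), g₁.comp j = g₂.comp j →
    g₁.comp (algebraMap B D) = g₂.comp (algebraMap B D) → g₁ = g₂)

include hj hgen in
theorem isHenselization_of_generated [hA : _root_.Hensel.IsHenselization A Ah]
    [hB : _root_.Hensel.IsHenselization B Bh] : _root_.Hensel.IsHenselization D Bh := by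
  refine ⟨hB.henselian, fun T _ _ f hf ↦ ?_⟩
  haveI := hf
  obtain ⟨g, hg, huniq⟩ := hB.universal T (f.comp (algebraMap B D)) inferInstance
  have hB' : (g.comp (algebraMap D Bh)).comp (algebraMap B D) = f.comp (algebraMap B D) := by
    rw [RingHom.comp_assoc, ← IsScalarTower.algebraMap_eq]; exact hg
  have hA' : (g.comp (algebraMap D Bh)).comp j = f.comp j := by
    haveI : IsLocalHom ((f.comp j).comp (algebraMap A Ah)) := inferInstance
    refine (hA.universal T ((f.comp j).comp (algebraMap A Ah)) inferInstance).unique ?_ rfl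
    ext a
    show g (algebraMap D Bh (j (algebraMap A Ah a))) = f (j (algebraMap A Ah a))
    rw [hj]
    exact RingHom.congr_fun hB' _
  refine ⟨g, hgen T _ _ hA' hB', fun g' hg' ↦ huniq g' ?_⟩
  show g'.comp (algebraMap B Bh) = _
  rw [IsScalarTower.algebraMap_eq B D Bh, ← RingHom.comp_assoc, hg']

include hj hgen in
theorem isStrictHenselization_of_generated [hA : _root_.Hensel.IsStrictHenselization A Ah]
    [hB : _root_.Hensel.IsStrictHenselization B Bh] :
    _root_.Hensel.IsStrictHenselization D Bh := by
  refine ⟨hB.henselian, ?_, fun T _ _ f hf τ hτ ↦ ?_⟩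
  · haveI := hB.isSepClosure
    haveI : IsSepClosed (ResidueField Bh) := IsSepClosure.sep_closed (ResidueField B)
    haveI : Algebra.IsSeparable (ResidueField B) (ResidueField Bh) := IsSepClosure.separable
    haveI : IsScalarTower (ResidueField B) (ResidueField D) (ResidueField Bh) :=
      .of_algebraMap_eq fun z ↦ by
        obtain ⟨b, rfl⟩ := residue_surjective z
        show residue Bh (algebraMap B Bh b) = residue Bh (algebraMap D Bh (algebraMap B D b))
        rw [← IsScalarTower.algebraMap_apply]
    exact ⟨inferInstance, Algebra.isSeparable_tower_top_of_isSeparable (ResidueField B) _ _⟩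
  haveI := hf
  have hτB : τ.comp (ResidueField.map (algebraMap B Bh)) =
      ResidueField.map (f.comp (algebraMap B D)) := by
    refine Ideal.Quotient.ringHom_ext (RingHom.ext fun b ↦ ?_)
    have := RingHom.congr_fun hτ (residue D (algebraMap B D b))
    change τ (residue Bh (algebraMap D Bh (algebraMap B D b))) =
      residue T (f (algebraMap B D b)) at this
    rw [← IsScalarTower.algebraMap_apply] at this
    exact this
  obtain ⟨g, ⟨hg, hgr⟩, huniq⟩ := hB.universal T (f.comp (algebraMap B D)) τ hτB
  have hB' : (g.comp (algebraMap D Bh)).comp (algebraMap B D) = f.comp (algebraMap B D) := by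
    rw [RingHom.comp_assoc, ← IsScalarTower.algebraMap_eq]; exact hg
  have hτj : ∀ y, τ (residue Bh (algebraMap D Bh (j y))) = residue T (f (j y)) := fun y ↦
    RingHom.congr_fun hτ (residue D (j y))
  have hA' : (g.comp (algebraMap D Bh)).comp j = f.comp j := by
    haveI : IsLocalHom ((f.comp j).comp (algebraMap A Ah)) := inferInstance
    let τ' : ResidueField Ah →+* ResidueField T := ResidueField.map (f.comp j)
    refine (hA.universal T ((f.comp j).comp (algebraMap A Ah)) τ' ?_).unique ⟨?_, fun y ↦ ?_⟩
      ⟨rfl, fun y ↦ rfl⟩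
    · exact Ideal.Quotient.ringHom_ext (RingHom.ext fun a ↦ rfl)
    · ext a
      show g (algebraMap D Bh (j (algebraMap A Ah a))) = f (j (algebraMap A Ah a))
      rw [hj]
      exact RingHom.congr_fun hB' _
    · exact (hgr _).trans (hτj y)
  refine ⟨g, ⟨hgen T _ _ hA' hB', hgr⟩, fun g' hg' ↦ huniq g' ⟨?_, hg'.2⟩⟩
  rw [IsScalarTower.algebraMap_eq B D Bh, ← RingHom.comp_assoc, hg'.1]

end GrothLib.Hensel
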